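import Mathlib
import Cfsg.Agent.Lib.A7S.Defs
import Cfsg.Agent.Lib.Inv73.Transfer

/-! Generic lemmas. -/

set_option autoImplicit false

namespace H25.A7

open Subgroup H69 H36.SW

variable {G : Type*} [Group G] [Finite G]

theorem syl_of_norm {t : G} {P L : Subgroup G} (hP : IsPGroup 2 P) (hL : P ≤ L)
    (h1 : IsSylowIn 2 (P ⊓ centralizer {t}) (L ⊓ centralizer {t}))
    (h2 : ∀ k ∈ L, k ∈ 𝐍(P) → ∃ p ∈ P, k * t * k⁻¹ = p * t * p⁻¹) : IsSylowIn 2 P L := by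
  refine isSylowIn_of_normalizer hL ⟨le_inf hL le_normalizer, hP, fun R hPR hR hRp => le_antisymm (fun k hk => ?_) hPR⟩
  obtain ⟨p, hp, e⟩ := h2 k (hR hk).1 (hR hk).2
  have e1 := h1.max (R ⊓ centralizer {t}) (inf_le_inf_right _ hPR)
    (inf_le_inf_right _ (hR.trans inf_le_left)) (hRp.to_le inf_le_left)
  have m : p⁻¹ * k ∈ R ⊓ centralizer {t} := ⟨R.mul_mem (R.inv_mem (hPR hp)) hk, mem_centralizer_singleton_iff.2 (by
    calc p⁻¹ * k * t = p⁻¹ * (k * t * k⁻¹) * k := by group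
      _ = t * (p⁻¹ * k) := by rw [e]; group)⟩
  rw [e1] at m
  simpa using mul_mem hp m.1

theorem card_orbit (t : G) (N : Subgroup G) : Nat.card N =
    Set.ncard {s | ∃ n ∈ N, n * t * n⁻¹ = s} * Nat.card (N ⊓ centralizer {t} : Subgroup G) := by
  letI : MulAction N G := MulAction.compHom G ((MulAut.conj (G := G)).comp N.subtype)
  have h1 : MulAction.orbit N t = {s | ∃ n ∈ N, n * t * n⁻¹ = s} := by
    ext s
    exact ⟨fun ⟨n, e⟩ => ⟨n, n.2, e⟩, fun ⟨n, hn, e⟩ => ⟨⟨n, hn⟩, e⟩⟩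
  have h2 : MulAction.stabilizer N t = (N ⊓ centralizer {t}).subgroupOf N := by
    ext n
    rw [mem_subgroupOf, mem_inf, mem_centralizer_singleton_iff, and_iff_right n.2, ← mul_inv_eq_iff_eq_mul]
    rfl
  rw [← h1, ← MulAction.index_stabilizer, h2, ← Nat.card_congr (subgroupOfEquivOfLe inf_le_left).toEquiv,
    index_mul_card]

theorem ret {t : G} {N P : Subgroup G} (hP : IsPGroup 2 P) (hN : P ≤ N) {k : ℕ}
    (h : Set.ncard {s | ∃ n ∈ N, n * t * n⁻¹ = s} = 2 ^ k) :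
    ∃ S, IsSylowIn 2 S N ∧ P ≤ S ∧ ∀ n ∈ N, ∃ s ∈ S, s * t * s⁻¹ = n * t * n⁻¹ := by
  obtain ⟨S, hS, hPS⟩ := exists_isSylowIn_le hP hN
  obtain ⟨T, hT⟩ := exists_isSylowIn 2 (N ⊓ centralizer {t})
  refine ⟨S, hS, hPS, fun n hn => ?_⟩
  have e1 := card_orbit t N
  have e2 := card_orbit t S
  have e3 := hT.card_le (hS.isP.to_le (inf_le_left (b := centralizer {t}))) (inf_le_inf_right _ hS.le)
  have e4 : Nat.card S = 2 ^ k * Nat.card T := by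
    rw [hS.card_eq_pow_factorization, hT.card_eq_pow_factorization, e1, h,
      Nat.factorization_mul (by positivity) Nat.card_pos.ne', Nat.prime_two.factorization_pow, ← pow_add]
    simp
  have e5 : 2 ^ k ≤ Set.ncard {s | ∃ n ∈ S, n * t * n⁻¹ = s} := by
    refine Nat.le_of_mul_le_mul_right (c := Nat.card (S ⊓ centralizer {t} : Subgroup G)) ?_ Nat.card_pos
    rw [← e2, e4]
    exact Nat.mul_le_mul_left _ e3
  have e6 := Set.eq_of_subset_of_ncard_le (s := {s | ∃ n ∈ S, n * t * n⁻¹ = s})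
    (t := {s | ∃ n ∈ N, n * t * n⁻¹ = s}) (fun _ ⟨m, hm, e⟩ => ⟨m, hS.le hm, e⟩) (h ▸ e5)
  exact (e6.ge ⟨n, hn, rfl⟩ :)

theorem exists_odd {W C : Subgroup G} (h : IsSylowIn 2 W C) (hc : W ≤ 𝐂(C)) : ∃ O : Subgroup G,
    (∀ o, o ∈ O ↔ o ∈ C ∧ Odd (orderOf o)) ∧ ∀ c ∈ C, ∃ w ∈ W, ∃ o ∈ O, c = w * o := by
  obtain ⟨P, hP⟩ := h.exists_sylow_subgroupOf
  have hN : normalizer ((P : Subgroup C) : Set C) ≤ centralizer ((P : Subgroup C) : Set C) := fun c _ x hx => by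
    rw [SetLike.mem_coe, hP, mem_subgroupOf] at hx
    exact Subtype.ext (hc hx c c.2).symm
  refine ⟨(MonoidHom.transferSylow P hN).ker.map C.subtype, fun o => ⟨?_, fun ⟨h1, h2⟩ => ⟨⟨o, h1⟩, ?_, rfl⟩⟩,
    fun c hc' => ?_⟩
  · rintro ⟨x, hx, rfl⟩
    refine ⟨x.2, ?_⟩
    rw [← Nat.not_even_iff_odd, even_iff_two_dvd, coe_subtype, orderOf_coe]
    exact fun hd => MonoidHom.not_dvd_card_ker_transferSylow P hN (hd.trans (orderOf_dvd_natCard _ hx))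
  · refine P2.eq_one (P.isPGroup' _) (Odd.of_dvd_nat h2 ?_)
    rw [← orderOf_mk o h1]
    exact orderOf_map_dvd _ _
  · obtain ⟨⟨w, o⟩, e⟩ := (MonoidHom.ker_transferSylow_isComplement' P hN).symm.2 ⟨c, hc'⟩
    have hw : (w : C) ∈ W.subgroupOf C := hP ▸ w.2
    exact ⟨_, hw, _, ⟨o, o.2, rfl⟩, (congrArg Subtype.val e).symm⟩

theorem odd_cent {P N : Subgroup G} (hN : IsPGroup 2 N) {o : G} (ho : Odd (orderOf o)) (h1 : o ∈ 𝐂(N))
    (h2 : ∀ x ∈ P, x⁻¹ * (o * x * o⁻¹) ∈ N) : o ∈ 𝐂(P) := by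
  intro x hx
  have hn := h2 x hx
  have key : ∀ k : ℕ, o ^ k * x * (o ^ k)⁻¹ = x * (x⁻¹ * (o * x * o⁻¹)) ^ k := by
    intro k
    induction k with
    | zero => simp
    | succ k ih =>
      have c := h1 _ (pow_mem hn k)
      calc o ^ (k + 1) * x * (o ^ (k + 1))⁻¹ = o * (o ^ k * x * (o ^ k)⁻¹) * o⁻¹ := by rw [pow_succ']; group
        _ = o * x * o⁻¹ * (o * (x⁻¹ * (o * x * o⁻¹)) ^ k) * o⁻¹ := by rw [ih]; group
        _ = x * (x⁻¹ * (o * x * o⁻¹)) ^ (k + 1) := by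
          rw [← c, pow_succ', ← mul_assoc x, mul_inv_cancel_left, mul_assoc, mul_inv_cancel_right]
  have e := key (orderOf o)
  rw [pow_orderOf_eq_one, one_mul, inv_one, mul_one, left_eq_mul] at e
  have e1 := (P2.of_mem hN hn).eq_one (ho.of_dvd_nat (orderOf_dvd_of_pow_eq_one e))
  rw [inv_mul_eq_one, eq_mul_inv_iff_mul_eq] at e1
  exact e1

theorem syl_sup_odd {Q O : Subgroup G} (hQ : IsPGroup 2 Q) (hO : ∀ o ∈ O, Odd (orderOf o)) (hn : Q ≤ 𝐍(O)) :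
    IsSylowIn 2 Q (Q ⊔ O) := by
  refine ⟨le_sup_left, hQ, fun R h1 h2 h3 => le_antisymm (fun r hr => ?_) h1⟩
  obtain ⟨q, hq, o, ho, rfl⟩ := (mem_sup_of_le_normalizer_right hn).1 (h2 hr)
  rw [(P2.of_mem h3 ((mul_mem_cancel_left (h1 hq)).1 hr)).eq_one (hO o ho), mul_one]
  exact hq

theorem frat_odd {Q O : Subgroup G} (hQ : IsPGroup 2 Q) (hO : ∀ o ∈ O, Odd (orderOf o)) (hn : Q ≤ 𝐍(O))
    {g : G} (h : Q ^ᶜ g ≤ Q ⊔ O) : ∃ o ∈ O, o * g ∈ 𝐍(Q) := by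
  obtain ⟨k, hk, e⟩ := (syl_sup_odd hQ hO hn).exists_cj_le (isPGroup_cj hQ g) h
  rw [cj_cj] at e
  obtain ⟨q, hq, o, ho, rfl⟩ := (mem_sup_of_le_normalizer_right hn).1 hk
  refine ⟨o, ho, ?_⟩
  simpa [mul_assoc] using mul_mem (inv_mem (le_normalizer hq)) (mem_normalizer_of_cj_le e)

theorem odd_norm_cent {Q O : Subgroup G} (hQ : IsPGroup 2 Q) (hO : ∀ o ∈ O, Odd (orderOf o)) (hn : Q ≤ 𝐍(O))
    {o : G} (ho : o ∈ O) (h : o ∈ 𝐍(Q)) : o ∈ 𝐂(Q) := by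
  intro x hx
  have h1 : x⁻¹ * o * x * o⁻¹ ∈ O := mul_mem (conj_mem_of_mem_normalizer' (hn hx) ho) (inv_mem ho)
  have h2 : x⁻¹ * o * x * o⁻¹ ∈ Q := by
    simpa only [mul_assoc] using mul_mem (inv_mem hx) (conj_mem_of_mem_normalizer h hx)
  have e := (P2.of_mem hQ h2).eq_one (hO _ h1)
  rw [mul_inv_eq_one, mul_assoc, inv_mul_eq_iff_eq_mul] at e
  exact e.symm

theorem dih2 {a b : G} (ha : a * a = 1) (hb : b * b = 1) :
    ∃ o ∈ zpowers ((a * b) ^ 4), Odd (orderOf o) ∧ P2 (a * (o * b * o⁻¹)) := by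
  obtain ⟨e, m, hm, hn⟩ := Nat.exists_eq_two_pow_mul_odd (orderOf_pos (a * b)).ne'
  have hc : IsCoprime ((2 : ℤ) ^ (e + 3)) (m : ℤ) := by
    have : Nat.Coprime (2 ^ (e + 3)) m := Nat.Coprime.pow_left _ ((Nat.coprime_two_left).2 hm)
    exact_mod_cast Nat.isCoprime_iff_coprime.2 this
  obtain ⟨x, y, hxy⟩ := hc
  have h1 : (a * b) ^ ((2 : ℤ) ^ e * m) = 1 := by
    have := pow_orderOf_eq_one (a * b)
    rw [hn, ← zpow_natCast] at this
    exact_mod_cast this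
  have e4 : ((a * b) ^ 4) ^ (2 ^ e * x) = (a * b) ^ (4 * (2 ^ e * x) : ℤ) := by
    rw [zpow_mul (a * b) 4]
    norm_cast
  refine ⟨((a * b) ^ 4) ^ (2 ^ e * x), ⟨_, rfl⟩, hm.of_dvd_nat (orderOf_dvd_of_pow_eq_one ?_), e, ?_⟩
  · rw [e4, ← zpow_natCast, ← zpow_mul, show 4 * (2 ^ e * x) * (m : ℤ) = (2 ^ e * m) * (4 * x) by ring, zpow_mul, h1,
      one_zpow]
  · have h2 := H9.right_mul_zpow ha hb (-(4 * (2 ^ e * x)))
    rw [neg_neg] at h2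
    rw [e4, ← h2, ← zpow_neg, mul_assoc b, ← mul_assoc a, ← zpow_add, ← zpow_one_add, ← zpow_natCast, ← zpow_mul,
      show (1 + (-(4 * (2 ^ e * x)) + -(4 * (2 ^ e * x)))) * ((2 ^ e : ℕ) : ℤ) = (2 ^ e * m) * y by
        push_cast
        linear_combination (-(2 : ℤ) ^ e) * hxy,
      zpow_mul, h1, one_zpow]

theorem burnside {T : Subgroup G} {t s g : G} (hT : IsSylowIn 2 T (centralizer {t})) (e : g * t * g⁻¹ = s)
    (hs : T ≤ centralizer {s}) : ∃ n ∈ 𝐍(T), n * t * n⁻¹ = s := by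
  have h1 := hT.cj g
  rw [cj_centralizer_singleton, e] at h1
  obtain ⟨k, hk, e1⟩ := h1.conj (h1.of_card_le hT.isP hs (card_cj T g).le)
  rw [cj_cj, cj_eq_self_iff] at e1
  refine ⟨k * g, e1, ?_⟩
  rw [mem_centralizer_singleton_iff] at hk
  calc k * g * t * (k * g)⁻¹ = k * (g * t * g⁻¹) * k⁻¹ := by group
    _ = s := by rw [e, hk, mul_inv_cancel_right]

theorem mem_of_P2_norm {T L : Subgroup G} (hT : IsSylowIn 2 T L) {x : G} (hx : x ∈ L) (h2 : P2 x)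
    (hn : x ∈ 𝐍(T)) : x ∈ T := by
  exact hT.le_of_le_normalizer' h2.zpowers (zpowers_le.2 hx) (zpowers_le.2 hn) (mem_zpowers x)

theorem isP_sup {P : Subgroup G} (hP : IsPGroup 2 P) {x : G} (h2 : P2 x) (hn : x ∈ 𝐍(P)) :
    IsPGroup 2 (P ⊔ zpowers x : Subgroup G) := by
  exact hP.to_sup_of_normal_left' h2.zpowers (zpowers_le.2 hn)

theorem mem_adj {P : Subgroup G} {x : G} (hn : x ∈ 𝐍(P)) (h2 : x * x ∈ P) {y : G} :
    y ∈ P ⊔ zpowers x ↔ y ∈ P ∨ y * x⁻¹ ∈ P := by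
  constructor
  · intro h
    obtain ⟨p, hp, _, ⟨k, rfl⟩, rfl⟩ := (mem_sup_of_le_normalizer_left (zpowers_le.2 hn)).1 h
    obtain ⟨j, rfl | rfl⟩ := Int.even_or_odd' k
    · exact .inl (mul_mem hp (by simpa only [zpow_mul, zpow_two] using zpow_mem h2 j))
    · refine .inr ?_
      simp only [zpow_add, zpow_one, mul_assoc, mul_inv_cancel, mul_one, zpow_mul, zpow_two]
      exact mul_mem hp (zpow_mem h2 j)
  · rintro (h | h)
    · exact mem_sup_left h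
    · simpa using mul_mem (mem_sup_left h : _ ∈ P ⊔ zpowers x) (mem_sup_right (mem_zpowers x))

theorem card_adj {P : Subgroup G} {x : G} (hn : x ∈ 𝐍(P)) (h2 : x * x ∈ P) (hx : x ∉ P) :
    Nat.card (P ⊔ zpowers x : Subgroup G) = 2 * Nat.card P := by
  have h : P.relIndex (P ⊔ zpowers x) = 2 :=
    relIndex_eq_two_iff.2 ⟨x⁻¹, inv_mem (mem_sup_right (mem_zpowers x)), fun b hb => by
      have h3 : ¬ (b * x⁻¹ ∈ P ∧ b ∈ P) := fun ⟨k1, k2⟩ => hx (by simpa using (mul_mem_cancel_left k2).1 k1)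
      have h4 := (mem_adj hn h2).1 hb
      unfold Xor
      tauto⟩
  rw [← index_mul_card (P.subgroupOf (P ⊔ zpowers x)), Nat.card_congr (subgroupOfEquivOfLe le_sup_left).toEquiv]
  exact congrArg (· * _) h

theorem exists_two_inv {R : Subgroup G} (hR : IsPGroup 2 R) {s c : G} (hs : s * s = 1) (hn : s ∈ 𝐍(R))
    (hc : ∀ r ∈ R, r * s = s * r → r = 1 ∨ r = c) (h4 : 2 < Nat.card R) :
    c ≠ 1 ∧ c ∈ R ∧ ∃ r ∈ R, r * s * r⁻¹ = s * c := by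
  have hlt : (R ⊔ zpowers s) ⊓ centralizer {s} < R ⊔ zpowers s := by
    refine lt_of_le_of_ne inf_le_left fun e => h4.not_ge ?_
    have h1 : (R : Set G) ⊆ {1, c} := fun r hr =>
      hc r hr (mem_centralizer_singleton_iff.1 (e.ge (mem_sup_left hr)).2)
    exact (Set.ncard_le_ncard h1).trans ((Set.ncard_insert_le _ _).trans (by simp))
  obtain ⟨k, ⟨hk, hkn⟩, hk'⟩ := SetLike.exists_of_lt (lt_inf_normalizer_of_lt (isP_sup hR (P2.of_sq hs) hn) hlt)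
  have m := (conj_mem_of_mem_normalizer hkn
    (⟨mem_sup_right (mem_zpowers s), mem_centralizer_singleton_iff.2 rfl⟩ :
      s ∈ (R ⊔ zpowers s) ⊓ centralizer {s})).2
  obtain ⟨r, hr, σ, ⟨j, rfl⟩, rfl⟩ := (mem_sup_of_le_normalizer_left (zpowers_le.2 hn)).1 hk
  have e : r * s ^ j * s * (r * s ^ j)⁻¹ = r * s * r⁻¹ := by group
  replace m : r * s * r⁻¹ * s = s * (r * s * r⁻¹) := e ▸ mem_centralizer_singleton_iff.1 m
  have hd : s⁻¹ * (r * s * r⁻¹) ∈ R := by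
    simpa only [mul_assoc] using mul_mem (conj_mem_of_mem_normalizer' hn hr) (inv_mem hr)
  have hd1 : s⁻¹ * (r * s * r⁻¹) ≠ 1 := fun e1 => hk' ⟨hk, mem_centralizer_singleton_iff.2 (by
    rw [inv_mul_eq_one, eq_mul_inv_iff_mul_eq] at e1
    show r * s ^ j * s = s * (r * s ^ j)
    rw [← mul_assoc, e1]
    group)⟩
  have hd2 := (hc _ hd (by rw [mul_assoc, mul_inv_cancel_left]; exact inv_mul_eq_iff_eq_mul.2 m)).resolve_left hd1
  exact ⟨hd2 ▸ hd1, hd2 ▸ hd, r, hr, by rw [← hd2, mul_inv_cancel_left]⟩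

theorem thompson {E S M : Subgroup G} (hn : E.Normal) (hs : IsSimpleGroup E) (hc : ¬ E ≤ 𝐂(E)) {t : G}
    (tt : t * t = 1) (hS : IsSylowIn 2 S ⊤) (hM : M ≤ S) (tS : t ∈ S) (h2 : ∀ s ∈ S, s ∈ M ∨ s * t ∈ M)
    (h : ∀ g, g * t * g⁻¹ ∉ M) : t ∉ E := by
  intro tE
  have tM : t ∉ M := by simpa using h 1
  have t1 : t ≠ 1 := fun e => tM (e ▸ one_mem M)
  obtain ⟨P, hP⟩ := hS.exists_sylow_top
  have hi : M.relIndex S = 2 := relIndex_eq_two_iff.2 ⟨t, tS, fun b hb => by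
    have h3 : ¬ (b * t ∈ M ∧ b ∈ M) := fun ⟨k1, k2⟩ => tM ((mul_mem_cancel_left k2).1 k1)
    exact (h2 b hb).elim (fun k => .inr ⟨k, fun k' => h3 ⟨k', k⟩⟩) fun k => .inl ⟨k, fun k' => h3 ⟨k, k'⟩⟩⟩
  obtain ⟨N, hN, i2, tN⟩ := H73.thompson_transfer S M (hP ▸ H73.odd_index_sylow P) hi t
    (H9.orderOf_eq_two_of_mul_self t1 tt) h
  rcases hs.eq_bot_or_eq_top_of_normal (N.subgroupOf E) inferInstance with e | e
  · refine hc fun a ha b hb => ?_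
    have m : (⟨b, hb⟩ * ⟨a, ha⟩ * ⟨b, hb⟩⁻¹ * ⟨a, ha⟩⁻¹ : E) ∈ N.subgroupOf E := by
      change b * a * b⁻¹ * a⁻¹ ∈ N
      rw [mul_mem_iff_of_index_two i2, mul_mem_iff_of_index_two i2, mul_mem_iff_of_index_two i2, inv_mem_iff,
        inv_mem_iff]
      generalize (a ∈ N) = p
      generalize (b ∈ N) = q
      tauto
    rw [e, mem_bot, mul_inv_eq_one, mul_inv_eq_iff_eq_mul] at m
    exact congrArg Subtype.val m
  · exact tN (subgroupOf_eq_top.1 e tE)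

end H25.A7
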