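import Mathlib
import Cfsg.Agent.Lib.A7S.Bas1

/-! Consequences of Sylow theory (side 1; use `F.sw` for side 2). -/

set_option autoImplicit false

namespace H25.A7

open Subgroup H69 H36.SW

variable {G : Type*} [Group G] [Finite G]

namespace B2

theorem norm_gen {s : Set G} {g : G} (h : ∀ x ∈ s, g * x * g⁻¹ ∈ closure s) : g ∈ 𝐍(closure s) :=
  mem_normalizer_of_cj_le (by
    rw [MonoidHom.map_closure, closure_le]
    rintro _ ⟨x, hx, rfl⟩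
    exact h x hx)

omit [Finite G] in
theorem cent_gen {s : Set G} {g : G} (h : ∀ x ∈ s, x * g = g * x) : g ∈ 𝐂(closure s) := by
  rw [centralizer_closure]; exact h

omit [Finite G] in
theorem cj_of_comm {g x : G} (h : g * x = x * g) : g * x * g⁻¹ = x := by rw [h, mul_inv_cancel_right]

omit [Finite G] in
theorem comm_of_cj {g x : G} (h : g * x * g⁻¹ = x) : g * x = x * g := mul_inv_eq_iff_eq_mul.1 h

omit [Finite G] in
theorem cj_mul (g a b : G) : g * (a * b) * g⁻¹ = g * a * g⁻¹ * (g * b * g⁻¹) := by group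

omit [Finite G] in
theorem cj_inj' {g a b : G} (h : g * a * g⁻¹ = g * b * g⁻¹) : a = b := mul_left_cancel (mul_right_cancel h)

omit [Finite G] in
theorem comm_cj {y x : G} (g : G) (h : y * x = x * y) :
    g * y * g⁻¹ * (g * x * g⁻¹) = g * x * g⁻¹ * (g * y * g⁻¹) := by rw [← cj_mul, h, cj_mul]

omit [Finite G] in
theorem odd_cj {o : G} (h : Odd (orderOf o)) (g : G) : Odd (orderOf (g * o * g⁻¹)) := by
  rwa [← MulAut.conj_apply, MulEquiv.orderOf_eq]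

omit [Finite G] in
theorem odd_comm {o v : G} (ho : Odd (orderOf o)) (h : o * o * v = v * (o * o)) : o * v = v * o := by
  obtain ⟨n, hn⟩ := ho
  have e : (o * o) ^ (n + 1) = o := by
    rw [← pow_two, ← pow_mul, show 2 * (n + 1) = orderOf o + 1 by omega, pow_succ, pow_orderOf_eq_one, one_mul]
  have := (Commute.pow_left (show Commute (o * o) v from h) (n + 1)).eq
  rwa [e] at this

theorem split (g : G) : ∃ m : ℕ, P2 (g ^ m) ∧ Odd (orderOf ((g ^ m)⁻¹ * g)) := by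
  obtain ⟨a, n, hn, e⟩ := Nat.exists_eq_pow_mul_and_not_dvd (orderOf_pos g).ne' 2 (by decide)
  obtain ⟨m, K, h1, h2⟩ := exists_ppart g Nat.prime_two a
  refine ⟨m, ⟨K, h2⟩, Odd.of_dvd_nat (Nat.odd_iff.2 (by omega) : Odd n) (orderOf_dvd_of_pow_eq_one ?_)⟩
  rw [((Commute.refl g).pow_left m).inv_left.mul_pow, inv_pow, ← pow_mul, inv_mul_eq_one,
    pow_eq_pow_iff_modEq, e]
  simpa using h1.mul_right' n

omit [Finite G] in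
theorem norm_cj {A B : Subgroup G} {g y : G} (e : A ^ᶜ g = B) (h : y ∈ 𝐍(A)) : g * y * g⁻¹ ∈ 𝐍(B) := by
  rw [← e, ← cj_normalizer]; exact cj_mem g h

end B2

open B2

namespace Fr
variable (F : Fr G)

theorem sylT : IsSylowIn 2 F.T (centralizer {F.t}) := F.syl

theorem isPT : IsPGroup 2 F.T := F.syl.isP

theorem om_t : F.Om F.t := ⟨1, by simp⟩

theorem Om.cj {F : Fr G} {s : G} (h : F.Om s) (g : G) : F.Om (g * s * g⁻¹) := by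
  obtain ⟨k, rfl⟩ := h
  exact ⟨g * k, by group⟩

theorem Om.of_cj {F : Fr G} {s : G} (g : G) (h : F.Om (g * s * g⁻¹)) : F.Om s := by
  have := h.cj g⁻¹
  rwa [show g⁻¹ * (g * s * g⁻¹) * g⁻¹⁻¹ = s by group] at this

theorem Om.sq {F : Fr G} {s : G} (h : F.Om s) : s * s = 1 ∧ s ≠ 1 := by
  obtain ⟨k, rfl⟩ := h
  exact ⟨cjsq F.tt k, cjne F.t1 k⟩

theorem b2_zV : F.z ∈ F.V1 := subset_closure (by simp)
theorem b2_vV : F.v1 ∈ F.V1 := subset_closure (by simp)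
theorem b2_uX : F.u1 ∈ F.X1 := subset_closure (by simp)
theorem b2_tW : F.t ∈ F.W1 := subset_closure (by simp)
theorem b2_zX : F.z ∈ F.X1 := F.V1X1 F.b2_zV
theorem b2_vX : F.v1 ∈ F.X1 := F.V1X1 F.b2_vV
theorem b2_vW : F.v1 ∈ F.W1 := F.X1W1 F.b2_vX
theorem b2_v1T : F.v1 ∈ F.T := F.W1T F.b2_vW
theorem b2_W2T : F.W2 ≤ F.T := F.sw_T ▸ F.sw.W1T
theorem b2_v2T : F.v2 ∈ F.T := F.b2_W2T F.sw.b2_vW
theorem b2_tZ : F.t ∈ F.ZT := subset_closure (by simp)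
theorem b2_zZ : F.z ∈ F.ZT := subset_closure (by simp)
theorem b2_uZ : F.u1 ∈ F.ZT := subset_closure (by simp)
theorem b2_card : Nat.card F.W2 = Nat.card F.W1 := by
  have := F.sw.cardW1
  rw [F.sw_F0, F.sw_W1] at this
  rw [this, F.cardW1]
theorem b2_v1 : F.v1 ≠ 1 := F.y1z ▸ cjne F.z1 F.y1
theorem b2_vz : F.v1 ≠ F.z := fun e => F.y1nz (comm_of_cj (F.y1z.trans e))
theorem b2_tt (x : G) : F.t * (F.t * x) = x := by rw [← mul_assoc, F.tt, one_mul]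
theorem b2_zz (x : G) : F.z * (F.z * x) = x := by rw [← mul_assoc, F.zz, one_mul]
theorem b2_v2i : F.v2⁻¹ = F.v2 := inv_eq_of_mul_eq_one_right F.v22
theorem b2_v2v : F.v2 * F.v1 * F.v2⁻¹ = F.z * F.v1 := by rw [F.b2_v2i]; exact F.sw.v121

theorem b2_into {s : G} (h : F.Om s) {P : Subgroup G} (hP : IsPGroup 2 P) (hs : P ≤ centralizer {s}) :
    ∃ k, k * F.t * k⁻¹ = s ∧ P ^ᶜ k⁻¹ ≤ F.T := by
  obtain ⟨g, rfl⟩ := h
  rw [← cj_centralizer_singleton, le_cj_iff] at hs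
  obtain ⟨c, hc, e⟩ := F.sylT.exists_cj_le (isPGroup_cj hP _) hs
  refine ⟨g * c⁻¹, ?_, by rwa [mul_inv_rev, inv_inv, ← cj_cj]⟩
  have := cj_of_comm (mem_centralizer_singleton_iff.1 (inv_mem hc))
  conv_rhs => rw [← this]
  group

theorem two_le {s : G} (h : F.Om s) {P : Subgroup G} (hP : IsPGroup 2 P) (hs : P ≤ centralizer {s}) :
    Nat.card P ≤ Nat.card F.T := by
  obtain ⟨k, -, e⟩ := F.b2_into h hP hs
  rw [← card_cj P k⁻¹]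
  exact card_le_of_le e

theorem b2_ea {X : Subgroup G} (h2 : ∀ x ∈ X, x * x = 1) {k : G} (e : X ^ᶜ k ≤ F.T) :
    X ^ᶜ k ≤ F.W1 ∨ X ^ᶜ k ≤ F.W2 := F.eaT e fun x hx => by
  obtain ⟨a, ha, rfl⟩ := mem_cj'.1 hx
  exact cjsq (h2 a ha) k

theorem ea_le {s : G} (h : F.Om s) {X : Subgroup G} (h2 : ∀ x ∈ X, x * x = 1) (hs : X ≤ centralizer {s}) :
    Nat.card X ≤ Nat.card F.W1 := by
  obtain ⟨k, -, e⟩ := F.b2_into h (isP_of_P2 fun x hx => .of_sq (h2 x hx)) hs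
  rw [← card_cj X k⁻¹]
  exact (F.b2_ea h2 e).elim card_le_of_le fun e => (card_le_of_le e).trans F.b2_card.le

theorem b2_ea' {X : Subgroup G} (h2 : ∀ x ∈ X, x * x = 1) (hc : Nat.card F.W1 ≤ Nat.card X) {k : G}
    (e : X ^ᶜ k ≤ F.T) : X ^ᶜ k = F.W1 ∨ X ^ᶜ k = F.W2 :=
  (F.b2_ea h2 e).imp (fun e => eq_of_le_of_card_ge e (by rwa [card_cj])) fun e =>
    eq_of_le_of_card_ge e (by rwa [card_cj, F.b2_card])

theorem ea_cj {s : G} (h : F.Om s) {X : Subgroup G} (h2 : ∀ x ∈ X, x * x = 1) (hs : X ≤ centralizer {s})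
    (hc : Nat.card F.W1 ≤ Nat.card X) : ∃ k, k * F.t * k⁻¹ = s ∧ (F.W1 ^ᶜ k = X ∨ F.W2 ^ᶜ k = X) := by
  obtain ⟨k, hk, e⟩ := F.b2_into h (isP_of_P2 fun x hx => .of_sq (h2 x hx)) hs
  exact ⟨k, hk, (F.b2_ea' h2 hc e).imp (fun e => by rw [← e, cj_inv_cj]) fun e => by rw [← e, cj_inv_cj]⟩

theorem burn {s : G} (h : F.Om s) (hs : s ∈ F.ZT) : ∃ g ∈ 𝐍(F.T), g * F.t * g⁻¹ = s := by
  obtain ⟨g, e⟩ := h
  exact burnside F.sylT e fun x hx => mem_centralizer_singleton_iff.2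
    (mem_centralizer_iff_commute.1 ((F.cenT (F.W1T (F.ZTW1 hs))).2 hs) x hx)

theorem Nz {g : G} (hg : g ∈ 𝐍(F.T)) : g * F.z = F.z * g := by
  have e : g * F.z * g⁻¹ = g * (F.v1 * F.v2) * g⁻¹ * (g * (F.v1 * F.v2) * g⁻¹) := by
    rw [← cj_mul, ← mul_assoc (F.v1 * F.v2), F.hz]
  exact comm_of_cj (e ▸ (F.sqT (conj_mem_of_mem_normalizer hg (mul_mem F.b2_v1T F.b2_v2T))).resolve_left
    (e ▸ cjne F.z1 g))

theorem NZT {g : G} (hg : g ∈ 𝐍(F.T)) : g ∈ 𝐍(F.ZT) := by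
  have e : F.ZT = F.T ⊓ 𝐂(F.T) := le_antisymm
    (fun x hx => ⟨F.W1T (F.ZTW1 hx), (F.cenT (F.W1T (F.ZTW1 hx))).2 hx⟩) fun x hx => (F.cenT hx.1).1 hx.2
  rw [e]
  exact le_normalizer_inf le_rfl (normalizer_le_normalizer_centralizer _) hg

theorem nz : ¬ F.Om F.z := fun h => by
  obtain ⟨g, hg, e⟩ := F.burn h F.b2_zZ
  exact F.tX1 (cj_inj' (e.trans (cj_of_comm (F.Nz hg)).symm) ▸ F.b2_zX)

theorem nV1 {s : G} (hs : s ∈ F.V1) : ¬ F.Om s := fun h => by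
  have n : ¬ F.Om F.v1 := fun h => F.nz (.of_cj F.y1 (F.y1z ▸ h))
  rcases F.memV1.1 hs with rfl | rfl | rfl | rfl
  exacts [h.sq.2 rfl, F.nz h, n h, n (.of_cj F.y1 (F.y1v ▸ h))]

theorem b2_y1V : F.y1 ∈ 𝐍(F.V1) := (F.nW1 F.y1 F.y1t F.y1N).2

theorem b2_NX {g : G} (hV : g ∈ 𝐍(F.V1)) (hu : g * F.u1 = F.u1 * g) : g ∈ 𝐍(F.X1) := norm_gen (by
  rintro x (rfl | rfl | rfl)
  · exact F.V1X1 (conj_mem_of_mem_normalizer hV F.b2_zV)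
  · exact F.V1X1 (conj_mem_of_mem_normalizer hV F.b2_vV)
  · exact (cj_of_comm hu).symm ▸ F.b2_uX)

/-- move an element of `W1` into `Z(T)` -/
theorem b2_red {s : G} (hs : s ∈ F.W1) : ∃ a, a * F.t * a⁻¹ = F.t ∧ a * F.u1 * a⁻¹ = F.u1 ∧ a ∈ 𝐍(F.V1) ∧
    a ∈ 𝐍(F.X1) ∧ a * s * a⁻¹ ∈ F.ZT := by
  obtain ⟨i, hi⟩ := F.toZT hs
  exact ⟨F.y1 ^ i, cj_of_comm (Commute.pow_left F.y1t i).eq, cj_of_comm (Commute.pow_left F.y1u i).eq,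
    pow_mem F.b2_y1V i, pow_mem (F.b2_NX F.b2_y1V F.y1u) i, hi⟩

theorem b2_tX {x : G} (h : x ∈ F.X1) : F.t * x ∉ F.X1 := fun k => F.tX1 ((mul_mem_cancel_right h).1 k)

theorem b2_nF (h1 : ¬ F.Om F.u1) (h2 : ¬ F.Om F.u2) {s : G} (hs : s ∈ F.F0) : ¬ F.Om s := fun h => by
  rcases F.memF0.1 hs with rfl | rfl | rfl | rfl
  · exact h.sq.2 rfl
  · exact F.nz h
  · exact h1 h
  · by_cases e : F.u1 = 1
    · exact F.nz (by rwa [e, mul_one] at h)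
    · exact h2 (F.u2_eq e ▸ h)

theorem nX1 (h1 : ¬ F.Om F.u1) (h2 : ¬ F.Om F.u2) {s : G} (hs : s ∈ F.X1) : ¬ F.Om s := fun h => by
  obtain ⟨a, -, -, -, hX, hZ⟩ := F.b2_red (F.X1W1 hs)
  exact (F.memZT.1 hZ).elim (fun k => F.b2_nF h1 h2 k (h.cj a)) fun k =>
    F.b2_tX (conj_mem_of_mem_normalizer hX hs) (F.F0X1 k)

theorem permW {g : G} (hg : g ∈ 𝐍(F.T)) : (g ∈ 𝐍(F.W1) ∧ g ∈ 𝐍(F.W2)) ∨ (F.W1 ^ᶜ g = F.W2 ∧ F.W2 ^ᶜ g = F.W1) := by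
  have ne : F.W1 ≠ F.W2 := fun e => F.W12 1 (by simp) ((cj_one _).trans e)
  rcases F.b2_ea' (fun _ => F.sqW1) le_rfl (cj_le_of_mem_normalizer F.W1T hg) with a | a <;>
    rcases F.b2_ea' (fun _ => F.sw.sqW1) F.b2_card.ge (cj_le_of_mem_normalizer F.b2_W2T hg) with b | b
  · exact (ne (cj_inj.1 (a.trans b.symm))).elim
  · exact .inl ⟨cj_eq_self_iff.1 a, cj_eq_self_iff.1 b⟩
  · exact .inr ⟨a, b⟩
  · exact (ne (cj_inj.1 (a.trans b.symm))).elim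

theorem b2_WC : F.W1 ≤ 𝐂(F.W1) := fun _ hx =>
  mem_centralizer_iff_commute.2 fun _ ha => comm_of_sq (fun _ => F.sqW1) ha hx

theorem sylW1 : IsSylowIn 2 F.W1 𝐂(F.W1) := by
  refine ⟨F.b2_WC, F.isPT.to_le F.W1T, fun R h1 h2 hR => le_antisymm ?_ h1⟩
  obtain ⟨c, hc, e⟩ := F.sylT.exists_cj_le hR fun x hx => mem_centralizer_singleton_iff.2
    (mem_centralizer_iff_commute.1 (h2 hx) _ F.b2_tW).symm
  have e1 := (F.b2_ea' (fun _ => F.sqW1) le_rfl ((cj_mono c h1).trans e)).resolve_right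
    (F.W12 c (mem_centralizer_singleton_iff.1 hc))
  have e2 := cj_mono c h2
  rw [cj_centralizer, e1] at e2
  rw [← cj_le_cj_iff (g := c), e1]
  exact fun x hx => (F.cenv1 (e hx)).1 (mem_centralizer_iff_commute.1 (e2 hx) _ F.b2_vW).symm

theorem p2W1 {x : G} (h : x ∈ 𝐂(F.W1)) (h2 : P2 x) : x ∈ F.W1 :=
  mem_of_P2_norm F.sylW1 h h2 (le_normalizer_of_le_centralizer le_rfl h)

theorem b2_normO {P O : Subgroup G} (h : ∀ o, o ∈ O ↔ o ∈ 𝐂(P) ∧ Odd (orderOf o)) : 𝐍(P) ≤ 𝐍(O) :=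
  le_normalizer_of_cj_le fun g hg x hx => by
    obtain ⟨a, ha, rfl⟩ := mem_cj'.1 hx
    exact (h _).2 ⟨conj_mem_of_mem_normalizer (normalizer_le_normalizer_centralizer _ hg) ((h a).1 ha).1,
      odd_cj ((h a).1 ha).2 g⟩

theorem exO1 : ∃ O : Subgroup G, (∀ o, o ∈ O ↔ o ∈ 𝐂(F.W1) ∧ Odd (orderOf o)) ∧
    (∀ c ∈ 𝐂(F.W1), ∃ w ∈ F.W1, ∃ o ∈ O, c = w * o) ∧ 𝐍(F.W1) ≤ 𝐍(O) := by
  obtain ⟨O, h1, h2⟩ := exists_odd F.sylW1 (le_centralizer_iff.1 le_rfl)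
  exact ⟨O, h1, h2, b2_normO h1⟩

theorem p2T {x : G} (h : x * F.t = F.t * x) (hn : x ∈ 𝐍(F.T)) (h2 : P2 x) : x ∈ F.T :=
  mem_of_P2_norm F.sylT (mem_centralizer_singleton_iff.2 h) h2 hn

theorem b2_ns {g : G} (h : g * F.t = F.t * g) (hn : g ∈ 𝐍(F.T)) : g ∈ 𝐍(F.W1) :=
  ((F.permW hn).resolve_right fun k => F.W12 g h k.1).1

theorem fixu {g : G} (h : g * F.t = F.t * g) (hn : g ∈ 𝐍(F.T)) : g * F.u1 = F.u1 * g :=
  (F.nW1 g h (F.b2_ns h hn)).1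

theorem b2_vc {g : G} (hz : g * F.z = F.z * g) (hV : g ∈ 𝐍(F.V1)) :
    g * F.v1 * g⁻¹ = F.v1 ∨ g * F.v1 * g⁻¹ = F.z * F.v1 := by
  rcases F.memV1.1 (conj_mem_of_mem_normalizer hV F.b2_vV) with e | e | e | e
  · exact (cjne F.b2_v1 g e).elim
  · exact (F.b2_vz (cj_inj' (e.trans (cj_of_comm hz).symm))).elim
  · exact .inl e
  · exact .inr e

theorem b2_ov {o : G} (ho : Odd (orderOf o)) (h : o * F.t = F.t * o) (hn : o ∈ 𝐍(F.T)) :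
    o * F.v1 = F.v1 * o := by
  refine (F.b2_vc (F.Nz hn) (F.nW1 o h (F.b2_ns h hn)).2).elim comm_of_cj fun e => odd_comm ho (comm_of_cj ?_)
  rw [show o * o * F.v1 * (o * o)⁻¹ = o * (o * F.v1 * o⁻¹) * o⁻¹ by group, e, cj_mul, e, cj_of_comm (F.Nz hn),
    F.b2_zz]

theorem nHT {g : G} (h : g * F.t = F.t * g) (hn : g ∈ 𝐍(F.T)) :
    ∃ τ ∈ F.T, ∃ o ∈ 𝐂(F.T), Odd (orderOf o) ∧ g = τ * o := by
  obtain ⟨m, h2, ho⟩ := split g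
  have c : Commute g F.t := h
  have ct : Commute ((g ^ m)⁻¹ * g) F.t := (c.pow_left m).inv_left.mul_left c
  have on : (g ^ m)⁻¹ * g ∈ 𝐍(F.T) := mul_mem (inv_mem (pow_mem hn m)) hn
  refine ⟨g ^ m, F.p2T (c.pow_left m).eq (pow_mem hn m) h2, _, cent_gen ?_, ho, (mul_inv_cancel_left _ _).symm⟩
  rintro x (rfl | rfl | rfl | rfl | rfl)
  exacts [ct.eq.symm, (F.b2_ov ho ct on).symm, (F.sw.b2_ov ho ct (F.sw_T ▸ on)).symm, (F.fixu ct on).symm,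
    (F.sw.fixu ct (F.sw_T ▸ on)).symm]

theorem exOP {P : Subgroup G} (hP : IsPGroup 2 P) (hT : F.T ≤ P) (hC : P ⊓ centralizer {F.t} ≤ F.T) :
    ∃ O : Subgroup G, (∀ o, o ∈ O ↔ o ∈ 𝐂(P) ∧ Odd (orderOf o)) ∧ 𝐍(P) ≤ 𝐍(O) ∧
      ∀ g ∈ 𝐍(P), g * F.t = F.t * g → ∃ τ ∈ F.T, ∃ o ∈ O, g = τ * o := by
  obtain ⟨O, h1, -, -⟩ := F.exO1
  have h : ∀ o, o ∈ O ⊓ 𝐂(P) ↔ o ∈ 𝐂(P) ∧ Odd (orderOf o) := fun o =>
    ⟨fun k => ⟨k.2, ((h1 o).1 k.1).2⟩, fun k => ⟨(h1 o).2 ⟨centralizer_anti (F.W1T.trans hT) k.1, k.2⟩, k.1⟩⟩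
  refine ⟨O ⊓ 𝐂(P), h, b2_normO h, fun g hg ht => ?_⟩
  have eT : F.T = P ⊓ centralizer {F.t} := le_antisymm (le_inf hT F.sylT.le) hC
  have gT : g ∈ 𝐍(F.T) := by
    rw [eT, ← cj_eq_self_iff, cj_inf, cj_eq_of_mem_normalizer hg, cj_centralizer_singleton, cj_of_comm ht]
  obtain ⟨τ, hτ, o, oC, ho, rfl⟩ := F.nHT ht gT
  refine ⟨τ, hτ, o, (h o).2 ⟨?_, ho⟩, rfl⟩
  have oN : o ∈ 𝐍(P) := (mul_mem_cancel_left (le_normalizer (hT hτ))).1 hg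
  have TC : F.T ≤ P ⊓ centralizer {o} := le_inf hT fun x hx =>
    mem_centralizer_singleton_iff.2 (mem_centralizer_iff_commute.1 oC x hx)
  by_contra ne
  have lt : P ⊓ centralizer {o} < P := lt_of_le_of_ne inf_le_left fun e => ne
    (mem_centralizer_iff_commute.2 fun a ha => mem_centralizer_singleton_iff.1 (e.ge ha).2)
  refine (lt_inf_normalizer_of_lt hP lt).2 fun x hx => ⟨hx.1, mem_centralizer_singleton_iff.2
    (mem_centralizer_iff_commute.1 (odd_cent (P := P ⊓ 𝐍(P ⊓ centralizer {o})) (hP.to_le inf_le_left) ho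
      (mem_centralizer_iff_commute.2 fun a (ha : a ∈ P ⊓ centralizer {o}) =>
        mem_centralizer_singleton_iff.1 ha.2) fun y hy => ?_) x hx)⟩
  refine TC (hC ⟨P.mul_mem (P.inv_mem hy.1) (conj_mem_of_mem_normalizer oN hy.1),
    mem_centralizer_singleton_iff.2 (comm_of_cj ?_)⟩)
  have tC := TC (F.W1T F.b2_tW)
  have a := cj_of_comm (mem_centralizer_singleton_iff.1 tC.2).symm
  have b := cj_of_comm (mem_centralizer_singleton_iff.1 (conj_mem_of_mem_normalizer hy.2 tC).2).symm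
  calc _ = y⁻¹ * (o * (y * (o⁻¹ * (o * F.t * o⁻¹) * o) * y⁻¹) * o⁻¹) * y := by rw [a]; group
    _ = y⁻¹ * (o * (y * F.t * y⁻¹) * o⁻¹) * y := by group
    _ = _ := by rw [b]; group

theorem b2_pure {g : G} (hz : g * F.z = F.z * g) (hV : g ∈ 𝐍(F.V1)) :
    g * F.v1 = F.v1 * g ∨ (g * F.v2 * F.v1 = F.v1 * (g * F.v2) ∧ F.v2⁻¹ * g * F.v1 = F.v1 * (F.v2⁻¹ * g)) := by
  refine (F.b2_vc hz hV).imp comm_of_cj fun e => ⟨comm_of_cj ?_, comm_of_cj ?_⟩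
  · rw [show g * F.v2 * F.v1 * (g * F.v2)⁻¹ = g * (F.v2 * F.v1 * F.v2⁻¹) * g⁻¹ by group, F.b2_v2v, cj_mul, e,
      cj_of_comm hz, F.b2_zz]
  · rw [show F.v2⁻¹ * g * F.v1 * (F.v2⁻¹ * g)⁻¹ = F.v2⁻¹ * (g * F.v1 * g⁻¹) * F.v2 by group, e, ← F.b2_v2v]
    group

theorem S3 {g : G} (h : g * F.t = F.t * g) (hn : g ∈ 𝐍(F.W1)) :
    ∃ i e : ℕ, (F.y1 ^ i * F.v2 ^ e)⁻¹ * g ∈ 𝐂(F.W1) := by
  obtain ⟨hu, hV⟩ := F.nW1 g h hn
  obtain ⟨i, hi⟩ : ∃ i : ℕ, F.y1 ^ i * F.z * (F.y1 ^ i)⁻¹ = g * F.z * g⁻¹ := by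
    rcases F.memV1.1 (conj_mem_of_mem_normalizer hV F.b2_zV) with e | e | e | e
    · exact (cjne F.z1 g e).elim
    · exact ⟨0, by simp [e]⟩
    · exact ⟨1, by rw [pow_one, e, F.y1z]⟩
    · exact ⟨2, by rw [e, ← F.y1v, ← F.y1z]; simp only [pow_two]; group⟩
  have kz : Commute ((F.y1 ^ i)⁻¹ * g) F.z := comm_of_cj (by
    rw [show (F.y1 ^ i)⁻¹ * g * F.z * ((F.y1 ^ i)⁻¹ * g)⁻¹ = (F.y1 ^ i)⁻¹ * (g * F.z * g⁻¹) * F.y1 ^ i by group, ← hi]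
    group)
  have kt : Commute ((F.y1 ^ i)⁻¹ * g) F.t := (Commute.pow_left F.y1t i).inv_left.mul_left h
  have ku : Commute ((F.y1 ^ i)⁻¹ * g) F.u1 := (Commute.pow_left F.y1u i).inv_left.mul_left hu
  rcases F.b2_pure kz (mul_mem (inv_mem (pow_mem F.b2_y1V i)) hV) with e | ⟨-, e⟩
  · refine ⟨i, 0, cent_gen ?_⟩
    rw [pow_zero, mul_one]
    rintro x (rfl | rfl | rfl | rfl)
    exacts [kt.eq.symm, kz.eq.symm, e.symm, ku.eq.symm]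
  · refine ⟨i, 1, cent_gen ?_⟩
    rw [pow_one, mul_inv_rev, mul_assoc]
    rintro x (rfl | rfl | rfl | rfl)
    exacts [((Commute.symm F.tv2).inv_left.mul_left kt).eq.symm,
      ((Commute.symm F.sw.zv1).inv_left.mul_left kz).eq.symm, e.symm,
      ((Commute.symm F.u1v2).inv_left.mul_left ku).eq.symm]

theorem PT {g : G} (hn : g ∈ 𝐍(F.W1)) (h : g * F.t * g⁻¹ = F.t * F.u1) (hu : g * F.u1 = F.u1 * g) : g ∈ 𝐍(F.V1) := by
  have yN := norm_cj (cj_eq_of_mem_normalizer hn) F.y1N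
  have a : Commute _ _ := comm_cj g F.y1t
  have b : Commute _ _ := comm_cj g F.y1u
  rw [h] at a
  rw [cj_of_comm hu] at b
  have c : Commute (g * F.y1 * g⁻¹) F.t := by simpa using a.mul_right b.inv_right
  have yV := (F.nW1 _ c yN).2
  generalize hy : g * F.y1 * g⁻¹ = y at yN b c yV
  have key : ∀ w ∈ F.W1, y * w * y⁻¹ * w ∈ F.V1 := fun w hw => by
    induction hw using closure_induction with
    | mem x hx =>
      rcases hx with rfl | rfl | rfl | rfl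
      · rw [cj_of_comm c, F.tt]; exact one_mem _
      · exact mul_mem (conj_mem_of_mem_normalizer yV F.b2_zV) F.b2_zV
      · exact mul_mem (conj_mem_of_mem_normalizer yV F.b2_vV) F.b2_vV
      · rw [cj_of_comm b, F.u11]; exact one_mem _
    | one => simp
    | mul p q hp hq ip iq =>
      have := comm_of_sq (fun _ => F.sqW1) (conj_mem_of_mem_normalizer yN hq) hp
      rw [cj_mul, mul_assoc, ← mul_assoc (y * q * y⁻¹), this, mul_assoc p, ← mul_assoc _ p]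
      exact mul_mem ip iq
    | inv p hp ip => rwa [inv_eq_of_mul_eq_one_right (F.sqW1 hp)]
  have k2 : ∀ w ∈ F.W1, g * (F.y1 * w * F.y1⁻¹ * w) * g⁻¹ ∈ F.V1 := fun w hw => by
    have := key _ (conj_mem_of_mem_normalizer hn hw)
    rw [← hy] at this
    convert this using 1
    group
  refine norm_gen ?_
  rintro x (rfl | rfl)
  · have := k2 _ F.b2_vW
    rwa [F.y1v, mul_assoc F.z, F.v11, mul_one] at this
  · have := k2 _ (F.X1W1 (mul_mem F.b2_zX F.b2_vX))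
    rwa [F.y1z', F.b2_zz] at this

theorem pure {g : G} (hz : g * F.z = F.z * g) (hu : g * F.u1 = F.u1 * g) (hV : g ∈ 𝐍(F.V1)) :
    g ∈ 𝐂(F.X1) ∨ g * F.v2 ∈ 𝐂(F.X1) := by
  refine (F.b2_pure hz hV).imp (fun e => cent_gen ?_) fun e => cent_gen ?_
  · rintro x (rfl | rfl | rfl)
    exacts [hz.symm, e.symm, hu.symm]
  · rintro x (rfl | rfl | rfl)
    exacts [(Commute.mul_left hz (Commute.symm F.sw.zv1)).eq.symm, e.1.symm,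
      (Commute.mul_left hu (Commute.symm F.u1v2)).eq.symm]

theorem b2_exZ {s : G} (hs : s ∈ F.W1) (h : F.Om s) (ne : s ≠ F.t) : ∃ s ∈ F.ZT, F.Om s ∧ s ≠ F.t := by
  obtain ⟨a, ht, -, -, -, hZ⟩ := F.b2_red hs
  exact ⟨_, hZ, h.cj a, fun e => ne (cj_inj' (e.trans ht.symm))⟩

theorem exZ : ∃ s ∈ F.ZT, F.Om s ∧ s ≠ F.t := by
  obtain ⟨g, ne, c⟩ := F.zs
  have h : F.Om (g * F.t * g⁻¹) := ⟨g, rfl⟩
  obtain ⟨k, hk, e⟩ := F.sylT.exists_cj_le (P2.of_sq h.sq.1).zpowers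
    (zpowers_le.2 (mem_centralizer_singleton_iff.2 c))
  have ne' : k * (g * F.t * g⁻¹) * k⁻¹ ≠ F.t := fun e =>
    ne (cj_inj' (e.trans (cj_of_comm (mem_centralizer_singleton_iff.1 hk)).symm))
  rcases F.invT (e (cj_mem k (mem_zpowers _))) (h.cj k).sq.1 with m | m
  · exact F.b2_exZ m (h.cj k) ne'
  · exact F.sw_ZT ▸ F.sw.b2_exZ m (h.cj k) ne'

theorem b2_uV (h : F.u1 ≠ 1) : F.u1 ∉ F.V1 := fun k => by
  refine (F.hu.resolve_left fun e => h e.1).2.2.1 ((closure_le _).2 ?_ k)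
  have a : F.v1 ∈ closure ({F.t, F.v1, F.v2} : Set G) := subset_closure (by simp)
  have b : F.v2 ∈ closure ({F.t, F.v1, F.v2} : Set G) := subset_closure (by simp)
  rintro x (rfl | rfl)
  exacts [F.hz ▸ mul_mem (mul_mem (mul_mem a b) a) b, a]

omit [Finite G] in
theorem b2_iff {A : Subgroup G} {a s : G} (ht : a * F.t * a⁻¹ = F.t) (ha : a ∈ 𝐍(A)) :
    F.t * (a * s * a⁻¹) ∈ A ↔ F.t * s ∈ A := by
  rw [(mem_normalizer_iff.1 ha) (F.t * s), cj_mul, ht]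

theorem b2_om (a : G) {s : G} : F.Om (a * s * a⁻¹) ↔ F.Om s := ⟨.of_cj a, fun h => h.cj a⟩

theorem b2_tF {r : G} (h : F.t * r ∈ F.F0) : r = F.t ∨ r = F.t * F.z ∨
    F.u1 ≠ 1 ∧ (r = F.t * F.u1 ∨ r = F.t * F.u2) := by
  rw [← F.b2_tt r]
  rcases F.memF0.1 h with e | e | e | e <;> rw [e]
  · exact .inl (mul_one _)
  · exact .inr (.inl rfl)
  · by_cases u : F.u1 = 1
    · exact .inl (by rw [u, mul_one])
    · exact .inr (.inr ⟨u, .inl rfl⟩)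
  · by_cases u : F.u1 = 1
    · exact .inr (.inl (by rw [u, mul_one]))
    · exact .inr (.inr ⟨u, .inr (by rw [F.u2_eq u])⟩)

theorem CI.omW1 {F : Fr G} (c : F.CI) {s : G} (hs : s ∈ F.W1) : F.Om s ↔ F.t * s ∈ F.V1 := by
  obtain ⟨a, ht, -, hV, -, hZ⟩ := F.b2_red hs
  rw [← F.b2_om a, ← F.b2_iff ht hV]
  rcases F.memZT.1 hZ with k | k
  · exact iff_of_false (F.b2_nF c.n1 c.n2 k) fun m => F.b2_tX (F.F0X1 k) (F.V1X1 m)
  rcases F.b2_tF k with e | e | ⟨u, e | e⟩ <;> rw [e]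
  · exact iff_of_true F.om_t (F.tt ▸ one_mem _)
  · exact iff_of_true c.oz ((F.b2_tt _).symm ▸ F.b2_zV)
  · exact iff_of_false (c.n3 u) ((F.b2_tt _).symm ▸ F.b2_uV u)
  · refine iff_of_false (c.n4 (F.u2_ne u)) ?_
    rw [F.b2_tt, F.u2_eq u, mul_mem_cancel_left F.b2_zV]
    exact F.b2_uV u

theorem CA.omW1 {F : Fr G} (c : F.CA) {s : G} (hs : s ∈ F.W1) : F.Om s ↔ F.t * s ∈ F.X1 := by
  obtain ⟨a, ht, -, -, hX, hZ⟩ := F.b2_red hs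
  rw [← F.b2_om a, ← F.b2_iff ht hX]
  rcases F.memZT.1 hZ with k | k
  · exact iff_of_false (F.b2_nF c.n1 c.n2 k) (F.b2_tX (F.F0X1 k))
  refine iff_of_true ?_ (F.F0X1 k)
  rcases F.b2_tF k with e | e | ⟨u, e | e⟩ <;> rw [e]
  exacts [F.om_t, c.oz, c.o1, c.o2]

theorem CS.omW1 {F : Fr G} (c : F.CS) {s : G} (hs : s ∈ F.W1) : F.Om s ↔ s = F.t ∨ s = F.u1 := by
  refine ⟨fun h => ?_, fun h => h.elim (· ▸ F.om_t) (· ▸ c.o1)⟩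
  obtain ⟨a, ht, hu, -, -, hZ⟩ := F.b2_red hs
  have h' := h.cj a
  rcases F.memZT.1 hZ with k | k
  · rcases F.memF0.1 k with e | e | e | e
    · exact (h'.sq.2 e).elim
    · exact (F.nz (e ▸ h')).elim
    · exact .inr (cj_inj' (e.trans hu.symm))
    · exact (c.n2 (F.u2_eq c.u1 ▸ e ▸ h')).elim
  · rcases F.b2_tF k with e | e | ⟨u, e | e⟩
    · exact .inl (cj_inj' (e.trans ht.symm))
    · exact (c.n1 (e ▸ h')).elim
    · exact (c.n3 (e ▸ h')).elim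
    · exact (c.n4 (e ▸ h')).elim

theorem CS.omW2 {F : Fr G} (c : F.CS) {s : G} (hs : s ∈ F.W2) :
    F.Om s ↔ s = F.t ∨ s = F.u1 ∨ s = F.u1 * F.v2 ∨ s = F.u1 * F.v2 * F.z := by
  have u : F.u1 = F.z * F.u2 := F.sw.u2_eq (F.u2_ne c.u1)
  have y := cj_of_comm F.y2u
  have zu : F.z * F.u2 = F.u2 * F.z := F.sw.zu1
  have zv : F.z * F.v2 = F.v2 * F.z := F.sw.zv1
  have f1 : F.u1 * F.v2 = F.z * F.v2 * F.u2 := by rw [u, mul_assoc, F.u2v2, mul_assoc]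
  have f2 : F.u1 * F.v2 * F.z = F.v2 * F.u2 := by rw [f1, mul_assoc, ← zu, zv, mul_assoc, F.b2_zz]
  have e1 : F.y2 * F.u1 * F.y2⁻¹ = F.u1 * F.v2 * F.z := by rw [f2, u, cj_mul, y, F.y2z]
  have e2 : F.y2 * (F.u1 * F.v2 * F.z) * F.y2⁻¹ = F.u1 * F.v2 := by rw [f2, f1, cj_mul, y, F.y2v]
  have e3 : F.y2 * (F.u1 * F.v2) * F.y2⁻¹ = F.u1 := by
    rw [f1, cj_mul, y, show F.y2 * (F.z * F.v2) * F.y2⁻¹ = F.z from F.sw.y1z', ← u]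
  refine ⟨fun h => ?_, ?_⟩
  · obtain ⟨i, hi⟩ := F.sw.toZT hs
    rw [F.sw_ZT] at hi
    have ind : ∀ (i : ℕ) (s : G), (F.y2 ^ i * s * (F.y2 ^ i)⁻¹ = F.u1 ∨ F.y2 ^ i * s * (F.y2 ^ i)⁻¹ = F.u1 * F.v2 ∨
        F.y2 ^ i * s * (F.y2 ^ i)⁻¹ = F.u1 * F.v2 * F.z) →
        s = F.u1 ∨ s = F.u1 * F.v2 ∨ s = F.u1 * F.v2 * F.z := fun i => by
      induction i with
      | zero => simp
      | succ i ih =>
        intro s h
        rw [show F.y2 ^ (i + 1) * s * (F.y2 ^ (i + 1))⁻¹ = F.y2 ^ i * (F.y2 * s * F.y2⁻¹) * (F.y2 ^ i)⁻¹ by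
          rw [pow_succ]; group] at h
        rcases ih _ h with e | e | e
        exacts [.inr (.inl (cj_inj' (e.trans e3.symm))), .inr (.inr (cj_inj' (e.trans e2.symm))),
          .inl (cj_inj' (e.trans e1.symm))]
    exact ((c.omW1 (F.ZTW1 hi)).1 (h.cj _)).imp
      (fun e => cj_inj' (e.trans (cj_of_comm (Commute.pow_left F.y2t i).eq).symm)) fun e => ind i s (.inl e)
  · rintro (rfl | rfl | rfl | rfl)
    exacts [F.om_t, c.o1, .of_cj F.y2 (e3.symm ▸ c.o1), e1 ▸ c.o1.cj F.y2]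

theorem CS.ns {F : Fr G} (c : F.CS) {g : G} (hg : g ∈ 𝐍(F.T)) : g ∈ 𝐍(F.W1) ∧ g ∈ 𝐍(F.W2) := by
  refine (F.permW hg).resolve_right fun ⟨_, e⟩ => ?_
  have uX : F.u1 ∈ F.X2 := F.sw.u2X1
  have sX : F.u1 * F.v2 ∈ F.X2 := mul_mem uX F.sw.b2_vX
  have m : ∀ s ∈ F.W2, F.Om s → g * s * g⁻¹ = F.t ∨ g * s * g⁻¹ = F.u1 := fun s hs h =>
    (c.omW1 (e ▸ cj_mem g hs)).1 (h.cj g)
  have n1 : F.t ≠ F.u1 := fun k => F.sw.tX1 (show F.t ∈ F.X2 from k ▸ uX)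
  have n2 : F.t ≠ F.u1 * F.v2 := fun k => F.sw.tX1 (show F.t ∈ F.X2 from k ▸ sX)
  have n3 : F.u1 ≠ F.u1 * F.v2 := fun k => F.sw.b2_v1 (left_eq_mul.1 k)
  rcases m _ F.sw.b2_tW F.om_t with a | a <;> rcases m _ (F.sw.X1W1 uX) c.o1 with b | b <;>
    rcases m _ (F.sw.X1W1 sX) ((c.omW2 (F.sw.X1W1 sX)).2 (.inr (.inr (.inl rfl)))) with d | d <;>
    first | exact n1 (cj_inj' (a.trans b.symm)) | exact n2 (cj_inj' (a.trans d.symm)) |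
      exact n3 (cj_inj' (b.trans d.symm))

theorem b2_tg (h1 : ¬ F.Om F.u1) (h2 : ¬ F.Om F.u2) {g : G} (hg : g ∈ 𝐍(F.T)) (e : F.W1 ^ᶜ g = F.W2) :
    g * F.t * g⁻¹ = F.t * F.z ∨ F.u1 ≠ 1 ∧ (g * F.t * g⁻¹ = F.t * F.u1 ∨ g * F.t * g⁻¹ = F.t * F.u2) :=
  (F.b2_tF ((F.memZT.1 (conj_mem_of_mem_normalizer (F.NZT hg) F.b2_tZ)).resolve_left fun k =>
    F.b2_nF h1 h2 k ⟨g, rfl⟩)).resolve_left fun k => F.W12 g (comm_of_cj k) e

theorem b2_ynz {g : G} (hg : g ∈ 𝐍(F.T)) : ¬ Commute (g * F.y1 * g⁻¹) F.z := fun k => F.y1nz (cj_inj' (g := g) (by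
  rw [cj_mul, cj_mul, cj_of_comm (F.Nz hg)]; exact k))

theorem CI.ns {F : Fr G} (c : F.CI) {g : G} (hg : g ∈ 𝐍(F.T)) : g ∈ 𝐍(F.W1) ∧ g ∈ 𝐍(F.W2) := by
  refine (F.permW hg).resolve_right fun ⟨e, _⟩ => ?_
  have tg : g * F.t * g⁻¹ = F.t * F.z := (F.b2_tg c.n1 c.n2 hg e).resolve_right fun ⟨u, k⟩ =>
    k.elim (fun k => c.n3 u ⟨g, k⟩) fun k => c.n4 (F.u2_ne u) ⟨g, k⟩
  have yN := norm_cj e F.y1N
  have a : Commute _ _ := comm_cj g F.y1t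
  have nz := F.b2_ynz hg
  rw [tg] at a
  generalize g * F.y1 * g⁻¹ = y at yN a nz
  have fin : ∀ n ∈ 𝐍(F.W2), n * F.t * n⁻¹ ≠ F.t * F.z := fun n hn k =>
    F.W12 (n⁻¹ * g) (comm_of_cj (by
      rw [show n⁻¹ * g * F.t * (n⁻¹ * g)⁻¹ = n⁻¹ * (g * F.t * g⁻¹) * n by group, tg, ← k]; group))
      (by rw [← cj_cj]; exact (congrArg (· ^ᶜ n⁻¹) e).trans (cj_eq_of_mem_normalizer (inv_mem hn)))
  have y2 : ∀ n s, n * F.t * n⁻¹ = F.t * s → F.y2 * n * F.t * (F.y2 * n)⁻¹ = F.t * (F.y2 * s * F.y2⁻¹) :=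
    fun n s k => by
      rw [show F.y2 * n * F.t * (F.y2 * n)⁻¹ = F.y2 * (n * F.t * n⁻¹) * F.y2⁻¹ by group, k, cj_mul, cj_of_comm F.y2t]
  have yz : F.y2 * (F.z * F.v2) * F.y2⁻¹ = F.z := F.sw.y1z'
  have y2N : F.y2 ∈ 𝐍(F.W2) := F.sw.y1N
  have ty : ∀ s, F.t * (y * F.t * y⁻¹) = s → y * F.t * y⁻¹ = F.t * s := fun s k => by rw [← k, F.b2_tt]
  rcases F.sw.memV1.1 ((c.sw.omW1 (conj_mem_of_mem_normalizer yN F.sw.b2_tW)).1 ⟨y, rfl⟩) with k | k | k | k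
  · have ct : Commute y F.t := comm_of_cj ((ty _ k).trans (mul_one _))
    exact nz (by simpa using ct.inv_right.mul_right a)
  · exact fin y yN (ty _ k)
  · refine fin (F.y2 * (F.y2 * y)) (mul_mem y2N (mul_mem y2N yN)) ?_
    rw [y2 _ _ (y2 _ _ (ty F.v2 k)), F.y2v, yz]
  · refine fin (F.y2 * y) (mul_mem y2N yN) ?_
    rw [y2 _ _ (ty (F.z * F.v2) k), yz]

theorem b2_swu (u : F.u1 ≠ 1) {g : G} (hg : g ∈ 𝐍(F.T)) (hu : g * F.u1 = F.u1 * g) (e : F.W1 ^ᶜ g = F.W2) :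
    g * F.t * g⁻¹ ≠ F.t * F.u1 := fun tg => by
  have a : Commute _ _ := comm_cj g F.y1t
  have b : Commute _ _ := comm_cj g F.y1u
  rw [tg] at a
  rw [cj_of_comm hu] at b
  have c : Commute (g * F.y1 * g⁻¹) F.t := by simpa using a.mul_right b.inv_right
  have d : Commute _ _ := (F.nW2 _ c (norm_cj e F.y1N)).1
  rw [F.u2_eq u] at d
  exact F.b2_ynz hg (by simpa using d.mul_right b.inv_right)

theorem CA.ns {F : Fr G} (c : F.CA) {g : G} (hg : g ∈ 𝐍(F.T)) : g ∈ 𝐍(F.W1) ∧ g ∈ 𝐍(F.W2) := by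
  refine (F.permW hg).resolve_right fun ⟨e, e'⟩ => ?_
  have s2 : ∀ g ∈ 𝐍(F.T), F.W2 ^ᶜ g = F.W1 → g * F.t * g⁻¹ ≠ F.t * F.u2 := fun g hg e =>
    F.sw.b2_swu c.u2 (F.sw_T ▸ hg) (c.fx2 g hg) e
  rcases F.b2_tg c.n1 c.n2 hg e with k | ⟨-, k | k⟩
  · obtain ⟨σ, hσ, s⟩ := F.burn c.o1 (mul_mem F.b2_tZ F.b2_uZ)
    have n := (F.permW hσ).resolve_right fun k => F.b2_swu c.u1 hσ (c.fx1 σ hσ) k.1 s
    refine s2 (σ * g) (mul_mem hσ hg) (by rw [← cj_cj, e', cj_eq_of_mem_normalizer n.1]) ?_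
    rw [show σ * g * F.t * (σ * g)⁻¹ = σ * (g * F.t * g⁻¹) * σ⁻¹ by group, k, cj_mul, s, cj_of_comm (F.Nz hσ),
      F.u2_eq c.u1, F.zu1, mul_assoc]
  · exact F.b2_swu c.u1 hg (c.fx1 g hg) e k
  · exact s2 g hg e' k

end Fr

end H25.A7
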