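import Mathlib
import Cfsg.Agent.Lib.A7S.Gen
import Cfsg.Agent.Lib.Schur.Main
import Cfsg.Agent.Lib.Transfer.Control
import Cfsg.Agent.S2116
import Cfsg.Agent.S2119

/-! Covers of `A₇`. -/

set_option autoImplicit false

namespace H25.A7

open Subgroup H69 H36.SW
open scoped commutatorElement

variable {G : Type*} [Group G] [Finite G]
variable {A E : Subgroup G} {α : G → S7} {t : G}

namespace Cv

theorem cJ {g : S7} (h : ∀ j ∈ J7, g * j = j * g) : g = 1 := by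
  apply (Cfsg.Agent.S2119.result 7 (by norm_num) (by norm_num)).1
  rw [map_one]
  ext1 j
  exact Subtype.ext (mul_inv_eq_iff_eq_mul.2 (h j j.2))

theorem aut (φ : J7 ≃* J7) : ∃ x : S7, ∀ j : J7, (φ j : S7) = x * j * x⁻¹ := by
  obtain ⟨x, hx⟩ := (Cfsg.Agent.S2119.result 7 (by norm_num) (by norm_num)).2 φ
  exact ⟨x, fun j => by rw [← hx]; rfl⟩

omit [Finite G] in
theorem cov (f : A →* S7) (hm : ∀ a, f a ∈ J7)
    (ho : ∀ j ∈ J7, ∃ a, f a = j) (hk : ∀ a : A, f a = 1 → (a : G) ∈ 𝐂(A) ∧ Odd (orderOf (a : G)))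
    (hp : A ≤ ⁅A, A⁆) : ∃ α : G → S7, Cov J7 A α := by
  classical
  have kz : ∀ a : A, (a : G) ∈ 𝐂(A) → f a = 1 := fun a ha => cJ fun j hj => by
    obtain ⟨b, rfl⟩ := ho j hj
    rw [← map_mul, ← map_mul]; congr 1; exact Subtype.ext (ha b b.2).symm
  let f' : A →* J7 := f.codRestrict _ hm
  have sj : Function.Surjective f' := fun j => let ⟨a, h⟩ := ho j j.2; ⟨a, Subtype.ext h⟩
  have key : ∀ g : 𝐍(A), ∃ x : S7, ∀ a : A, f (A.normalizerMonoidHom g a) = x * f a * x⁻¹ := fun g => by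
    have nz : ∀ a : A, f (A.normalizerMonoidHom g a) = 1 ↔ f a = 1 := fun a =>
      ⟨fun h => kz _ (by
        have := conj_mem_of_mem_normalizer' (normalizer_le_normalizer_centralizer A g.2) (hk _ h).1
        simpa [mul_assoc] using this),
      fun h => kz _ (conj_mem_of_mem_normalizer (normalizer_le_normalizer_centralizer A g.2) (hk _ h).1)⟩
    let ψ : J7 →* J7 := f'.liftOfSurjective sj ⟨f'.comp (A.normalizerMonoidHom g).toMonoidHom,
      fun a ha => Subtype.ext ((nz a).2 (congrArg Subtype.val ha))⟩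
    have e : ∀ a, ψ (f' a) = f' (A.normalizerMonoidHom g a) := fun a =>
      f'.liftOfRightInverse_comp_apply _ _ _ a
    have inj : Function.Injective ψ := (injective_iff_map_eq_one _).2 fun j hj => by
      obtain ⟨a, rfl⟩ := sj j
      rw [e] at hj
      exact Subtype.ext ((nz a).1 (congrArg Subtype.val hj))
    obtain ⟨x, hx⟩ := aut (MulEquiv.ofBijective ψ (Finite.injective_iff_bijective.1 inj))
    exact ⟨x, fun a => (congrArg Subtype.val (e a)).symm.trans (hx (f' a))⟩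
  choose β hβ using key
  have un : ∀ (g : 𝐍(A)) (x : S7), (∀ a : A, f (A.normalizerMonoidHom g a) = x * f a * x⁻¹) → β g = x :=
    fun g x h => (inv_mul_eq_one.1 (cJ (g := x⁻¹ * β g) fun j hj => by
      obtain ⟨a, rfl⟩ := ho j hj
      calc _ = x⁻¹ * (β g * f a * (β g)⁻¹) * β g := by group
        _ = _ := by rw [← hβ, h]; group)).symm
  have ea : ∀ a : A, β ⟨a, le_normalizer a.2⟩ = f a := fun a => un _ _ fun b => by
    rw [← map_inv, ← map_mul, ← map_mul]; rfl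
  have ea' : ∀ a : A, (if h : (a : G) ∈ 𝐍(A) then β ⟨a, h⟩ else 1) = f a := fun a => by
    rw [dif_pos (le_normalizer a.2), ea]
  refine ⟨fun g => if h : g ∈ 𝐍(A) then β ⟨g, h⟩ else 1, ⟨fun g hg k hk => ?_, fun a ha => ?_,
    fun j hj => ?_, fun g hg => ?_, fun a ha h => ?_, hp⟩⟩
  · rw [dif_pos hg, dif_pos hk, dif_pos (mul_mem hg hk)]
    refine un (⟨g, hg⟩ * ⟨k, hk⟩) _ fun a => ?_
    rw [map_mul, MulAut.mul_apply, hβ, hβ]; group
  · exact ea' ⟨a, ha⟩ ▸ hm _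
  · obtain ⟨a, rfl⟩ := ho j hj
    exact ⟨a, a.2, ea' a⟩
  · rw [dif_pos hg]
    refine ⟨fun h => mem_cent_of_perf hp hg fun a ha => ?_, fun h => un _ _ fun a => ?_⟩
    · refine (hk ((⟨a, ha⟩ : A)⁻¹ * A.normalizerMonoidHom ⟨g, hg⟩ ⟨a, ha⟩) ?_).1
      rw [map_mul, hβ, h]; simp
    · rw [one_mul, inv_one, mul_one]; congr 1
      exact Subtype.ext (conj_eq_of_mem_centralizer h a.2)
  · exact (hk ⟨a, ha⟩ ((ea' ⟨a, ha⟩).symm.trans h)).2

omit [Finite G] in
theorem mem_center {a : A} : a ∈ center A ↔ (a : G) ∈ 𝐂(A) := by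
  rw [mem_center_iff, mem_centralizer_iff_commute]
  exact ⟨fun h b hb => congrArg Subtype.val (h ⟨b, hb⟩), fun h b => Subtype.ext (h b b.2)⟩

omit [Finite G] in
theorem perf_iff : commutator A = ⊤ ↔ A ≤ ⁅A, A⁆ := by
  rw [← map_subtype_commutator]
  exact ⟨fun h a ha => ⟨⟨a, ha⟩, h ▸ mem_top _, rfl⟩, fun h => eq_top_iff.2 fun a _ => by
    obtain ⟨b, hb, e⟩ := h a.2
    rwa [← Subtype.ext e]⟩

theorem pzJ : pz ∈ J7 := by rw [Equiv.Perm.mem_alternatingGroup]; decide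
theorem pxJ : px ∈ J7 := by rw [Equiv.Perm.mem_alternatingGroup]; decide

/-- the cover as a homomorphism onto `A₇` -/
def xi (c : Cov J7 A α) : A →* J7 :=
  (c.hom.comp (inclusion le_normalizer)).codRestrict _ fun a => c.mem a a.2

theorem xi_eqn : True := by
  have := @xi.eq_1.{0}
  trivial

omit [Finite G] in
theorem xi_surj (c : Cov J7 A α) : Function.Surjective (xi c) := fun j =>
  let ⟨a, ha, e⟩ := c.onto j j.2; ⟨⟨a, ha⟩, Subtype.ext e⟩

omit [Finite G] in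
theorem xi_ker (c : Cov J7 A α) : (xi c).ker = center A := by
  ext a
  rw [mem_center, ← c.ker _ (le_normalizer a.2), MonoidHom.mem_ker, Subtype.ext_iff]
  rfl

theorem conj_of {l : ℕ} [Fact l.Prime] {p q : S7} (hp : p ^ l = 1) (hq : q ^ l = 1)
    (h : Multiset.card p.cycleType * l = q.support.card) {r : S7} (hr : r ∉ J7) (c : r * q * r⁻¹ = q) :
    ∃ j ∈ J7, j * p * j⁻¹ = q := by
  have e1 := Equiv.Perm.cycleType_of_pow_prime_eq_one hp
  have e2 := Equiv.Perm.cycleType_of_pow_prime_eq_one hq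
  have e3 := q.sum_cycleType
  rw [e2, Multiset.sum_replicate, smul_eq_mul, ← h] at e3
  obtain ⟨j, hj⟩ := isConj_iff.1 (Equiv.Perm.isConj_iff_cycleType_eq.2
    (by rw [e1, e2, Nat.eq_of_mul_eq_mul_right (Fact.out : l.Prime).pos e3]) : IsConj p q)
  by_cases m : j ∈ J7
  · exact ⟨j, m, hj⟩
  · refine ⟨r * j, ?_, by rw [← c, ← hj]; group⟩
    rw [Equiv.Perm.mem_alternatingGroup] at m hr ⊢
    rw [map_mul, (Int.units_eq_one_or _).resolve_left m, (Int.units_eq_one_or _).resolve_left hr]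
    rfl

theorem bound {l : ℕ} [Fact l.Prime] {p : S7} (hp : p ^ l = 1) :
    Multiset.card p.cycleType * l ≤ 7 ∧
      Equiv.Perm.sign p = (-1) ^ (Multiset.card p.cycleType * l + Multiset.card p.cycleType) := by
  have e1 := Equiv.Perm.cycleType_of_pow_prime_eq_one hp
  have e2 : p.cycleType.sum = Multiset.card p.cycleType * l := by
    conv_lhs => rw [e1, Multiset.sum_replicate, smul_eq_mul]
  exact ⟨e2 ▸ p.sum_cycleType_le, e2 ▸ p.sign_of_cycleType⟩

theorem seven {σ τ : S7} (h7 : σ ^ 7 = 1) (h1 : σ ≠ 1) (h2 : τ * τ = 1) (c : σ * τ = τ * σ) : τ = 1 := by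
  have : Fact (Nat.Prime 7) := ⟨by norm_num⟩
  have ho : orderOf σ = 7 := orderOf_eq_prime h7 h1
  have hc : σ.IsCycle := Equiv.Perm.isCycle_of_prime_order'' (by norm_num) (by simpa using ho)
  have hs : σ.support = Finset.univ := Finset.eq_univ_of_card _ (by rw [← hc.orderOf, ho]; rfl)
  have mv : ∀ x, σ x ≠ x := fun x => Equiv.Perm.mem_support.1 (hs ▸ Finset.mem_univ x)
  obtain ⟨a, ha⟩ := Equiv.Perm.exists_fixed_point_of_prime (p := 2) (n := 1) (σ := τ) (by decide)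
    (by rw [pow_one, pow_two, h2])
  ext1 b
  obtain ⟨i, rfl⟩ := hc.exists_pow_eq (mv a) (mv b)
  have := congrArg (fun f : S7 => f a) (Commute.pow_left c i).eq
  simp only [Equiv.Perm.mul_apply, ha] at this
  exact this.symm

omit [Finite G] in
theorem isP3 {x : G} (h : x ^ 9 = 1) : IsPGroup 3 (zpowers x) := by
  rintro ⟨_, n, rfl⟩
  refine ⟨2, Subtype.ext ?_⟩
  show (x ^ n) ^ 9 = 1
  rw [← zpow_natCast, ← zpow_mul, mul_comm, zpow_mul, zpow_natCast, h, one_zpow]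

theorem nine : Nat.card (zpowers px ⊔ zpowers py1 : Subgroup S7) = 9 := by
  have : Fact (Nat.Prime 3) := ⟨by norm_num⟩
  have o1 : orderOf px = 3 := orderOf_eq_prime (by decide) (by decide)
  have o2 : orderOf py1 = 3 := orderOf_eq_prime (by decide) (by decide)
  have cm : Commute px py1 := by unfold Commute SemiconjBy; decide
  have d : ∀ i : Fin 3, ∀ j : Fin 3, py1 ^ (j : ℕ) = px ^ (i : ℕ) → px ^ (i : ℕ) = 1 := by decide
  rw [card_sup_comm, Nat.card_zpowers, Nat.card_zpowers, o1, o2]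
  · rintro _ ⟨i, rfl⟩ _ ⟨j, rfl⟩
    exact cm.zpow_zpow i j
  · intro a h1 h2
    rw [mem_zpowers_iff_mem_range_orderOf] at h1 h2
    rw [o1] at h1
    rw [o2] at h2
    obtain ⟨i, hi, rfl⟩ := Finset.mem_image.1 h1
    obtain ⟨j, hj, e⟩ := Finset.mem_image.1 h2
    exact d ⟨i, Finset.mem_range.1 hi⟩ ⟨j, Finset.mem_range.1 hj⟩ e

end Cv

open Cv

set_option linter.unusedSectionVars false in
theorem exists_st (hA : Cfsg.IsStandardSubgroup A) (hZ : Odd (Nat.card (center A)))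
    (hX : Nonempty ((A ⧸ center A) ≃* alternatingGroup (Fin 7))) : ∃ α, St A α := by
  obtain ⟨e⟩ := hX
  obtain ⟨⟨h1, -⟩, ⟨-, h2⟩, h3, h4⟩ := hA
  obtain ⟨α, c⟩ := Cv.cov (A := A)
    (J7.subtype.comp (e.toMonoidHom.comp (QuotientGroup.mk' (center A)))) (fun a => (e a).2)
    (fun j hj => by
      obtain ⟨a, ha⟩ := QuotientGroup.mk'_surjective (center A) (e.symm ⟨j, hj⟩)
      exact ⟨a, by rw [MonoidHom.comp_apply, MonoidHom.comp_apply, ha]; simp⟩)
    (fun a ha => by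
      have : a ∈ center A := by
        rw [← QuotientGroup.eq_one_iff, ← e.map_eq_one_iff]
        exact Subtype.ext ha
      refine ⟨Cv.mem_center.1 this, ?_⟩
      rw [orderOf_coe, ← orderOf_mk a this]
      exact hZ.of_dvd_nat (orderOf_dvd_natCard _))
    (perf_iff.1 h1.commutator_eq_top)
  refine ⟨α, c, fun g k k2 k1 hk hg => ?_, fun g hg => ?_⟩
  · by_contra hn
    rw [h4] at hn
    have := (h2 g hn).of_dvd_nat (Subgroup.orderOf_dvd_natCard (𝐂(A) ⊓ 𝐂(A) ^ᶜ g)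
      (x := g * k * g⁻¹) ⟨hg, cj_mem g hk⟩)
    exact cjne k1 g ((P2.of_sq (cjsq k2 g)).eq_one this)
  · by_cases e : A ^ᶜ g = A
    · obtain ⟨a, ha, e1⟩ := c.onto pz pzJ
      rw [e] at hg
      exact absurd (e1.symm.trans (c.cen (hg ha))) (by decide)
    · exact h3 g e (commutator_eq_bot_of_le_centralizer (le_centralizer_iff.1 hg))

set_option linter.unusedSectionVars false in
theorem card_center (A : Subgroup G) : Nat.card (center A) = Nat.card (A ⊓ 𝐂(A) : Subgroup G) := by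
  rw [← card_map_of_injective (K := center A) A.subtype_injective]
  congr 3
  ext x
  exact ⟨fun ⟨a, ha, e⟩ => e ▸ ⟨a.2, Cv.mem_center.1 ha⟩, fun h => ⟨⟨x, h.1⟩, Cv.mem_center.2 h.2, rfl⟩⟩

theorem center_eq_bot (A : Subgroup G) : center A = ⊥ ↔ A ⊓ 𝐂(A) = ⊥ := by
  rw [← card_eq_one, ← card_eq_one, card_center]

theorem cenA (c : Cov J7 A α) : A ⊓ 𝐂(A) = ⊥ ∨ Nat.card (A ⊓ 𝐂(A) : Subgroup G) = 3 := by
  have h := H78.Schur.card_ker_inf_dvd (Cfsg.Agent.S2116.result 7 (Or.inr rfl)) (xi c) (xi_surj c)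
    (xi_ker c).le
  rw [perf_iff.2 c.perf, inf_top_eq, Nat.card_congr Multiplicative.toAdd, Nat.card_zmod, xi_ker,
    card_center] at h
  have h2 : ¬ 2 ∣ Nat.card (A ⊓ 𝐂(A) : Subgroup G) := by
    intro h2
    obtain ⟨x, hx⟩ := exists_prime_orderOf_dvd_card' 2 h2
    have := c.odd' x.2.1 x.2.2
    rw [orderOf_coe, hx] at this
    exact absurd this (by decide)
  rw [← card_eq_one]
  have := Nat.le_of_dvd (by norm_num) h
  generalize Nat.card (A ⊓ 𝐂(A) : Subgroup G) = n at *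
  interval_cases n <;> simp_all

theorem Cv.cube (c : Cov J7 A α) {a : G} (ha : a ∈ A) (h : α a = 1) : a ^ 3 = 1 := by
  have m : a ∈ A ⊓ 𝐂(A) := ⟨ha, (c.ker a (le_normalizer ha)).1 h⟩
  rcases cenA c with e | e
  · rw [e, mem_bot] at m
    rw [m, one_pow]
  · have := pow_card_eq_one' (x := (⟨a, m⟩ : (A ⊓ 𝐂(A) : Subgroup G)))
    rw [e] at this
    exact congrArg Subtype.val this

theorem isoA (c : Cov J7 A α) (h : A ⊓ 𝐂(A) = ⊥) : Nonempty (A ≃* alternatingGroup (Fin 7)) :=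
  ⟨MulEquiv.ofBijective (xi c) ⟨(MonoidHom.ker_eq_bot_iff _).1 (by rw [xi_ker, center_eq_bot, h]),
    xi_surj c⟩⟩

set_option linter.unusedSectionVars false in
theorem cardA (c : Cov J7 A α) : Nat.card A = 2520 * Nat.card (A ⊓ 𝐂(A) : Subgroup G) := by
  have e : c.im A = J7 := by
    ext x
    rw [c.mem_im]
    exact ⟨fun ⟨a, ha, _, e⟩ => e ▸ c.mem a ha, fun h =>
      let ⟨a, ha, e⟩ := c.onto x h; ⟨a, ha, le_normalizer ha, e⟩⟩
  rw [c.card_im le_normalizer, e, nat_card_alternatingGroup, Nat.card_fin]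
  rfl

theorem ex7 (c : Cov J7 A α) : ∃ x ∈ A, ∃ n ∈ A, orderOf x = 7 ∧ n * x * n⁻¹ = x ^ 2 := by
  have : Fact (Nat.Prime 7) := ⟨by norm_num⟩
  have co : ∀ w : G, w ^ 3 = 1 → ∀ K, w ^ 7 ^ K = 1 → w = 1 := fun w h3 K h7 =>
    (pow_eq_one_iff_of_coprime (Nat.Coprime.pow_right K (by norm_num))).1 ⟨h3, h7⟩
  obtain ⟨x, hx, ex, K, hK⟩ := c.liftp (p := 7) (j := finRotate 7) (k := 1) (by norm_num)
    (by rw [Equiv.Perm.mem_alternatingGroup]; decide) (by decide)
  obtain ⟨n, hn, en⟩ := c.onto (Equiv.swap 1 4 * Equiv.swap 1 2 * (Equiv.swap 3 5 * Equiv.swap 3 6))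
    (by rw [Equiv.Perm.mem_alternatingGroup]; decide)
  have x7 : x ^ 7 = 1 := by
    refine co _ (cube c (pow_mem hx 7) ?_) K (by rw [← pow_mul, mul_comm, pow_mul, hK, one_pow])
    rw [c.pow (le_normalizer hx), ex]
    decide
  refine ⟨x, hx, n, hn, orderOf_eq_prime x7 fun e => ?_, ?_⟩
  · rw [e, c.one] at ex
    exact absurd ex (by decide)
  · have m1 := mul_mem (mul_mem hn hx) (inv_mem hn)
    have e1 : α (x ^ 2) = α (n * x * n⁻¹) := by
      rw [c.pow (le_normalizer hx), c.conj (le_normalizer hn) (le_normalizer hx), ex, en]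
      decide
    have m := c.inv_mul_mem (le_normalizer (pow_mem hx 2)) (le_normalizer m1) e1
    have h3 := cube c (mul_mem (inv_mem (pow_mem hx 2)) m1) (c.cen m)
    have cm : Commute (x ^ 2) ((x ^ 2)⁻¹ * (n * x * n⁻¹)) := m _ (pow_mem hx 2)
    have h7 := cm.mul_pow 7
    rw [mul_inv_cancel_left, conj_pow, x7, ← pow_mul, mul_comm 2, pow_mul, x7] at h7
    exact (inv_mul_eq_one.1 (co _ h3 1 (by simpa using h7.symm))).symm

theorem ex6 (c : Cov J7 A α) : ∃ a ∈ A, ∃ b ∈ A, a * a = 1 ∧ a ≠ 1 ∧ b ≠ 1 ∧ Odd (orderOf b) ∧ a * b = b * a := by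
  obtain ⟨a, ha, ea, a2⟩ := c.lifti pzJ (by decide)
  obtain ⟨b, hb, eb, K, hK⟩ := c.liftp (p := 3) (k := 1) (by norm_num) pxJ (by decide)
  refine ⟨a, ha, b, hb, a2, fun e => ?_, fun e => ?_,
    (Odd.pow (by decide)).of_dvd_nat (orderOf_dvd_of_pow_eq_one hK),
    (c.comm_lift (le_normalizer hb) ha (P2.of_sq a2) (by rw [ea, eb]; decide)).symm⟩
  · rw [e, c.one] at ea
    exact absurd ea (by decide)
  · rw [e, c.one] at eb
    exact absurd eb (by decide)

set_option linter.unusedSectionVars false in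
theorem lift_ord (c : Cov J7 A α) {a b : G} (ha : a ∈ A) (hb : b ∈ A) (a2 : a * a = 1) (b2 : b * b = 1) {n : ℕ}
    (h : (α a * α b) ^ n = 1) : (a * b) ^ n = 1 := by
  have m := pow_mem (mul_mem ha hb) n
  have e : α ((a * b) ^ n) = 1 := by rw [c.pow (le_normalizer (mul_mem ha hb)), c.mul' ha hb, h]
  have h1 := conj_eq_of_mem_centralizer (le_centralizer_iff.1
    (zpowers_le.2 ((c.ker _ (le_normalizer m)).1 e)) ha) (mem_zpowers _)
  have h2 : a * (a * b) * a⁻¹ = (a * b)⁻¹ := by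
    rw [← mul_assoc, a2, one_mul, mul_inv_rev, inv_eq_of_mul_eq_one_right b2]
  rw [← conj_pow, h2, inv_pow] at h1
  exact c.eq_one m (P2.of_sq (inv_eq_iff_mul_eq_one.1 h1)) e

theorem ncomm3 (c : Cov J7 A α) (h : A ⊓ 𝐂(A) ≠ ⊥) {x y : G} (hx : x ∈ A) (hy : y ∈ A) (ex : α x = px)
    (ey : α y = py1) : x * y ≠ y * x := by
  intro cm
  have : Fact (Nat.Prime 3) := ⟨by norm_num⟩
  have h3 := (cenA c).resolve_left h
  have n9 : ∀ w ∈ A, α w ^ 3 = 1 → w ^ 9 = 1 := fun w hw e => by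
    have := cube c (pow_mem hw 3) (by rw [c.pow (le_normalizer hw), e])
    rwa [← pow_mul] at this
  set P : Subgroup G := zpowers x ⊔ zpowers y ⊔ (A ⊓ 𝐂(A)) with hP
  have PA : P ≤ A := sup_le (sup_le (zpowers_le.2 hx) (zpowers_le.2 hy)) inf_le_left
  have ab : P ≤ 𝐂(P) := by
    have k : ∀ w ∈ A, w * x = x * w → w * y = y * w → w ∈ 𝐂(P) := fun w hw e1 e2 => by
      rw [hP, H69.centralizer_sup, H69.centralizer_sup, centralizer_zpowers, centralizer_zpowers]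
      exact ⟨⟨mem_centralizer_singleton_iff.2 e1, mem_centralizer_singleton_iff.2 e2⟩,
        fun z hz => (hz.2 w hw).symm⟩
    exact sup_le (sup_le (zpowers_le.2 (k x hx rfl cm)) (zpowers_le.2 (k y hy cm.symm rfl)))
      (inf_le_right.trans (centralizer_anti PA))
  have nn : ∀ {B D : Subgroup G}, B ≤ P → D ≤ P → B ≤ 𝐍(D) := fun h1 h2 =>
    le_normalizer_of_le_centralizer (h1.trans (ab.trans (centralizer_anti h2)))
  have p3 : IsPGroup 3 P := isPGroup_sup_of_le_normalizer_right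
    (isPGroup_sup_of_le_normalizer_right (isP3 (n9 x hx (by rw [ex]; decide)))
      (isP3 (n9 y hy (by rw [ey]; decide)))
      (nn (le_sup_left.trans le_sup_left) (le_sup_right.trans le_sup_left)))
    (IsPGroup.of_card (n := 1) h3) (nn le_sup_left le_sup_right)
  have d9 : 9 ∣ Nat.card (c.im P) := by
    have l : zpowers px ⊔ zpowers py1 ≤ c.im P := sup_le
      (zpowers_le.2 (c.mem_im.2 ⟨x, mem_sup_left (mem_sup_left (mem_zpowers x)), le_normalizer hx, ex⟩))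
      (zpowers_le.2 (c.mem_im.2 ⟨y, mem_sup_left (mem_sup_right (mem_zpowers y)), le_normalizer hy, ey⟩))
    exact nine ▸ card_dvd_of_le l
  have d27 : 27 ∣ Nat.card P := by
    rw [c.card_im (PA.trans le_normalizer)]
    have d3 := card_dvd_of_le (le_inf le_sup_right inf_le_right : A ⊓ 𝐂(A) ≤ P ⊓ 𝐂(A))
    rw [h3] at d3
    exact mul_dvd_mul d9 d3
  have ci := (P.subgroupOf A).card_mul_index
  have cP : Nat.card (P.subgroupOf A) = Nat.card P := Nat.card_congr (subgroupOfEquivOfLe PA).toEquiv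
  rw [cP, cardA c, h3] at ci
  obtain ⟨k, hk⟩ := p3.exists_card_eq
  have key := H4.inf_commutator_inf_center_eq_bot (H := P.subgroupOf A)
    ⟨⟨fun a b => Subtype.ext (Subtype.ext (ab b.2 _ a.2))⟩⟩ (by
      rw [cP, hk]
      apply Nat.Coprime.pow_left
      rw [Nat.Prime.coprime_iff_not_dvd (by norm_num)]
      intro d
      have := mul_dvd_mul d27 d
      rw [ci] at this
      omega)
  apply h
  rw [eq_bot_iff]
  intro z hz
  have : (⟨z, hz.1⟩ : A) ∈ P.subgroupOf A ⊓ commutator A ⊓ center A :=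
    ⟨⟨mem_sup_right hz, by rw [perf_iff.2 c.perf]; trivial⟩, Cv.mem_center.2 hz.2⟩
  rw [key, mem_bot] at this
  exact congrArg Subtype.val this

theorem cls_inv {p : S7} (hp : p ∈ J7) (h2 : p * p = 1) (h1 : p ≠ 1) : ∃ j ∈ J7, j * p * j⁻¹ = pz := by
  rw [← pow_two] at h2
  obtain ⟨b, s⟩ := bound h2
  have k0 := Equiv.Perm.card_cycleType_pos.2 h1
  refine conj_of h2 (by decide) ?_ (r := pu) (by rw [Equiv.Perm.mem_alternatingGroup]; decide)
    (by decide)
  rw [Equiv.Perm.mem_alternatingGroup.1 hp] at s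
  generalize Multiset.card p.cycleType = k at *
  have : k ≤ 3 := by omega
  interval_cases k <;> first | decide | exact absurd s (by decide)

theorem cls_odd {p : S7} (hp : p ∉ J7) (h2 : p * p = 1) : ∃ j ∈ J7, j * p * j⁻¹ = pu ∨ j * p * j⁻¹ = pz * pu := by
  rw [← pow_two] at h2
  obtain ⟨b, s⟩ := bound h2
  have hr : pu ∉ J7 := by rw [Equiv.Perm.mem_alternatingGroup]; decide
  rw [Equiv.Perm.mem_alternatingGroup, s] at hp
  have : Multiset.card p.cycleType = 1 ∨ Multiset.card p.cycleType = 3 := by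
    generalize Multiset.card p.cycleType = k at *
    have : k ≤ 3 := by omega
    interval_cases k <;> first | decide | exact absurd (by decide) hp
  rcases this with e | e
  · obtain ⟨j, hj, e⟩ := conj_of (q := pu) h2 (by decide) (by rw [e]; decide) hr (by decide)
    exact ⟨j, hj, Or.inl e⟩
  · obtain ⟨j, hj, e⟩ := conj_of (q := pz * pu) h2 (by decide) (by rw [e]; decide) hr (by decide)
    exact ⟨j, hj, Or.inr e⟩

theorem cls_three {p : S7} (h3 : p ^ 3 = 1) (h1 : p ≠ 1) : ∃ j ∈ J7, j * p * j⁻¹ = px ∨ j * p * j⁻¹ = py2 := by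
  have : Fact (Nat.Prime 3) := ⟨by norm_num⟩
  have b := (bound h3).1
  have k0 := Equiv.Perm.card_cycleType_pos.2 h1
  rcases (by omega : Multiset.card p.cycleType = 1 ∨ Multiset.card p.cycleType = 2) with e | e
  · obtain ⟨j, hj, e⟩ := conj_of (q := px) h3 (by decide) (by rw [e]; decide) (r := Equiv.swap 0 1)
      (by rw [Equiv.Perm.mem_alternatingGroup]; decide) (by decide)
    exact ⟨j, hj, Or.inl e⟩
  · obtain ⟨j, hj, e⟩ := conj_of (q := py2) h3 (by decide) (by rw [e]; decide) (r := pz * pu)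
      (by rw [Equiv.Perm.mem_alternatingGroup]; decide) (by decide)
    exact ⟨j, hj, Or.inr e⟩

section
set_option linter.unusedSectionVars false

theorem St.CN (s : St A α) {k g : G} (k2 : k * k = 1) (k1 : k ≠ 1) (hk : k ∈ 𝐂(A)) (c : g * k = k * g) : g ∈ 𝐍(A) :=
  s.ti g k k2 k1 hk (by rwa [c, mul_inv_cancel_right])

theorem St.cj (s : St A α) (g : G) : St (A ^ᶜ g) fun x => α (g⁻¹ * x * g) := by
  refine ⟨s.cov.cj g, fun h k k2 k1 h1 h2 => ?_, fun h e => s.nc (g⁻¹ * (h * g)) ?_⟩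
  · rw [← cj_centralizer, mem_cj] at h1 h2
    rw [← cj_normalizer, mem_cj]
    refine s.ti _ _ (by simpa only [inv_inv] using cjsq k2 g⁻¹) (cjne' k1 g) h1 ?_
    convert h2 using 1
    group
  · rwa [← cj_centralizer, le_cj_iff, cj_cj, cj_cj, mul_assoc g⁻¹] at e

theorem St.eq_of (s : St A α) {g k : G} (k2 : k * k = 1) (k1 : k ≠ 1) (h1 : k ∈ 𝐂(A)) (h2 : k ∈ 𝐂(A ^ᶜ g)) :
    g ∈ 𝐍(A) := by
  rw [← cj_centralizer, mem_cj] at h2
  exact inv_mem_iff.1 (s.ti g⁻¹ k k2 k1 h1 (by rwa [inv_inv]))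

end

theorem St.not_le (s : St A α) {g k : G} (hg : g ∉ 𝐍(A)) (k2 : k * k = 1) (k1 : k ≠ 1) (hk : k ∈ 𝐂(A ^ᶜ g))
    (kN : k ∈ 𝐍(A)) : ¬ A ^ᶜ g ≤ 𝐍(A) := by
  intro hB
  have c := s.cov.cj g
  obtain ⟨x, hx, -, -, o7, -⟩ := ex7 c
  by_cases e : α x = 1
  · refine s.nc g ((c.le_of_normal (alternatingGroup.isSimpleGroup (by simp)) (M := A ^ᶜ g ⊓ 𝐂(A))
      inf_le_left (le_normalizer_inf le_normalizer (le_normalizer_centralizer hB))
      ⟨hx, (s.cov.ker x (hB hx)).1 e⟩ fun e' => ?_).trans inf_le_right)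
    have := orderOf_dvd_of_pow_eq_one (cube c hx e')
    rw [o7] at this
    omega
  · refine hg (s.eq_of k2 k1 ((s.cov.ker k kN).1 (seven (σ := α x) ?_ e (s.cov.sq kN k2)
      (s.cov.comm (hB hx) kN (hk x hx)))) hk)
    rw [← s.cov.pow (hB hx), (orderOf_eq_iff (by norm_num)).1 o7 |>.1, s.cov.one]

theorem dec_inner (c : Cov J7 A α) {s : G} (hs : s ∈ 𝐍(A)) (s2 : s * s = 1) (h : α s ∈ J7) :
    ∃ a ∈ A, ∃ k ∈ 𝐂(A), a * a = 1 ∧ k * k = 1 ∧ α a = α s ∧ s = k * a := by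
  obtain ⟨a, ha, ea, a2⟩ := c.lifti h (c.sq hs s2)
  have hk := c.inv_mul_mem (le_normalizer ha) hs ea
  have e : s = a⁻¹ * s * a := by rw [← hk a ha, mul_inv_cancel_left]
  refine ⟨a, ha, _, hk, a2, ?_, ea, e⟩
  calc a⁻¹ * s * (a⁻¹ * s) = a⁻¹ * s * a * (a * a)⁻¹ * s := by group
    _ = 1 := by rw [← e, a2, inv_one, mul_one, s2]

theorem H1.exO (h : H1 E A α t) : ∃ O : Subgroup G, (∀ o, o ∈ O ↔ o ∈ 𝐂(A) ∧ o * t = t * o ∧ Odd (orderOf o)) ∧
    ∀ k ∈ 𝐂(A), k * t = t * k → k ∈ O ∨ k * t ∈ O := by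
  obtain ⟨O, h1, h2⟩ := exists_odd (W := zpowers t) (C := 𝐂(A) ⊓ centralizer {t})
    ⟨zpowers_le.2 ⟨h.tA, mem_centralizer_singleton_iff.2 rfl⟩, (P2.of_sq h.tt).zpowers,
      fun R r1 r2 r3 => le_antisymm (fun r hr => (mem_zp h.tt).2 (h.k2 r (r2 hr).1
        (mem_centralizer_singleton_iff.1 (r2 hr).2) (P2.of_mem r3 hr))) r1⟩
    (zpowers_le.2 fun k hk => mem_centralizer_singleton_iff.1 hk.2)
  refine ⟨O, fun o => ?_, fun k hk c => ?_⟩
  · rw [h1, mem_inf, mem_centralizer_singleton_iff, and_assoc]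
  · obtain ⟨w, hw, o, ho, e⟩ := h2 k ⟨hk, mem_centralizer_singleton_iff.2 c⟩
    rcases (mem_zp h.tt).1 hw with rfl | rfl
    · exact Or.inl (by rwa [e, one_mul])
    · exact Or.inr (by rwa [c, e, ← mul_assoc, h.tt, one_mul])

set_option linter.unusedSectionVars false in
theorem H1.over2 (h : H1 E A α t) {g a : G} (c : g * t = t * g) (g2 : P2 g) (c' : a * t = t * a) (a2 : P2 a)
    (cm : g * a = a * g) (e : α a = α g) : g = a ∨ g = a * t := by
  have := h.k2 _ (h.cov.inv_mul_mem (h.toSt.CN h.tt h.t1 h.tA c') (h.toSt.CN h.tt h.t1 h.tA c) e)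
    (Commute.mul_left (Commute.inv_left c') c) (a2.inv.mul g2 (Commute.inv_left cm.symm))
  exact this.imp (fun e => (inv_mul_eq_one.1 e).symm) fun e => inv_mul_eq_iff_eq_mul.1 e

theorem H1.over2' (h : H1 E A α t) {g a : G} (c : g * t = t * g) (g2 : P2 g) (ha : a ∈ A) (a2 : P2 a)
    (e : α a = α g) : g = a ∨ g = a * t :=
  h.over2 c g2 (h.tA a ha) a2 (h.cov.comm_lift (h.toSt.CN h.tt h.t1 h.tA c) ha a2 (by rw [e])) e

theorem H1.not_cj (h : H1 E A α t) {g s : G} (c : g * t = t * g) (cs : s * t = t * s) (s2 : s * s = 1) :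
    g * s * g⁻¹ ≠ s * t := by
  have nN : ∀ {x}, x * t = t * x → x ∈ 𝐍(A) := fun e => h.toSt.CN h.tt h.t1 h.tA e
  have tA : t ∉ A := fun m => h.t1 ((P2.of_sq h.tt).eq_one (h.cov.odd' m h.tA))
  have key : ∀ g, g * t = t * g → α g ∈ J7 → g * s * g⁻¹ ≠ s * t := by
    intro g c m e
    obtain ⟨O, h1, h2⟩ := h.exO
    obtain ⟨a, ha, ea⟩ := h.cov.onto _ m
    have hk := h.cov.inv_mul_mem (le_normalizer ha) (nN c) ea
    obtain ⟨o, ho, eo⟩ : ∃ o ∈ O, a * o * s * (a * o)⁻¹ = s * t := by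
      rcases h2 _ hk (Commute.mul_left (Commute.inv_left (h.tA a ha)) c) with m | m
      · exact ⟨_, m, by rwa [mul_inv_cancel_left]⟩
      · refine ⟨_, m, ?_⟩
        calc a * (a⁻¹ * g * t) * s * (a * (a⁻¹ * g * t))⁻¹ = g * (t * s) * t⁻¹ * g⁻¹ := by group
          _ = g * s * g⁻¹ := by rw [← cs]; group
          _ = _ := e
    have so : s⁻¹ * o * s ∈ O := by
      obtain ⟨o1, o2, o3⟩ := (h1 o).1 ho
      refine (h1 _).2 ⟨conj_mem_of_mem_normalizer' (normalizer_le_normalizer_centralizer A (nN cs)) o1,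
        Commute.mul_left (Commute.mul_left (Commute.inv_left cs) o2) cs, ?_⟩
      rwa [H9.orderOf_conj' s o]
    have mo := mul_mem so (inv_mem ho)
    obtain ⟨o1, o2, o3⟩ := (h1 _).1 mo
    have ma : s⁻¹ * a * s * a⁻¹ ∈ A := mul_mem (conj_mem_of_mem_normalizer' (nN cs) ha) (inv_mem ha)
    have et : t = s⁻¹ * a * s * a⁻¹ * (s⁻¹ * o * s * o⁻¹) := by
      calc t = s⁻¹ * (s * t) := by group
        _ = s⁻¹ * a * s * ((s⁻¹ * o * s * o⁻¹) * a⁻¹) := by rw [← eo]; group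
        _ = _ := by rw [← o1 _ (inv_mem ha)]; group
    have mc : s⁻¹ * a * s * a⁻¹ ∈ 𝐂(A) := (𝐂(A).mul_mem_cancel_right o1).1 (et ▸ h.tA)
    have cm : Commute (s⁻¹ * a * s * a⁻¹) (s⁻¹ * o * s * o⁻¹) := o1 _ ma
    have := ((h.cov.odd' ma mc).mul o3).of_dvd_nat cm.orderOf_mul_dvd_mul_orderOf
    rw [← et] at this
    exact h.t1 ((P2.of_sq h.tt).eq_one this)
  by_cases m : α g ∈ J7
  · exact key g c m
  by_cases m' : α s ∈ J7
  · intro e
    obtain ⟨a, ha, k, hk, a2, k2, -, rfl⟩ := dec_inner h.cov (nN cs) s2 m'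
    have kt : k * t = t * k := by
      apply mul_right_cancel (b := a)
      rw [mul_assoc, ← h.tA a ha, ← mul_assoc, cs, mul_assoc]
    have gk : g * k * g⁻¹ = k := by
      rcases h.k2 k hk kt (P2.of_sq k2) with rfl | rfl
      · group
      · rw [c, mul_inv_cancel_right]
    have e1 : g * a * g⁻¹ = a * t := by
      apply mul_left_cancel (a := k)
      calc k * (g * a * g⁻¹) = g * k * g⁻¹ * (g * a * g⁻¹) := by rw [gk]
        _ = _ := by rw [← mul_assoc k, ← e]; group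
    exact tA ((A.mul_mem_cancel_left ha).1 (e1 ▸ conj_mem_of_mem_normalizer (nN c) ha))
  · intro e
    refine key (g * s) (Commute.mul_left c cs) ?_ (by rw [← e]; group)
    rw [h.cov.mul _ (nN c) _ (nN cs)]
    rw [Equiv.Perm.mem_alternatingGroup] at m m' ⊢
    rw [map_mul, (Int.units_eq_one_or _).resolve_left m, (Int.units_eq_one_or _).resolve_left m']
    rfl

end H25.A7
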