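import Mathlib
import Cfsg.Agent.Lib.A7S.Bas2

/-! Doubling: the translations of `W1`. -/

set_option autoImplicit false

namespace H25.A7

open Subgroup H69 H36.SW

variable {G : Type*} [Group G] [Finite G]

namespace Dbl

variable {F : Fr G} {a b x y : G}

theorem sqX (h : x ∈ F.X1) : x * x = 1 := F.sqW1 (F.X1W1 h)
theorem cW (ha : a ∈ F.W1) (hb : b ∈ F.W1) : a * b = b * a := comm_of_sq (fun _ => F.sqW1) ha hb
omit [Finite G] in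
theorem zX : F.z ∈ F.X1 := subset_closure (by simp)
omit [Finite G] in
theorem vX : F.v1 ∈ F.X1 := subset_closure (by simp)
omit [Finite G] in
theorem uX : F.u1 ∈ F.X1 := subset_closure (by simp)
omit [Finite G] in
theorem tW : F.t ∈ F.W1 := subset_closure (by simp)

omit [Finite G] in
theorem eX {e : G} (h : e = 1 ∨ e = F.u1) : e ∈ F.X1 := h.elim (· ▸ one_mem _) (· ▸ uX)

theorem dec (h : x ∈ F.X1) : ∃ v, (v = 1 ∨ v = F.z ∨ v = F.v1 ∨ v = F.z * F.v1) ∧ ∃ e, (e = 1 ∨ e = F.u1) ∧ x = v * e := by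
  obtain ⟨b, d, e, rfl⟩ := F.memX1.1 h
  refine ⟨_, ?_, _, ?_, rfl⟩
  · fin_cases b <;> fin_cases d <;> simp [F.zv1]
  · fin_cases e <;> simp

/-- `a` moves `t` to `t x` -/
def Ps (F : Fr G) (a x : G) : Prop := a * F.t * a⁻¹ = F.t * x

omit [Finite G] in
theorem Ps.mul (h : Ps F a x) (k : Ps F b y) (ha : a ∈ 𝐂(F.X1)) (hy : y ∈ F.X1) : Ps F (a * b) (x * y) := by
  unfold Ps at *
  rw [← mul_assoc, ← h, ← conj_eq_of_mem_centralizer ha hy, conj_mul, ← k]; group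

theorem Ps.inv (h : Ps F a x) (ha : a ∈ 𝐂(F.X1)) (hx : x ∈ F.X1) : Ps F a⁻¹ x := by
  unfold Ps at *
  have : a * (F.t * x) * a⁻¹ = F.t := by
    rw [← conj_mul, h, conj_eq_of_mem_centralizer ha hx, mul_assoc, sqX hx, mul_one]
  rw [← this]; nth_rewrite 2 [this]; group

theorem Ps.mulW (h : Ps F a x) (hb : b ∈ F.W1) : Ps F (a * b) x := by
  unfold Ps at *
  rw [← h, mul_assoc a, cW hb tW]; group

omit [Finite G] in
theorem Ps.map (h : Ps F a x) (κ : MulAut G) (hk : κ F.t = F.t) : Ps F (κ a) (κ x) := by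
  have := congrArg κ h
  rwa [map_mul, map_mul, map_mul, map_inv, hk] at this

theorem ex_ps (ha : a ∈ 𝐂(F.X1)) (hn : a ∈ 𝐍(F.W1)) : ∃ x ∈ F.X1, Ps F a x := by
  rcases F.memW1'.1 (conj_mem_of_mem_normalizer hn tW) with h | h
  · have := conj_eq_of_mem_centralizer ha h
    rw [mul_left_inj, mul_right_inj] at this
    exact (F.tX1 (this ▸ h)).elim
  · exact ⟨_, h, by rw [Ps, ← mul_assoc, F.tt, one_mul]⟩

/-- the 2-group `Q` with the automorphisms `θ`, `ν` -/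
structure Dq (F : Fr G) (Q : Subgroup G) (θ ν : MulAut G) : Prop where
  QX : Q ≤ 𝐂(F.X1)
  QN : Q ≤ 𝐍(F.W1)
  WQ : F.W1 ≤ Q
  ct : ∀ q ∈ Q, Ps F q 1 → q ∈ F.W1
  θQ : ∀ q ∈ Q, θ q ∈ Q
  νQ : ∀ q ∈ Q, ν q ∈ Q
  θ3 : ∀ q ∈ Q, θ (θ (θ q)) = q
  ν2 : ∀ q, ν (ν q) = q
  νθ : ∀ q ∈ Q, ν (θ q) = θ (θ (ν q))
  θt : θ F.t = F.t
  θz : θ F.z = F.v1
  θv : θ F.v1 = F.z * F.v1
  θu : θ F.u1 = F.u1
  νt : ν F.t = F.t
  νz : ν F.z = F.z
  νv : ν F.v1 = F.z * F.v1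
  νu : ν F.u1 = F.u1

variable {Q : Subgroup G} {θ ν : MulAut G} (D : Dq F Q θ ν) {p q : G}
include D

theorem Dq.XQ (h : x ∈ F.X1) : x ∈ Q := D.WQ (F.X1W1 h)

omit [Finite G] in
theorem Dq.cx (hx : x ∈ F.X1) (hq : q ∈ Q) : Commute x q := D.QX hq x hx

omit [Finite G] in
theorem Dq.θX (h : x ∈ F.X1) : θ x ∈ F.X1 := (closure_le (F.X1.comap θ.toMonoidHom)).2 (by
  rintro _ (rfl | rfl | rfl)
  exacts [show θ _ ∈ _ from D.θz ▸ vX, show θ _ ∈ _ from D.θv ▸ mul_mem zX vX, show θ _ ∈ _ from D.θu ▸ uX]) h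

omit [Finite G] in
theorem Dq.θe {e : G} (h : e = 1 ∨ e = F.u1) : θ e = e := h.elim (· ▸ map_one θ) (· ▸ D.θu)

omit [Finite G] in
theorem Dq.νe {e : G} (h : e = 1 ∨ e = F.u1) : ν e = e := h.elim (· ▸ map_one ν) (· ▸ D.νu)

theorem Dq.θzv : θ (F.z * F.v1) = F.z := by
  rw [map_mul, D.θz, D.θv, ← mul_assoc, ← F.zv1, mul_assoc, F.v11, mul_one]

theorem Dq.x1 (h : x ∈ F.X1) (k : θ x = x) : x = 1 ∨ x = F.u1 := by
  obtain ⟨v, hv, e, he, rfl⟩ := dec h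
  rw [map_mul, D.θe he, mul_left_inj] at k
  rcases hv with rfl | rfl | rfl | rfl
  · simpa using he
  · exact (F.y1nz (mul_inv_eq_iff_eq_mul.1 (F.y1z.trans (D.θz.symm.trans k)))).elim
  · exact (F.z1 (by simpa [D.θv] using k)).elim
  · exact (cjne F.z1 F.y1 (F.y1z.trans (by simpa [D.θzv] using k))).elim

theorem Dq.x2 (h : x ∈ F.X1) (k : ν x = x) : (x = 1 ∨ x = F.u1) ∨ (x * F.z = 1 ∨ x * F.z = F.u1) := by
  obtain ⟨v, hv, e, he, rfl⟩ := dec h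
  rw [map_mul, D.νe he, mul_left_inj] at k
  rcases hv with rfl | rfl | rfl | rfl
  · simp [he]
  · right; rwa [cW (F.X1W1 zX) (F.X1W1 (eX he)), mul_assoc, F.zz, mul_one]
  · exact (F.z1 (by simpa [D.νv] using k)).elim
  · exact (F.z1 (by simpa [D.νv, D.νz] using k)).elim

omit [Finite G] in
theorem Dq.tri {c w : G} (hb : b ∈ Q) (hc : c ∈ Q) (hx : x ∈ F.X1) (hy : y ∈ F.X1) :
    a * x * (b * y) * (c * w) = a * b * c * (x * y * w) := by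
  rw [(D.cx hx hb).mul_mul_mul_comm, (D.cx (mul_mem hx hy) hc).mul_mul_mul_comm]

theorem Dq.Nz : F.z * θ F.z * θ (θ F.z) = 1 := by rw [D.θz, D.θv]; exact sqX (mul_mem zX vX)

theorem Dq.x3 (h : x ∈ F.X1) (n : x * θ x * θ (θ x) = 1) (k : ν x = x) : x = 1 ∨ x = F.z := by
  have N : x * F.z * θ (x * F.z) * θ (θ (x * F.z)) = 1 := by
    rw [map_mul, map_mul, D.tri (D.XQ (D.θX h)) (D.XQ (D.θX (D.θX h))) zX (D.θX zX), n, D.Nz, one_mul]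
  have c : ∀ y, y * θ y * θ (θ y) = 1 → y = 1 ∨ y = F.u1 → y = 1 := fun y n k => by
    rwa [D.θe k, D.θe k, sqX (eX k), one_mul] at n
  rcases D.x2 h k with k | k
  · exact .inl (c _ n k)
  · exact .inr ((eq_inv_of_mul_eq_one_left (c _ N k)).trans (inv_eq_of_mul_eq_one_left F.zz))

theorem Dq.diff (hp : p ∈ Q) (hq : q ∈ Q) (hx : x ∈ F.X1) (h : Ps F p x) (k : Ps F q x) : p⁻¹ * q ∈ F.W1 :=
  D.ct _ (mul_mem (inv_mem hp) hq) (sqX hx ▸ (h.inv (D.QX hp) hx).mul k (inv_mem (D.QX hp)) hx)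

theorem Dq.sq (hq : q ∈ Q) : q * q ∈ F.X1 := by
  obtain ⟨x, hx, e⟩ := ex_ps (D.QX hq) (D.QN hq)
  refine (F.memW1'.1 (D.ct _ (mul_mem hq hq) (sqX hx ▸ e.mul e (D.QX hq) hx))).elim id fun h => ?_
  have c := (D.cx h hq).eq
  rw [F.sqW1 (D.ct q hq ?_), mul_one] at h
  · exact (F.tX1 h).elim
  · rw [Ps, mul_one, mul_inv_eq_iff_eq_mul, ← mul_left_inj (q * q), mul_assoc q, ← c]; group

theorem Dq.cm (hp : p ∈ Q) (hq : q ∈ Q) : p * q * p⁻¹ * q⁻¹ ∈ F.X1 := by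
  have := mul_mem (mul_mem (D.sq hp) (D.sq (mul_mem (inv_mem hp) hq))) (inv_mem (D.sq hq))
  convert this using 1; group

theorem Dq.tqt (hq : q ∈ Q) (h : Ps F q x) (hx : x ∈ F.X1) : F.t * q * F.t = q * x := by
  have := h.inv (D.QX hq) hx
  rw [Ps, inv_inv, mul_assoc, inv_mul_eq_iff_eq_mul] at this
  rw [this, mul_assoc, mul_assoc, cW (F.X1W1 hx) tW, ← mul_assoc F.t, F.tt, one_mul]

theorem Dq.exists_g {h : G} (hQ : h ∈ Q) (hz : Ps F h F.z) : ∃ g ∈ Q, ∃ ub, (ub = 1 ∨ ub = F.u1) ∧ Ps F g F.z ∧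
    g * θ g * θ (θ g) = 1 ∧ ν g = g * ub := by
  obtain ⟨g, gQ, gz, gN⟩ : ∃ g ∈ Q, Ps F g F.z ∧ g * θ g * θ (θ g) ∈ F.X1 := by
    have m1 := D.θQ _ hQ
    have m2 := D.θQ _ m1
    refine ⟨_, mul_mem m1 m2, ?_, ?_⟩
    · have := (hz.map θ D.θt).mul ((hz.map θ D.θt).map θ D.θt) (D.QX m1) (D.θX (D.θX zX))
      rwa [← map_mul, ← map_mul, D.θz, D.θzv, map_mul] at this
    · have m := mul_mem (D.sq m2) (D.sq hQ)
      have := mul_mem (conj_eq_of_mem_centralizer (D.QX m1) m ▸ m) (D.sq m1)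
      simp only [map_mul, D.θ3 _ hQ]
      convert this using 1; group
  obtain ⟨g, gQ, gz, gN⟩ : ∃ g ∈ Q, Ps F g F.z ∧ g * θ g * θ (θ g) = 1 := by
    obtain ⟨w, hw⟩ : ∃ w, w = g * θ g * θ (θ g) := ⟨_, rfl⟩
    rw [← hw] at gN
    have e : θ w = w := (show _ = _ by rw [hw, map_mul, map_mul, D.θ3 _ gQ]; group).trans
      (conj_eq_of_mem_centralizer (inv_mem (D.QX gQ)) gN)
    refine ⟨_, mul_mem gQ (D.XQ gN), gz.mulW (F.X1W1 gN), ?_⟩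
    rw [map_mul, map_mul, e, e, D.tri (D.θQ _ gQ) (D.θQ _ (D.θQ _ gQ)) gN gN, ← hw, sqX gN, one_mul, sqX gN]
  have m2 := D.θQ _ gQ
  have m3 := D.θQ _ m2
  obtain ⟨w, hw, ew⟩ : ∃ w ∈ F.X1, ν g = g * w := by
    refine ⟨g⁻¹ * ν g, (F.memW1'.1 (D.diff gQ (D.νQ _ gQ) zX gz (D.νz ▸ gz.map ν D.νt))).elim id fun hx => ?_, by group⟩
    obtain ⟨x, ex⟩ : ∃ x, x = F.t * (g⁻¹ * ν g) := ⟨_, rfl⟩
    rw [← ex] at hx
    have e : ν g = g * F.t * x := by rw [ex, mul_assoc, ← mul_assoc F.t, F.tt, one_mul, mul_inv_cancel_left]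
    have tQ := D.WQ tW
    have := congrArg ν gN
    rw [map_mul, map_mul, map_one, D.νθ _ m2, D.νθ _ gQ, D.θ3 _ (D.θQ _ (D.νQ _ gQ)), e] at this
    simp only [map_mul, D.θt] at this
    rw [D.tri (mul_mem m3 tQ) (mul_mem m2 tQ) hx (D.θX (D.θX hx)), mul_assoc g, ← mul_assoc F.t,
      D.tqt m3 ((gz.map θ D.θt).map θ D.θt) (D.θX (D.θX zX)), ← mul_assoc g, (D.cx (D.θX (D.θX zX)) m2).mul_mul_mul_comm]
      at this
    have k : g * θ (θ g) * θ g ∈ F.X1 := by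
      have := D.cm (inv_mem m3) (inv_mem m2)
      rwa [inv_inv, inv_inv, ← mul_inv_rev, inv_eq_of_mul_eq_one_left ((mul_assoc _ _ _).symm.trans gN)] at this
    have := this ▸ one_mem F.X1
    rw [mul_mem_cancel_right (mul_mem (mul_mem hx (D.θX (D.θX hx))) (D.θX hx)), mul_mem_cancel_left k,
      mul_mem_cancel_left (D.θX (D.θX zX))] at this
    exact (F.tX1 this).elim
  have e : ν w = w := by
    have := D.ν2 g
    rw [ew, map_mul, ew, mul_assoc, mul_eq_left] at this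
    exact (eq_inv_of_mul_eq_one_right this).trans (inv_eq_of_mul_eq_one_left (sqX hw))
  rcases D.x2 hw e with k | k
  · exact ⟨g, gQ, w, k, gz, gN, ew⟩
  · refine ⟨_, mul_mem gQ (D.XQ vX), _, k, gz.mulW (F.X1W1 vX), ?_, ?_⟩
    · rw [map_mul, map_mul, D.tri m2 m3 vX (D.θX vX), gN, one_mul, D.θv, D.θzv, ← mul_assoc, ← F.zv1, mul_assoc F.z,
        F.v11, mul_one, F.zz]
    · rw [map_mul, ew, D.νv, mul_assoc, mul_assoc, ← mul_assoc w, cW (F.X1W1 vX) (F.X1W1 (mul_mem hw zX))]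

theorem Dq.exists_v (u1 : F.u1 ≠ 1) {h : G} (hQ : h ∈ Q) (hu : Ps F h F.u1) : ∃ v ∈ Q, Ps F v F.u1 ∧ θ v = v ∧ v * v = 1 ∧
    (ν v = v ∨ ν v = v * F.u1) := by
  have tQ := D.WQ tW
  obtain ⟨v, vQ, vu, vθ⟩ : ∃ v ∈ Q, Ps F v F.u1 ∧ θ v = v := by
    have m1 := D.θQ _ hQ
    have m2 := D.θQ _ m1
    obtain ⟨v, hv⟩ : ∃ v, v = h * θ h * θ (θ h) := ⟨_, rfl⟩
    have vQ : v ∈ Q := hv ▸ mul_mem (mul_mem hQ m1) m2
    obtain ⟨w, hw, ew⟩ : ∃ w ∈ F.X1, θ v = v * w := ⟨_, D.cm (inv_mem vQ) (inv_mem hQ), by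
      conv_lhs => rw [hv, map_mul, map_mul, D.θ3 _ hQ]
      rw [hv]; group⟩
    have n : w * θ w * θ (θ w) = 1 := by
      have := D.θ3 _ vQ
      rwa [ew, map_mul, ew, map_mul, map_mul, ew, mul_assoc, mul_assoc, mul_eq_left, ← mul_assoc] at this
    refine ⟨_, mul_mem vQ (D.XQ (D.θX hw)), Ps.mulW ?_ (F.X1W1 (D.θX hw)), ?_⟩
    · have h1 : Ps F (θ h) F.u1 := D.θu ▸ hu.map θ D.θt
      have := (hu.mul h1 (D.QX hQ) uX).mul (D.θu ▸ h1.map θ D.θt) (D.QX (mul_mem hQ m1)) uX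
      rwa [F.u11, one_mul, ← hv] at this
    · rw [map_mul, ew, mul_assoc, mul_right_inj]
      rw [cW (F.X1W1 hw) (F.X1W1 (D.θX hw)), mul_assoc] at n
      exact (eq_inv_of_mul_eq_one_right n).trans (inv_eq_of_mul_eq_one_left (sqX (D.θX hw)))
  have vt : ∀ v ∈ Q, Ps F v F.u1 → v * F.t * (v * F.t) = v * v * F.u1 := fun v vQ vu => by
    rw [mul_assoc, ← mul_assoc F.t, D.tqt vQ vu uX, mul_assoc]
  obtain ⟨v, vQ, vu, vθ, vv⟩ : ∃ v ∈ Q, Ps F v F.u1 ∧ θ v = v ∧ v * v = 1 := by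
    rcases D.x1 (D.sq vQ) (by rw [map_mul, vθ]) with k | k
    · exact ⟨v, vQ, vu, vθ, k⟩
    · exact ⟨_, mul_mem vQ tQ, vu.mulW tW, by rw [map_mul, vθ, D.θt], by rw [vt v vQ vu, k, F.u11]⟩
  have m := D.νQ _ vQ
  have e : θ (ν v) = ν v := by
    have := D.νθ _ vQ
    rw [vθ] at this
    exact θ.injective (θ.injective (by rw [D.θ3 _ m, ← this]))
  refine ⟨v, vQ, vu, vθ, vv, ?_⟩
  rcases F.memW1'.1 (D.diff vQ m uX vu (D.νu ▸ vu.map ν D.νt)) with hx | hx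
  · exact (D.x1 hx (by rw [map_mul, map_inv, vθ, e])).imp (fun k => (inv_mul_eq_one.1 k).symm)
      fun k => inv_mul_eq_iff_eq_mul.1 k
  · obtain ⟨x, ex⟩ : ∃ x, x = F.t * (v⁻¹ * ν v) := ⟨_, rfl⟩
    rw [← ex] at hx
    have e : ν v = v * F.t * x := by rw [ex, mul_assoc, ← mul_assoc F.t, F.tt, one_mul, mul_inv_cancel_left]
    have := congrArg ν vv
    rw [map_mul, map_one, e, (D.cx hx (mul_mem vQ tQ)).mul_mul_mul_comm, sqX hx, mul_one, vt v vQ vu, vv, one_mul] at this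
    exact (u1 this).elim

theorem Dq.rel {g ub v : G} (gQ : g ∈ Q) (hb : ub = 1 ∨ ub = F.u1) (gN : g * θ g * θ (θ g) = 1) (gν : ν g = g * ub)
    (vQ : v ∈ Q) (vθ : θ v = v) (vv : v * v = 1) (vν : ν v = v ∨ ν v = v * F.u1) :
    g * θ g = θ g * g * ub ∧ ν (θ g) = (g * θ g)⁻¹ * ub ∧ (∃ za, (za = 1 ∨ za = F.z) ∧ g * g = za * ub) ∧
      ∃ zc, (zc = 1 ∨ zc = F.z) ∧ v * g * v = g * zc := by
  have m2 := D.θQ _ gQ
  have m3 := D.θQ _ m2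
  have bX := eX hb
  have e2 : ν (θ g) = θ (θ g) * ub := by rw [D.νθ _ gQ, gν, map_mul, map_mul, D.θe hb, D.θe hb]
  have e3 : ν (θ (θ g)) = θ g * ub := by rw [D.νθ _ m2, e2, map_mul, map_mul, D.θe hb, D.θe hb, D.θ3 _ m2]
  have i3 : θ (θ g) = (g * θ g)⁻¹ := eq_inv_of_mul_eq_one_right gN
  have gd : g * θ g = θ g * g * ub := by
    have := congrArg ν gN
    rw [map_mul, map_mul, map_one, gν, e2, e3, D.tri m3 m2 bX bX, sqX bX, one_mul, i3] at this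
    have k : θ g * ub * g * (g * θ g)⁻¹ = 1 := by
      rwa [mul_assoc _ (θ g), mul_eq_one_comm, ← mul_assoc] at this
    rw [mul_assoc, ← (D.cx bX gQ).eq, ← mul_assoc, ← mul_inv_eq_one.1 k]
  refine ⟨gd, i3 ▸ e2, ⟨g * g * ub, D.x3 (mul_mem (D.sq gQ) bX) ?_ ?_, by rw [mul_assoc, sqX bX, mul_one]⟩,
    g⁻¹ * (v * g * v), ?_, by group⟩
  · simp only [map_mul, D.θe hb]
    rw [D.tri (mul_mem m2 m2) (mul_mem m3 m3) bX bX, sqX bX, one_mul, i3, ← mul_inv_rev, mul_assoc _ _ ub,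
      ← (D.cx bX (inv_mem (mul_mem (mul_mem gQ m2) (mul_mem gQ m2)))).eq, ← mul_assoc, mul_inv_eq_one]
    calc g * g * (θ g * θ g) * ub = g * (g * θ g) * θ g * ub := by group
      _ = g * (θ g * g * ub) * θ g * ub := by rw [← gd]
      _ = g * (θ g * g) * (ub * θ g * ub) := by group
      _ = _ := by rw [(D.cx bX m2).eq, mul_assoc (θ g) ub, sqX bX]; group
  · rw [map_mul, map_mul, gν, D.νe hb, (D.cx bX gQ).mul_mul_mul_comm, sqX bX, mul_one]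
  · obtain ⟨w, ew⟩ : ∃ w, w = g⁻¹ * (v * g * v) := ⟨_, rfl⟩
    have vi : v⁻¹ = v := inv_eq_of_mul_eq_one_left vv
    have hw : w ∈ F.X1 := by have := D.cm (inv_mem gQ) vQ; rwa [inv_inv, vi, mul_assoc, mul_assoc, ← mul_assoc v, ← ew] at this
    have e : v * g * v⁻¹ = g * w := by rw [ew, vi]; group
    rw [← ew]
    have e' : v * θ g * v⁻¹ = θ g * θ w := by simpa only [map_mul, map_inv, vθ] using congrArg θ e
    have e'' : v * θ (θ g) * v⁻¹ = θ (θ g) * θ (θ w) := by simpa only [map_mul, map_inv, vθ] using congrArg θ e'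
    refine D.x3 hw ?_ ?_
    · have := D.tri (a := g) (w := θ (θ w)) m2 m3 hw (D.θX hw)
      rw [← e, ← e', ← e'', conj_mul, conj_mul, gN, one_mul] at this
      rw [← this]; group
    · have := congrArg ν e
      rw [map_mul, map_mul, map_mul, map_inv, gν] at this
      have k : ν v * (g * ub) * (ν v)⁻¹ = g * w * ub := by
        rw [← conj_mul, conj_eq_of_mem_centralizer (D.QX (D.νQ _ vQ)) bX, ← e]
        rcases vν with k | k <;> rw [k]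
        rw [mul_assoc v, (D.cx uX gQ).eq]; group
      rw [k, mul_assoc, mul_assoc, mul_right_inj, cW (F.X1W1 hw) (F.X1W1 bX), mul_right_inj] at this
      exact this.symm

omit D

theorem nX {g : G} (h : g * F.t = F.t * g) (hn : g ∈ 𝐍(F.W1)) : g ∈ 𝐍(F.X1) := by
  obtain ⟨h1, h2⟩ := F.nW1 g h hn
  refine mem_normalizer_of_cj_le (map_le_iff_le_comap.2 ((closure_le _).2 ?_))
  rintro _ (rfl | rfl | rfl)
  · exact F.V1X1 (conj_mem_of_mem_normalizer h2 (subset_closure (by simp)))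
  · exact F.V1X1 (conj_mem_of_mem_normalizer h2 (subset_closure (by simp)))
  · show g * F.u1 * g⁻¹ ∈ F.X1
    rw [h1, mul_inv_cancel_right]; exact uX

theorem Ps.cent (h : Ps F a 1) (ha : a ∈ 𝐂(F.X1)) : a ∈ 𝐂(F.W1) := fun w hw => by
  rw [Ps, mul_one, mul_inv_eq_iff_eq_mul] at h
  refine (F.memW1'.1 hw).elim (ha w) fun k => ?_
  have := ha _ k
  rwa [mul_assoc, ← mul_assoc a, h, mul_assoc, mul_right_inj] at this

theorem Ps.norm (h : Ps F a x) (ha : a ∈ 𝐂(F.X1)) (hx : x ∈ F.X1) : a ∈ 𝐍(F.W1) := by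
  refine mem_normalizer_of_cj_le (map_le_iff_le_comap.2 ((closure_le _).2 ?_))
  have c : ∀ y ∈ F.X1, a * y * a⁻¹ ∈ F.W1 := fun y hy => (conj_eq_of_mem_centralizer ha hy).symm ▸ F.X1W1 hy
  rintro _ (rfl | rfl | rfl | rfl)
  exacts [show a * F.t * a⁻¹ ∈ _ from h.symm ▸ mul_mem tW (F.X1W1 hx), c _ zX, c _ vX, c _ uX]

theorem exists_dq (F : Fr G) : ∃ (S Q : Subgroup G) (η : G), IsPGroup 2 S ∧ F.T ≤ S ∧ Q ≤ S ∧ Dq F Q (MulAut.conj η) (MulAut.conj F.v2) ∧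
    (∃ o ∈ 𝐂(F.W1), Odd (orderOf o) ∧ η = F.y1 * o) ∧ ∀ l ∈ 𝐂(F.X1), ∀ x ∈ F.X1, Ps F l x → ∃ q ∈ Q, Ps F q x := by
  have TN : F.T ≤ 𝐍(F.W1) ⊓ 𝐍(F.X1) := fun g hg =>
    ⟨F.TN1 hg, nX (mem_centralizer_singleton_iff.1 (F.sylT.le hg)) (F.TN1 hg)⟩
  obtain ⟨S, hS, TS⟩ := exists_isSylowIn_le F.isPT TN
  have NL : 𝐍(F.W1) ⊓ 𝐍(F.X1) ≤ 𝐍(𝐂(F.X1) ⊓ 𝐍(F.W1)) :=
    le_normalizer_inf (le_normalizer_centralizer inf_le_right) (le_normalizer_normalizer inf_le_left)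
  have hQ := hS.inf_normal (N := 𝐂(F.X1) ⊓ 𝐍(F.W1)) (fun g hg => ⟨hg.2, centralizer_le_normalizer _ hg.1⟩) NL
  have SQ : S ≤ 𝐍(S ⊓ (𝐂(F.X1) ⊓ 𝐍(F.W1))) := le_normalizer_inf le_normalizer (hS.le.trans NL)
  have WQ : F.W1 ≤ S ⊓ (𝐂(F.X1) ⊓ 𝐍(F.W1)) := fun w hw =>
    ⟨TS (F.W1T hw), fun x hx => cW (F.X1W1 hx) hw, le_normalizer hw⟩
  have QS : S ⊓ (𝐂(F.X1) ⊓ 𝐍(F.W1)) ≤ S := inf_le_left
  generalize S ⊓ (𝐂(F.X1) ⊓ 𝐍(F.W1)) = Q at hQ SQ WQ QS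
  have tr : ∀ l ∈ 𝐂(F.X1), ∀ x ∈ F.X1, Ps F l x → ∃ q ∈ Q, Ps F q x := fun l hl x hx h => by
    obtain ⟨_, ⟨m, rfl⟩, h2⟩ := exists_odd_P2 l
    have e : Ps F (l ^ (2 * m + 1)) x := by
      have := conj_eq_of_mem_centralizer (pow_mem ((sqX hx ▸ h.mul h hl hx).cent (mul_mem hl hl)) m) tW
      rw [pow_succ', pow_mul, sq, Ps, ← h]
      conv_rhs => rw [← this]
      group
    obtain ⟨k, hk, le⟩ := hQ.exists_cj_le h2.zpowers (zpowers_le.2 (pow_mem (mem_inf.2 ⟨hl, h.norm hl hx⟩) _))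
    obtain ⟨y, hy, ey⟩ := ex_ps hk.1 hk.2
    refine ⟨_, le (cj_mem k (mem_zpowers _)), ?_⟩
    have := (ey.mul e hk.1 hx).mul (ey.inv hk.1 hy) (mul_mem hk.1 (pow_mem hl _)) hy
    rwa [cW (F.X1W1 hy) (F.X1W1 hx), mul_assoc x, sqX hy, mul_one] at this
  obtain ⟨O, hO, dO, nO⟩ := F.exO1
  obtain ⟨a, ha, n, hn, e⟩ := hQ.frattini' (NL ⟨F.y1N, nX F.y1t F.y1N⟩)
  obtain ⟨x, hx, ex⟩ := ex_ps hn.1 hn.2
  obtain ⟨q, hq, eq⟩ := tr n hn.1 x hx ex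
  have qX := (hQ.le hq).1
  obtain ⟨w, hw, o, ho, eo⟩ := dO _ ((sqX hx ▸ (eq.inv qX hx).mul ex (inv_mem qX) hx).cent (mul_mem (inv_mem qX) hn.1))
  have oi := inv_mem ho
  have ηN : F.y1 * o⁻¹ ∈ 𝐍(Q) := by
    rw [e, inv_mul_eq_iff_eq_mul.1 eo, ← mul_assoc, ← mul_assoc, mul_inv_cancel_right]
    exact mul_mem (mul_mem ha (le_normalizer hq)) (le_normalizer (WQ hw))
  generalize o⁻¹ = o at oi ηN
  have vT : F.v2 ∈ F.T := subset_closure (by simp)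
  have vN := SQ (TS vT)
  have cO : ∀ o ∈ O, o ∈ 𝐍(Q) → ∀ q ∈ Q, o * q * o⁻¹ = q := fun o ho hn q hq => conj_eq_of_mem_centralizer
    (odd_norm_cent hQ.isP (fun o h => ((hO o).1 h).2) (fun q hq => nO (hQ.le hq).2) ho hn) hq
  have yO : ∀ o ∈ O, F.y1 * o * F.y1⁻¹ ∈ O := fun o => conj_mem_of_mem_normalizer (nO F.y1N)
  have vi : F.v2⁻¹ = F.v2 := inv_eq_of_mul_eq_one_left F.v22
  have θ3 : ∀ q ∈ Q, MulAut.conj (F.y1 * o) (MulAut.conj (F.y1 * o) (MulAut.conj (F.y1 * o) q)) = q := fun q hq => by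
    refine Eq.trans ?_ (cO (F.y1 * o * (F.y1 * o) * (F.y1 * o)) ?_ (mul_mem (mul_mem ηN ηN) ηN) q hq)
    · simp only [MulAut.conj_apply]; group
    · have := mul_mem (mul_mem (yO _ oi) (yO _ (yO _ oi))) oi
      have y3 : F.y1⁻¹ * F.y1⁻¹ = F.y1 := by
        rw [← mul_inv_rev, inv_eq_iff_mul_eq_one, ← F.y13, pow_three']
      rw [mul_assoc F.y1 (_ * _), mul_assoc _ F.y1⁻¹ F.y1⁻¹, y3] at this
      convert this using 1; group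
  have θν : ∀ q ∈ Q, MulAut.conj (F.y1 * o) (MulAut.conj F.v2 (MulAut.conj (F.y1 * o) (MulAut.conj F.v2 q))) = q :=
    fun q hq => by
    refine Eq.trans ?_ (cO (F.y1 * o * F.v2 * (F.y1 * o * F.v2)) ?_ (mul_mem (mul_mem ηN vN) (mul_mem ηN vN)) q hq)
    · simp only [MulAut.conj_apply]; group
    · have := mul_mem (yO _ oi) (conj_mem_of_mem_normalizer (nO (F.TN1 vT)) oi)
      rw [← F.v2y, vi] at this
      convert this using 1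
      simp only [mul_assoc]
      rw [← mul_assoc F.v2 F.v2, F.v22, one_mul]
  have ν2 : ∀ q, MulAut.conj F.v2 (MulAut.conj F.v2 q) = q := fun q => by
    rw [← MulAut.mul_apply, ← map_mul, F.v22, map_one, MulAut.one_apply]
  have oc : ∀ w ∈ F.W1, MulAut.conj (F.y1 * o) w = F.y1 * w * F.y1⁻¹ := fun w hw => by
    rw [map_mul, MulAut.mul_apply, MulAut.conj_apply, MulAut.conj_apply, conj_eq_of_mem_centralizer ((hO o).1 oi).1 hw]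
  have νQ : ∀ q ∈ Q, MulAut.conj F.v2 q ∈ Q := fun q => conj_mem_of_mem_normalizer vN
  have θQ : ∀ q ∈ Q, MulAut.conj (F.y1 * o) q ∈ Q := fun q => conj_mem_of_mem_normalizer ηN
  refine ⟨S, Q, _, hS.isP, TS, QS, ⟨hQ.le.trans inf_le_left, hQ.le.trans inf_le_right, WQ,
    fun q hq h => F.p2W1 (h.cent (hQ.le hq).1) (P2.of_mem hQ.isP hq), θQ, νQ, θ3, ν2, fun q hq => ?_,
    (oc _ tW).trans (mul_inv_eq_of_eq_mul F.y1t), (oc _ (F.X1W1 zX)).trans F.y1z, (oc _ (F.X1W1 vX)).trans F.y1v,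
    (oc _ (F.X1W1 uX)).trans (mul_inv_eq_of_eq_mul F.y1u), mul_inv_eq_of_eq_mul F.tv2.symm,
    mul_inv_eq_of_eq_mul F.sw.zv1.symm, ?_, mul_inv_eq_of_eq_mul F.u1v2.symm⟩, ⟨o, ((hO o).1 oi).1, ((hO o).1 oi).2, rfl⟩, tr⟩
  · have := θν _ (νQ q hq)
    rw [ν2] at this
    rw [← this, θ3 _ (νQ _ (θQ q hq))]
  · rw [MulAut.conj_apply, vi]; exact F.sw.v121

end Dbl
open Dbl

namespace Fr

theorem dbl (F : Fr G) {u0 : G} (hz : ∃ σ ∈ 𝐂(F.X1), σ * F.t * σ⁻¹ = F.t * F.z)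
    (hu : u0 = 1 ∨ (u0 = F.u1 ∧ F.u1 ≠ 1 ∧ ∃ σ ∈ 𝐂(F.X1), σ * F.t * σ⁻¹ = F.t * F.u1)) :
    ∃ ub za zc g d v η, F.Tr u0 ub za zc g d v η := by
  obtain ⟨S, Q, η, hS, TS, QS, D, hη, tr⟩ := exists_dq F
  obtain ⟨σ, hσ, e⟩ := hz
  obtain ⟨h, hQ, hz⟩ := tr σ hσ _ zX e
  obtain ⟨g, gQ, ub, hb, gz, gN, gν⟩ := D.exists_g hQ hz
  obtain ⟨v, vQ, h0, vu, vθ, vv, vν⟩ : ∃ v ∈ Q, ((u0 = 1 ∧ v = 1) ∨ (u0 = F.u1 ∧ F.u1 ≠ 1)) ∧ Ps F v u0 ∧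
      MulAut.conj η v = v ∧ v * v = 1 ∧ (MulAut.conj F.v2 v = v ∨ MulAut.conj F.v2 v = v * F.u1) := by
    rcases hu with rfl | ⟨rfl, u1, σ, hσ, e⟩
    · exact ⟨1, one_mem _, .inl ⟨rfl, rfl⟩, by simp [Ps], map_one _, one_mul _, .inl (map_one _)⟩
    · obtain ⟨h, hQ, hu⟩ := tr σ hσ _ uX e
      obtain ⟨v, vQ, k⟩ := D.exists_v u1 hQ hu
      exact ⟨v, vQ, .inr ⟨rfl, u1⟩, k⟩
  obtain ⟨gd, νd, ⟨za, ha, gg⟩, zc, hc, vg⟩ := D.rel gQ hb gN gν vQ vθ vv vν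
  have := F.En
  have vi : ∀ x, MulAut.conj F.v2 x = F.v2 * x * F.v2 := fun x => by
    rw [MulAut.conj_apply, inv_eq_of_mul_eq_one_left F.v22]
  have gE : g ∈ F.E := F.odd_mem (n := 3) (by decide) (by
    have c : ∀ x, QuotientGroup.mk' F.E (MulAut.conj η x) = QuotientGroup.mk' F.E x := fun x => by
      rw [← mul_inv_eq_one, ← map_inv, ← map_mul]; exact (QuotientGroup.eq_one_iff _).2 (F.comm_mem η x)
    have := congrArg (QuotientGroup.mk' F.E) gN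
    rw [map_mul, map_mul, c, c, c, map_one, ← pow_three', ← map_pow] at this
    exact (QuotientGroup.eq_one_iff _).1 this)
  refine ⟨ub, za, zc, g, _, v, η, h0, hb, ha, hc, hη, D.QX gQ, D.QX (D.θQ _ gQ), D.QX vQ, gz, D.θz ▸ gz.map _ D.θt, vu, rfl,
    eq_inv_of_mul_eq_one_right gN, mul_inv_eq_iff_eq_mul.1 vθ, vv, gg, gd, vg, vi g ▸ gν, vi _ ▸ νd, vi v ▸ vν, gE,
    F.En.conj_mem g gE η, hS.to_le ((closure_le _).2 ?_)⟩
  rintro _ (rfl | rfl | rfl | rfl | rfl | rfl | rfl)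
  exacts [TS (F.W1T tW), TS (F.W1T (F.X1W1 vX)), TS (subset_closure (by simp)), TS (F.W1T (F.X1W1 uX)), QS gQ,
    QS (D.θQ _ gQ), QS vQ]

end Fr

end H25.A7
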