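import Mathlib
import Cfsg.Agent.Lib.A7S.Cv

/-! The Sylow 2-subgroup of `C(t)`. -/

set_option autoImplicit false

namespace H25.A7

open Subgroup H69 H36.SW

variable {G : Type*} [Group G] [Finite G]
variable {A E : Subgroup G} {α : G → S7} {t : G}

/-- normal forms in a dihedral group of order eight -/
def faw {X : Type*} [Group X] (p q : X) (a b c : Bool) : X :=
  (if a then p else 1) * (if b then q else 1) * (if c then (p * q) ^ 2 else 1)

/-- normal forms in a Sylow 2-subgroup of `S₇` -/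
def faW (i : Bool × Bool × Bool × Bool) : S7 := faw pv1 pv2 i.1 i.2.1 i.2.2.1 * if i.2.2.2 then pu else 1

/-- a Sylow 2-subgroup of `S₇` -/
def faQ : Subgroup S7 where
  carrier := Set.range faW
  mul_mem' := by
    rintro _ _ ⟨i, rfl⟩ ⟨j, rfl⟩
    exact (by decide +kernel : ∀ i j, ∃ k, faW k = faW i * faW j) i j
  one_mem' := ⟨(false, false, false, false), by decide +kernel⟩
  inv_mem' := by
    rintro _ ⟨i, rfl⟩
    exact (by decide +kernel : ∀ i, ∃ k, faW k = (faW i)⁻¹) i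

theorem faQ_syl : IsSylowIn 2 faQ ⊤ := by
  have : Fact (Nat.Prime 2) := ⟨Nat.prime_two⟩
  have h : Nat.card faQ = 16 :=
    (Nat.card_range_of_injective (f := faW) (by decide +kernel)).trans (by simp)
  refine isSylowIn_of_not_dvd_relIndex (IsPGroup.of_card (n := 4) h) le_top ?_
  have := faQ.card_mul_index
  rw [h, Nat.card_perm, Nat.card_fin, show Nat.factorial 7 = 5040 from rfl] at this
  rw [relIndex_top_right]
  omega

omit [Finite G] in
theorem faw_mem {B : Subgroup G} {p q : G} (hp : p ∈ B) (hq : q ∈ B) (a b c : Bool) : faw p q a b c ∈ B := by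
  refine mul_mem (mul_mem ?_ ?_) ?_ <;> split_ifs
  exacts [hp, one_mem _, hq, one_mem _, pow_mem (mul_mem hp hq) 2, one_mem _]

omit [Finite G] in
theorem faw_map (c : Cov J7 A α) {p q : G} (hp : p ∈ A) (hq : q ∈ A) (a b d : Bool) :
    α (faw p q a b d) = faw (α p) (α q) a b d := by
  have e : α (faw p q a b d) = c.hom (faw ⟨p, le_normalizer hp⟩ ⟨q, le_normalizer hq⟩ a b d) := by
    cases a <;> cases b <;> cases d <;> rfl
  rw [e]
  cases a <;> cases b <;> cases d <;> simp only [faw, map_mul, map_pow, map_one, if_true, if_false,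
    Bool.false_eq_true] <;> rfl

theorem H1.syl (h : H1 E A α t) : ∃ v1 ∈ A, ∃ v2 ∈ A, ∃ u, v1 * v1 = 1 ∧ v2 * v2 = 1 ∧ α v1 = pv1 ∧ α v2 = pv2 ∧
      (u = 1 ∨ (u * u = 1 ∧ u * t = t * u ∧ α u = pu)) ∧
      IsSylowIn 2 (closure ({t, v1, v2, u} : Set G)) (centralizer {t}) := by
  have : Fact (Nat.Prime 2) := ⟨Nat.prime_two⟩
  have c := h.cov
  have HN : centralizer {t} ≤ 𝐍(A) := fun g hg =>
    h.toSt.CN h.tt h.t1 h.tA (mem_centralizer_singleton_iff.1 hg)
  have At : ∀ a ∈ A, a * t = t * a := fun a ha => h.tA a ha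
  have AH : A ≤ centralizer {t} := fun a ha => mem_centralizer_singleton_iff.2 (At a ha)
  obtain ⟨T, hT, hQ⟩ : ∃ T, IsSylowIn 2 T (centralizer {t}) ∧ ∀ x ∈ T, α x ∈ faQ := by
    obtain ⟨T, hT⟩ := exists_isSylowIn 2 (centralizer ({t} : Set G))
    obtain ⟨j, -, hj⟩ := faQ_syl.exists_cj_le (c.isP_im hT.isP) le_top
    obtain ⟨j, jJ, hj⟩ : ∃ j ∈ J7, c.im T ^ᶜ j ≤ faQ := by
      by_cases e : j ∈ J7
      · exact ⟨j, e, hj⟩
      · refine ⟨pu * j, ?_, ?_⟩
        · rw [Equiv.Perm.mem_alternatingGroup] at e ⊢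
          rw [map_mul, (Int.units_eq_one_or _).resolve_left e]
          decide
        · rw [← cj_cj]
          exact cj_le_of_mem hj ⟨(false, false, false, true), by decide +kernel⟩
    obtain ⟨a, ha, rfl⟩ := c.onto j jJ
    refine ⟨T ^ᶜ a, hT.cj_of_mem (AH ha), fun x hx => ?_⟩
    obtain ⟨y, hy, rfl⟩ := mem_cj'.1 hx
    rw [c.conj (le_normalizer ha) (HN (hT.le hy))]
    exact hj (cj_mem _ (c.mem_im.2 ⟨y, hy, HN (hT.le hy), rfl⟩))
  have TN : T ≤ 𝐍(A) := hT.le.trans HN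
  have Tt : ∀ x ∈ T, x * t = t * x := fun x hx => mem_centralizer_singleton_iff.1 (hT.le hx)
  have T2 : ∀ x ∈ T, P2 x := fun x hx => .of_mem hT.isP hx
  have tT : t ∈ T := hT.le_of_le_normalizer (P2.of_sq h.tt).zpowers
    (zpowers_le.2 (mem_centralizer_singleton_iff.2 rfl))
    (le_normalizer_of_le_centralizer fun x hx => by
      rintro _ ⟨k, rfl⟩
      exact ((show Commute x t from Tt x hx).zpow_right k).eq.symm) (mem_zpowers t)
  obtain ⟨P, hP, cP⟩ := c.exists_lift (Y := faQ ⊓ J7) inf_le_right (faQ_syl.isP.to_le inf_le_left)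
  have PT : P ≤ T := hT.le_of_le_normalizer (isP_of_P2 fun x hx => ((hP x).1 hx).2.1)
    (fun x hx => AH ((hP x).1 hx).1) fun x hx => mem_normalizer_fintype fun y hy => by
      obtain ⟨h1, h2, h3⟩ := (hP y).1 hy
      have h4 := (mem_normalizer_iff.1 (TN hx) y).1 h1
      refine (hP _).2 ⟨h4, h2.conj x, ?_, c.mem _ h4⟩
      rw [c.conj (TN hx) (le_normalizer h1)]
      exact faQ.mul_mem (faQ.mul_mem (hQ x hx) h3.1) (faQ.inv_mem (hQ x hx))
  obtain ⟨v1, a1, e1, s1⟩ := c.lifti (j := pv1) (Equiv.Perm.mem_alternatingGroup.2 (by decide)) (by decide)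
  obtain ⟨v2, a2, e2, s2⟩ := c.lifti (j := pv2) (Equiv.Perm.mem_alternatingGroup.2 (by decide)) (by decide)
  have v1T : v1 ∈ T := PT ((hP _).2 ⟨a1, .of_sq s1, e1 ▸ ⟨(true, false, false, false), by decide +kernel⟩,
    c.mem _ a1⟩)
  have v2T : v2 ∈ T := PT ((hP _).2 ⟨a2, .of_sq s2, e2 ▸ ⟨(false, true, false, false), by decide +kernel⟩,
    c.mem _ a2⟩)
  have ev : ∀ x ∈ T, ∀ a b d, α x = faw pv1 pv2 a b d → x = faw v1 v2 a b d ∨ x = faw v1 v2 a b d * t :=
    fun x hx a b d e => h.over2' (Tt x hx) (T2 x hx) (faw_mem a1 a2 _ _ _) (T2 _ (faw_mem v1T v2T _ _ _))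
      (by rw [faw_map c a1 a2, e1, e2, e])
  have evm : ∀ u, ∀ x ∈ T, ∀ a b d, α x = faw pv1 pv2 a b d → x ∈ closure ({t, v1, v2, u} : Set G) := by
    intro u x hx a b d e
    have m := faw_mem (B := closure ({t, v1, v2, u} : Set G)) (p := v1) (q := v2)
      (subset_closure (by simp)) (subset_closure (by simp)) a b d
    rcases ev x hx a b d e with e | e <;> rw [e]
    exacts [m, mul_mem m (subset_closure (by simp))]
  have fin : ∀ u ∈ T, T ≤ closure ({t, v1, v2, u} : Set G) →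
      IsSylowIn 2 (closure ({t, v1, v2, u} : Set G)) (centralizer {t}) := fun u hu e => by
    rwa [le_antisymm ((closure_le _).2 (by
      rintro x (rfl | rfl | rfl | rfl)
      exacts [tT, v1T, v2T, hu])) e]
  by_cases hx : ∃ x ∈ T, ∃ a b d, α x = faw pv1 pv2 a b d * pu
  swap
  · refine ⟨v1, a1, v2, a2, 1, s1, s2, e1, e2, Or.inl rfl, fin 1 (one_mem _) fun x hx' => ?_⟩
    obtain ⟨⟨a, b, d, i⟩, e⟩ := hQ x hx'
    cases i
    · exact evm 1 x hx' a b d (e.symm.trans (mul_one _))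
    · exact absurd ⟨x, hx', a, b, d, e.symm⟩ hx
  obtain ⟨φ, hφ, eφ⟩ : ∃ φ ∈ T, α φ = pu := by
    obtain ⟨x, hx, a, b, d, e⟩ := hx
    have m := faw_mem v1T v2T a b d
    refine ⟨_, mul_mem (inv_mem m) hx, ?_⟩
    rw [c.mul _ (inv_mem (TN m)) _ (TN hx), c.inv (TN m), faw_map c a1 a2, e1, e2, e, inv_mul_cancel_left]
  have od : ∀ x ∈ T, ∀ a b d, α x = faw pv1 pv2 a b d * pu → α (x * φ⁻¹) = faw pv1 pv2 a b d :=
    fun x hx a b d e => by
      rw [c.mul _ (TN hx) _ (inv_mem (TN hφ)), c.inv (TN hφ), e, eφ, mul_inv_cancel_right]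
  have gen : T ≤ closure ({t, v1, v2, φ} : Set G) := fun x hx' => by
    obtain ⟨⟨a, b, d, i⟩, e⟩ := hQ x hx'
    cases i
    · exact evm φ x hx' a b d (e.symm.trans (mul_one _))
    · simpa using mul_mem (evm φ _ (mul_mem hx' (inv_mem hφ)) a b d (od x hx' a b d e.symm))
        (subset_closure (by simp) : φ ∈ closure ({t, v1, v2, φ} : Set G))
  have cφ : ∀ x ∈ T, x * φ = φ * x := fun x hx => by
    refine mem_centralizer_singleton_iff.1 ((closure_le (centralizer {φ})).2 ?_ (gen hx))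
    rintro x (rfl | rfl | rfl | rfl) <;> refine mem_centralizer_singleton_iff.2 ?_
    · exact (Tt φ hφ).symm
    · exact (c.comm_lift (TN hφ) a1 (.of_sq s1) (by rw [eφ, e1]; decide)).symm
    · exact (c.comm_lift (TN hφ) a2 (.of_sq s2) (by rw [eφ, e2]; decide)).symm
    · rfl
  rcases h.k2 (φ * φ) ((c.ker _ (TN (mul_mem hφ hφ))).1 (by rw [c.mul _ (TN hφ) _ (TN hφ), eφ]; decide))
    (Tt _ (mul_mem hφ hφ)) (T2 _ (mul_mem hφ hφ)) with e | e
  · exact ⟨v1, a1, v2, a2, φ, s1, s2, e1, e2, Or.inr ⟨e, Tt φ hφ, eφ⟩, fin φ hφ gen⟩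
  exfalso
  have tA : t ∉ A := fun k => h.t1 (c.eq_one k (.of_sq h.tt) (c.cen h.tA))
  obtain ⟨g, gT, gt⟩ : ∃ g, g * t * g⁻¹ ∈ T ∧ g * t * g⁻¹ ≠ t := by
    obtain ⟨g, g1, g2⟩ := h.zs
    obtain ⟨k, hk, e⟩ := hT.exists_cj_le (P2.of_sq (cjsq h.tt g)).zpowers
      (zpowers_le.2 (mem_centralizer_singleton_iff.2 g2))
    have k1 := mem_centralizer_singleton_iff.1 hk
    refine ⟨k * g, by simpa [mul_assoc] using e (cj_mem k (mem_zpowers _)), fun e => g1 ?_⟩
    calc g * t * g⁻¹ = k⁻¹ * (k * g * t * (k * g)⁻¹) * k := by group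
      _ = t := by rw [e, mul_assoc, ← k1, inv_mul_cancel_left]
  have ss := cjsq h.tt g
  have sq : ∀ x a : G, a ∈ A → x = a ∨ x = a * t → x * x = a * a := fun x a ha e => by
    rcases e with rfl | rfl
    · rfl
    · rw [mul_assoc, ← mul_assoc t, ← At a ha, mul_assoc a t, h.tt, mul_one]
  obtain ⟨a0, ha0, ea0⟩ : ∃ a ∈ A, g * t * g⁻¹ = a ∨ g * t * g⁻¹ = a * t := by
    obtain ⟨⟨a, b, d, i⟩, e'⟩ := hQ _ gT
    cases i
    · exact ⟨_, faw_mem a1 a2 a b d, ev _ gT a b d (e'.symm.trans (mul_one _))⟩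
    · have h1 := sq _ _ (faw_mem a1 a2 a b d) (ev _ (mul_mem gT (inv_mem hφ)) a b d (od _ gT a b d e'.symm))
      refine absurd (inv_mem_iff.1 ?_) tA
      have h2 := cφ _ gT
      generalize g * t * g⁻¹ = s at h1 h2 ss
      have h3 : s * φ⁻¹ * (s * φ⁻¹) = t⁻¹ := by
        calc _ = s * (φ⁻¹ * (s * φ) * φ⁻¹) * φ⁻¹ := by group
          _ = s * s * (φ * φ)⁻¹ := by rw [h2]; group
          _ = _ := by rw [ss, e, one_mul]
      rw [← h3, h1]
      exact mul_mem (faw_mem a1 a2 a b d) (faw_mem a1 a2 a b d)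
  have a02 : a0 * a0 = 1 := (sq _ _ ha0 ea0).symm.trans ss
  have a01 : a0 ≠ 1 := fun k => by
    rw [k, one_mul] at ea0
    exact ea0.elim (cjne h.t1 g) gt
  obtain ⟨j, jJ, hj⟩ := cls_inv (c.mem _ ha0) (c.sq (le_normalizer ha0) a02)
    fun k => a01 (c.eq_one ha0 (.of_sq a02) k)
  obtain ⟨b, hb, rfl⟩ := c.onto j jJ
  have zA : b * a0 * b⁻¹ ∈ A := mul_mem (mul_mem hb ha0) (inv_mem hb)
  have ez : α (b * a0 * b⁻¹) = pz := (c.conj (le_normalizer hb) (le_normalizer ha0)).trans hj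
  have cz : ∀ x ∈ T, x * (b * a0 * b⁻¹) = b * a0 * b⁻¹ * x := fun x hx =>
    c.comm_lift (TN hx) zA (.of_sq (cjsq a02 b)) (by
      obtain ⟨i, e⟩ := hQ x hx
      rw [ez, ← e]
      exact (by decide +kernel : ∀ i, faW i * pz = pz * faW i) i)
  have es : b * g * t * (b * g)⁻¹ = b * a0 * b⁻¹ ∨ b * g * t * (b * g)⁻¹ = b * a0 * b⁻¹ * t := by
    rw [show b * g * t * (b * g)⁻¹ = b * (g * t * g⁻¹) * b⁻¹ by group]
    rcases ea0 with k | k <;> rw [k]
    · exact Or.inl rfl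
    · exact Or.inr (by rw [mul_assoc _ b⁻¹, At _ (inv_mem hb)]; group)
  obtain ⟨n, hn, en⟩ := burnside hT (g := b * g) rfl fun x hx => mem_centralizer_singleton_iff.2 (by
    rcases es with k | k <;> rw [k]
    · exact cz x hx
    · rw [← mul_assoc x, cz x hx, mul_assoc _ x, Tt x hx, ← mul_assoc])
  have m := (mem_normalizer_iff.1 hn φ).1 hφ
  have cn : ∀ x ∈ T, n * φ * n⁻¹ * x = x * (n * φ * n⁻¹) := fun x hx => by
    have := cφ _ ((mem_normalizer_iff.1 (inv_mem hn) x).1 hx)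
    calc _ = n * (φ * (n⁻¹ * x * n⁻¹⁻¹)) * n⁻¹ := by group
      _ = _ := by rw [← this]; group
  have h1 : α (n * φ * n⁻¹) * α (n * φ * n⁻¹) = pz := by
    rw [← c.mul _ (TN m) _ (TN m), conj_mul, e, en]
    rcases es with k | k <;> rw [k]
    exacts [ez, (c.mul_cen (le_normalizer zA) h.tA).trans ez]
  have h2 := c.comm (TN m) (TN v1T) (cn _ v1T)
  have h3 := c.comm (TN m) (TN v2T) (cn _ v2T)
  obtain ⟨i, e'⟩ := hQ _ m
  rw [← e'] at h1 h2 h3
  rw [e1] at h2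
  rw [e2] at h3
  exact (by decide +kernel : ∀ i, faW i * pv1 = pv1 * faW i → faW i * pv2 = pv2 * faW i → faW i * faW i ≠ pz)
    i h2 h3 h1

theorem eqns_FA : True := by
  have := @faw.eq_1.{0}
  have := @faW.eq_1
  have := @faQ.eq_1
  trivial

end H25.A7
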