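import Mathlib
import Cfsg.Agent.Lib.A7S.Cv

/-! The frame. -/

set_option autoImplicit false

namespace H25.A7

open Subgroup H69 H36.SW

variable {G : Type*} [Group G] [Finite G]
variable {A E : Subgroup G} {α : G → S7} {t : G}

namespace FB

theorem memJ {p : S7} : p ∈ J7 ↔ Equiv.Perm.sign p = 1 := Equiv.Perm.mem_alternatingGroup

theorem five_aux : ∀ a b c : Fin 7,
    (∀ i, (![a, (pz * pu) a, b, (pz * pu) b, c, (pz * pu) c, 6] : Fin 7 → Fin 7)^[5] i = i) →
      ∀ i, (![a, (pz * pu) a, b, (pz * pu) b, c, (pz * pu) c, 6] : Fin 7 → Fin 7) i = i := by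
  decide +kernel

theorem five {x : S7} (h : x * (pz * pu) = pz * pu * x) (h5 : x ^ 5 = 1) : x = 1 := by
  have c : ∀ i, x ((pz * pu) i) = (pz * pu) (x i) := fun i => Equiv.congr_fun h i
  have k : ∀ j : Fin 7, j = (pz * pu) j → j = 6 := by decide +kernel
  have e : (x : Fin 7 → Fin 7) =
      ![x 0, (pz * pu) (x 0), x 2, (pz * pu) (x 2), x 4, (pz * pu) (x 4), 6] := by
    funext i
    fin_cases i
    exacts [rfl, c 0, rfl, c 2, rfl, c 4, k _ (c 6)]
  refine Equiv.ext fun i => ?_
  have := five_aux (x 0) (x 2) (x 4) (fun j => by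
    rw [← e, Equiv.Perm.iterate_eq_pow, h5]; rfl) i
  rwa [← e] at this

theorem mem8 {X : Type*} [Group X] {p q r x : X} (pp : p * p = 1) (qq : q * q = 1) (rr : r * r = 1)
    (pq : Commute q p) (pr : Commute r p) (qr : Commute r q) (hx : x ∈ closure ({p, q, r} : Set X)) :
    ∃ a b c, (a = 1 ∨ a = p) ∧ (b = 1 ∨ b = q) ∧ (c = 1 ∨ c = r) ∧ x = a * b * c := by
  suffices k : ∃ a b c : ℕ, x = p ^ a * q ^ b * r ^ c by
    obtain ⟨a, b, c, e⟩ := k
    exact ⟨_, _, _, (mem_zp pp).1 (npow_mem_zpowers p a), (mem_zp qq).1 (npow_mem_zpowers q b),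
      (mem_zp rr).1 (npow_mem_zpowers r c), e⟩
  have m : ∀ x ∈ ({p, q, r} : Set X), ∃ a b c : ℕ, x = p ^ a * q ^ b * r ^ c := by
    rintro _ (rfl | rfl | rfl)
    exacts [⟨1, 0, 0, by simp⟩, ⟨0, 1, 0, by simp⟩, ⟨0, 0, 1, by simp⟩]
  induction hx using closure_induction'' with
  | mem x hx => exact m x hx
  | inv_mem x hx =>
    rw [inv_eq_of_mul_eq_one_right (by rcases hx with rfl | rfl | rfl <;> assumption : x * x = 1)]
    exact m x hx
  | one => exact ⟨0, 0, 0, by simp⟩
  | mul x y _ _ h1 h2 =>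
    obtain ⟨a, b, c, rfl⟩ := h1
    obtain ⟨a', b', c', rfl⟩ := h2
    refine ⟨a + a', b + b', c + c', ?_⟩
    rw [pow_add, pow_add, pow_add,
      ((pr.pow_pow c a').mul_right (qr.pow_pow c b')).mul_mul_mul_comm,
      (pq.pow_pow b a').mul_mul_mul_comm]

omit [Finite G] in
theorem t_not (h : H1 E A α t) : t ∉ A := fun k =>
  h.t1 (h.cov.eq_one k (P2.of_sq h.tt) (h.cov.cen h.tA))

theorem nrm (h : H1 E A α t) {g : G} (c : g * t = t * g) : g ∈ 𝐍(A) := h.toSt.CN h.tt h.t1 h.tA c

theorem nW (h : H1 E A α t) {z v w : G} (zA : z ∈ A) (vA : v ∈ A) (zz : z * z = 1) (vv : v * v = 1)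
    (vz : v * z = z * v)
    (hT : IsPGroup 2 (closure ({t, z, v, w} : Set G))) (wt : t * w = w * t) (ww : w * w = 1)
    (wz : w * z = z * w) (wv : w * v = v * w)
    (h2 : w = 1 ∨ α w ∉ J7 ∧ (α z * α w).support.card ≠ (α w).support.card ∧
      (α v * α w).support.card ≠ (α w).support.card ∧
      (α z * α v * α w).support.card ≠ (α w).support.card) :
    (∀ x ∈ closure ({t, z, v, w} : Set G), x ∈ A → x = 1 ∨ x = z ∨ x = v ∨ x = z * v) ∧
    ∀ g, g * t = t * g → g ∈ 𝐍(closure ({t, z, v, w} : Set G)) →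
      g * w = w * g ∧ g ∈ 𝐍(closure ({z, v} : Set G)) := by
  have c := h.cov
  have mz : z ∈ closure ({t, z, v, w} : Set G) := subset_closure (by simp)
  have mv : v ∈ closure ({t, z, v, w} : Set G) := subset_closure (by simp)
  have mw : w ∈ closure ({t, z, v, w} : Set G) := subset_closure (by simp)
  have zN := le_normalizer zA
  have vN := le_normalizer vA
  have wN := nrm h wt.symm
  have pre : closure ({t, z, v, w} : Set G) ≤ c.pre (closure {α z, α v, α w}) := (closure_le _).2 (by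
    rintro _ (rfl | rfl | rfl | rfl)
    · exact c.mem_pre.2 ⟨nrm h rfl, c.cen h.tA ▸ one_mem _⟩
    · exact c.mem_pre.2 ⟨zN, subset_closure (by simp)⟩
    · exact c.mem_pre.2 ⟨vN, subset_closure (by simp)⟩
    · exact c.mem_pre.2 ⟨wN, subset_closure (by simp)⟩)
  have m8 := fun x (hx : x ∈ closure ({t, z, v, w} : Set G)) =>
    mem8 (c.sq zN zz) (c.sq vN vv) (c.sq wN ww) (c.comm vN zN vz) (c.comm wN zN wz)
      (c.comm wN vN wv) (c.mem_pre.1 (pre hx)).2
  have ev : ∀ {a b : S7}, a = 1 ∨ a = α z → b = 1 ∨ b = α v → a * b ∈ J7 := fun ha hb =>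
    mul_mem (ha.elim (· ▸ one_mem _) (· ▸ c.mem z zA)) (hb.elim (· ▸ one_mem _) (· ▸ c.mem v vA))
  have h1 : ∀ x ∈ closure ({t, z, v, w} : Set G), α x ∈ J7 →
      α x = 1 ∨ α x = α z ∨ α x = α v ∨ α x = α z * α v := fun x hx hJ => by
    obtain ⟨a, b, d, ha, hb, hd, e⟩ := m8 x hx
    rw [e] at hJ ⊢
    obtain rfl : d = 1 := hd.elim id fun k => h2.elim (fun l => by rw [k, l, c.one]) fun l =>
      absurd (k ▸ (mul_mem_cancel_left (ev ha hb)).1 hJ) l.1
    rcases ha with rfl | rfl <;> rcases hb with rfl | rfl <;> simp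
  have A1 : ∀ x ∈ closure ({t, z, v, w} : Set G), x ∈ A → x = 1 ∨ x = z ∨ x = v ∨ x = z * v :=
    fun x hx xA => by
      have x2 := P2.of_mem hT hx
      rcases h1 _ hx (c.mem x xA) with e | e | e | e
      · exact .inl (c.eq_one xA x2 e)
      · exact .inr (.inl (c.uniq xA zA x2 (P2.of_mem hT mz) e))
      · exact .inr (.inr (.inl (c.uniq xA vA x2 (P2.of_mem hT mv) e)))
      · exact .inr (.inr (.inr (c.uniq xA (mul_mem zA vA) x2 (P2.of_mem hT (mul_mem mz mv))
          (e.trans (c.mul' zA vA).symm))))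
  refine ⟨A1, fun g gt hg => ⟨?_, mem_normalizer_of_cj_le ?_⟩⟩
  · rcases h2 with rfl | h2
    · simp
    have m := conj_mem_of_mem_normalizer hg mw
    have ce : ∀ y : G, t * y = y * t → z * y = y * z → v * y = y * v → w * y = y * w →
        g * w * g⁻¹ * y = y * (g * w * g⁻¹) := fun y a1 a2 a3 a4 => by
      have : closure ({t, z, v, w} : Set G) ≤ centralizer {y} := (closure_le _).2 (by
        rintro _ (rfl | rfl | rfl | rfl) <;> exact mem_centralizer_singleton_iff.2 (by assumption))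
      exact mem_centralizer_singleton_iff.1 (this m)
    have e : α (g * w * g⁻¹) = α w := by
      obtain ⟨a, b, d, ha, hb, hd, e⟩ := m8 _ m
      have e0 := c.conj (nrm h gt) wN
      have e1 : (a * b * d).support.card = (α w).support.card := by
        rw [← e, e0, Equiv.Perm.card_support_conj]
      obtain rfl : d = α w := hd.resolve_left fun k => h2.1 (by
        have := ev ha hb
        rw [k, mul_one, e0] at e
        rw [← e] at this
        have q := (inferInstance : J7.Normal).conj_mem' _ this (α g)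
        rwa [show (α g)⁻¹ * (α g * α w * (α g)⁻¹) * α g = α w by group] at q)
      rcases ha with rfl | rfl <;> rcases hb with rfl | rfl
      · simpa using e
      · exact absurd (by simpa using e1) h2.2.2.1
      · exact absurd (by simpa using e1) h2.2.1
      · exact absurd e1 h2.2.2.2
    exact mul_inv_eq_iff_eq_mul.1 ((h.over2 (ce t rfl (h.tA z zA) (h.tA v vA) wt.symm)
      ((P2.of_sq ww).conj g) wt.symm (P2.of_sq ww) (ce w wt wz.symm wv.symm rfl) e.symm).resolve_right
        (h.not_cj gt wt.symm ww))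
  · have nz : z ∈ closure ({z, v} : Set G) := subset_closure (by simp)
    have nv : v ∈ closure ({z, v} : Set G) := subset_closure (by simp)
    have l : closure ({z, v} : Set G) ≤ closure ({t, z, v, w} : Set G) ⊓ A := (closure_le _).2 (by
      rintro _ (rfl | rfl)
      exacts [⟨mz, zA⟩, ⟨mv, vA⟩])
    intro x hx
    obtain ⟨y, hy, rfl⟩ := mem_cj'.1 hx
    rcases A1 _ (conj_mem_of_mem_normalizer hg (l hy).1)
      (conj_mem_of_mem_normalizer (nrm h gt) (l hy).2) with e | e | e | e <;> rw [e]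
    exacts [one_mem _, nz, nv, mul_mem nz nv]

theorem typ (h : H1 E A α t) {u w : G} (ut : u * t = t * u) (au : α u = pu) (wt : w * t = t * w)
    (aw : α w = pz * pu) (g : G) : closure ({t, u} : Set G) ^ᶜ g ≠ closure ({t, w} : Set G) := by
  intro e
  have c := h.cov
  obtain ⟨a, aA, ea, aa⟩ := c.lifti (j := pz) (memJ.2 (by decide +kernel)) (by decide +kernel)
  obtain ⟨b, bA, eb, bb⟩ := c.lifti (j := Equiv.swap 0 1 * Equiv.swap 3 6)
    (memJ.2 (by decide +kernel)) (by decide +kernel)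
  obtain ⟨d, dA, ed, dd⟩ := c.lifti (j := pv1) (memJ.2 (by decide +kernel)) (by decide +kernel)
  have ab := lift_ord c bA aA bb aa (n := 3) (by rw [ea, eb]; decide +kernel)
  have bd := lift_ord c bA dA bb dd (n := 5) (by rw [ed, eb]; decide +kernel)
  have ad := c.comm_lift (le_normalizer aA) dA (P2.of_sq dd) (by rw [ea, ed]; decide +kernel)
  have ne : d ≠ a := fun k => absurd (ed.symm.trans (k ▸ ea)) (by decide +kernel)
  have key : ∀ x ∈ A, x * x = 1 → pu * α x = α x * pu →
      g * x * g⁻¹ * t = t * (g * x * g⁻¹) ∧ g * x * g⁻¹ * w = w * (g * x * g⁻¹) := fun x xA xx k => by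
    have l : closure ({t, u} : Set G) ≤ centralizer {x} := (closure_le _).2 (by
      rintro _ (rfl | rfl)
      · exact mem_centralizer_singleton_iff.2 (h.tA x xA).symm
      · exact mem_centralizer_singleton_iff.2
          (c.comm_lift (nrm h ut) xA (P2.of_sq xx) (au ▸ k)))
    have l2 := cj_mono g l
    rw [e, cj_centralizer_singleton] at l2
    exact ⟨(mem_centralizer_singleton_iff.1 (l2 (subset_closure (by simp)))).symm,
      (mem_centralizer_singleton_iff.1 (l2 (subset_closure (by simp)))).symm⟩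
  obtain ⟨a1, -⟩ := key a aA aa (by rw [ea]; decide +kernel)
  obtain ⟨b1, b2⟩ := key b bA bb (by rw [eb]; decide +kernel)
  obtain ⟨d1, d2⟩ := key d dA dd (by rw [ed]; decide +kernel)
  have ab' : (g * b * g⁻¹ * (g * a * g⁻¹)) ^ 3 = 1 := by rw [conj_mul, conj_pow, ab]; simp
  have bd' : (g * b * g⁻¹ * (g * d * g⁻¹)) ^ 5 = 1 := by rw [conj_mul, conj_pow, bd]; simp
  have ad' : g * d * g⁻¹ * (g * a * g⁻¹) = g * a * g⁻¹ * (g * d * g⁻¹) := by
    rw [conj_mul, conj_mul, ad]
  have ne' : g * d * g⁻¹ ≠ g * a * g⁻¹ := fun k => ne (by simpa using k)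
  have aa' := cjsq aa g
  have bb' := cjsq bb g
  have dd' := cjsq dd g
  generalize g * a * g⁻¹ = a' at *
  generalize g * b * g⁻¹ = b' at *
  generalize g * d * g⁻¹ = d' at *
  have na := nrm h a1
  have nb := nrm h b1
  have nd := nrm h d1
  have e1 : α b' * α d' = 1 := by
    rw [← c.mul _ nb _ nd]
    refine five ?_ (by rw [← c.pow (mul_mem nb nd), bd', c.one])
    rw [← aw]
    exact c.comm (mul_mem nb nd) (nrm h wt) (Commute.mul_left b2 d2)
  have e2 : α b' = α d' := mul_right_cancel (e1.trans (c.sq nd dd').symm)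
  have e3 : (α d' * α a') ^ 3 = 1 := by
    rw [← e2, ← c.mul _ nb _ na, ← c.pow (mul_mem nb na), ab', c.one]
  have e4 : α d' * α a' * (α d' * α a') = 1 := by
    rw [← c.mul _ nd _ na]
    refine c.sq (mul_mem nd na) ?_
    rw [mul_assoc, ← mul_assoc a', ← ad', mul_assoc, aa', mul_one, dd']
  rw [pow_three, e4, mul_one] at e3
  have e5 : α a' = α d' := mul_left_cancel (e3.trans (c.sq nd dd').symm)
  obtain rfl := (h.over2 d1 (P2.of_sq dd') a1 (P2.of_sq aa') ad' e5).resolve_left ne'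
  have cm : Commute (b' * a') t := Commute.mul_left b1 a1
  have e6 : (b' * a' * t) ^ 15 = 1 := by
    rw [show 15 = 5 * 3 from rfl, pow_mul, mul_assoc, bd', one_pow]
  rw [cm.mul_pow, show 15 = 3 * 5 from rfl, pow_mul, ab', one_pow, one_mul,
    pow_odd_of_sq h.tt (by decide)] at e6
  exact h.t1 e6

theorem frame (h : H1 E A α t) {v1 v2 u w : G} (v1A : v1 ∈ A) (v2A : v2 ∈ A) (v11 : v1 * v1 = 1)
    (v22 : v2 * v2 = 1) (a1 : α v1 = pv1) (a2 : α v2 = pv2) (uu : u * u = 1) (ut : u * t = t * u)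
    (hu : (u = 1 ∧ w = 1) ∨ (α u = pu ∧ w = v1 * v2 * v1 * v2 * u))
    (syl : IsSylowIn 2 (closure ({t, v1, v2, u} : Set G)) (centralizer {t})) :
    ∃ F : Fr G, F.E = E ∧ F.t = t ∧ Cf F A α := by
  have c := h.cov
  generalize hz : v1 * v2 * v1 * v2 = z at hu
  have zA : z ∈ A := hz ▸ mul_mem (mul_mem (mul_mem v1A v2A) v1A) v2A
  have az : α z = pz := by
    rw [← hz, c.mul' (mul_mem (mul_mem v1A v2A) v1A) v2A, c.mul' (mul_mem v1A v2A) v1A,
      c.mul' v1A v2A, a1, a2]
    decide +kernel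
  have zz : z * z = 1 := by
    rw [← hz, ← lift_ord c v1A v2A v11 v22 (n := 4) (by rw [a1, a2]; decide +kernel)]
    simp only [pow_succ, pow_zero, one_mul, mul_assoc]
  have i1 := inv_eq_of_mul_eq_one_right v11
  have i2 := inv_eq_of_mul_eq_one_right v22
  have hz' : v2 * v1 * v2 * v1 = z := by
    rw [← inv_eq_of_mul_eq_one_right zz, ← hz]
    simp only [mul_inv_rev, i1, i2, mul_assoc]
  have uN := nrm h ut
  have au : α u = 1 ∨ α u = pu := hu.imp (fun k : u = 1 ∧ w = 1 => k.1 ▸ c.one) And.left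
  have cu : ∀ x ∈ A, x * x = 1 → pu * α x = α x * pu → u * x = x * u := fun x xA xx k =>
    c.comm_lift uN xA (P2.of_sq xx) (by rcases au with e | e <;> simp [e, k])
  have uz := cu z zA zz (by rw [az]; decide +kernel)
  have wt : w * t = t * w := by
    rcases hu with ⟨-, rfl⟩ | ⟨-, rfl⟩
    · simp
    · exact Commute.mul_left (h.tA z zA) ut
  have wN := nrm h wt
  have aw : ∀ k : α u = pu ∧ w = z * u, α w = pz * pu := fun k => by
    rw [k.2, c.mul _ (le_normalizer zA) _ uN, az, k.1]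
  have aw' : α w = 1 ∨ α w = pz * pu := hu.imp (fun k : u = 1 ∧ w = 1 => k.2 ▸ c.one) aw
  have cw : ∀ x ∈ A, x * x = 1 → pz * pu * α x = α x * (pz * pu) → w * x = x * w := fun x xA xx k =>
    c.comm_lift wN xA (P2.of_sq xx) (by
      rcases aw' with e | e <;> rw [e]
      exacts [by simp, k])
  have ww : w * w = 1 := by
    rcases hu with ⟨-, rfl⟩ | ⟨-, rfl⟩
    · simp
    · rw [mul_assoc, ← mul_assoc u, uz, mul_assoc, uu, mul_one, zz]
  have mt : t ∈ closure ({t, v1, v2, u} : Set G) := subset_closure (by simp)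
  have m1 : v1 ∈ closure ({t, v1, v2, u} : Set G) := subset_closure (by simp)
  have m2 : v2 ∈ closure ({t, v1, v2, u} : Set G) := subset_closure (by simp)
  have mu : u ∈ closure ({t, v1, v2, u} : Set G) := subset_closure (by simp)
  have mz : z ∈ closure ({t, v1, v2, u} : Set G) := hz ▸ mul_mem (mul_mem (mul_mem m1 m2) m1) m2
  have mw : w ∈ closure ({t, v1, v2, u} : Set G) := by
    rcases hu with ⟨-, rfl⟩ | ⟨-, rfl⟩
    exacts [one_mem _, mul_mem mz mu]
  obtain ⟨b1, b1A, e1, b11⟩ := c.lifti (j := Equiv.swap 0 2 * Equiv.swap 4 5)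
    (memJ.2 (by decide +kernel)) (by decide +kernel)
  obtain ⟨b2, b2A, e2, b22⟩ := c.lifti (j := Equiv.swap 0 4 * Equiv.swap 1 5)
    (memJ.2 (by decide +kernel)) (by decide +kernel)
  have y1A := mul_mem v2A b1A
  have y2A := mul_mem v1A b2A
  have ay1 : α (v2 * b1) = py1 := by rw [c.mul' v2A b1A, a2, e1]; decide +kernel
  have ay2 : α (v1 * b2) = py2 := by rw [c.mul' v1A b2A, a1, e2]; rfl
  have u1 := cu v1 v1A v11 (by rw [a1]; decide +kernel)
  have u2 := cu v2 v2A v22 (by rw [a2]; decide +kernel)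
  have w1 := cw v1 v1A v11 (by rw [a1]; decide +kernel)
  have w2 := cw v2 v2A v22 (by rw [a2]; decide +kernel)
  have p1 := P2.of_sq v11
  have p2 := P2.of_sq v22
  have pz' := P2.of_sq zz
  have j1 : pu ∉ J7 := by rw [memJ]; decide +kernel
  have j2 : pz * pu ∉ J7 := by rw [memJ]; decide +kernel
  obtain ⟨A1, N1⟩ := nW h zA v1A (w := u) zz v11
    (c.comm_lift (le_normalizer v1A) zA pz' (by rw [az, a1]; decide +kernel))
    (syl.isP.to_le ((closure_le _).2 (by
      rintro _ (rfl | rfl | rfl | rfl) <;> assumption))) ut.symm uu uz u1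
    (hu.imp And.left fun k => by
      rw [k.1, az, a1]
      exact ⟨j1, by decide +kernel, by decide +kernel, by decide +kernel⟩)
  obtain ⟨A2, N2⟩ := nW h zA v2A (w := w) zz v22
    (c.comm_lift (le_normalizer v2A) zA pz' (by rw [az, a2]; decide +kernel))
    (syl.isP.to_le ((closure_le _).2 (by
      rintro _ (rfl | rfl | rfl | rfl) <;> assumption))) wt.symm ww
    (cw z zA zz (by rw [az]; decide +kernel)) w2
    (hu.imp And.right fun k => by
      rw [aw k, az, a2]
      exact ⟨j2, by decide +kernel, by decide +kernel, by decide +kernel⟩)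
  have nJ : ∀ x, α x ∉ J7 → x ∉ closure ({t, v1, v2} : Set G) := fun x hx k => by
    have : closure ({t, v1, v2} : Set G) ≤ c.pre J7 := (closure_le _).2 (by
      rintro _ (rfl | rfl | rfl)
      · exact c.mem_pre.2 ⟨nrm h rfl, c.cen h.tA ▸ one_mem _⟩
      · exact c.mem_pre.2 ⟨le_normalizer v1A, c.mem _ v1A⟩
      · exact c.mem_pre.2 ⟨le_normalizer v2A, c.mem _ v2A⟩)
    exact hx (c.mem_pre.1 (this k)).2
  refine ⟨{
    E := E, t := t, z := z, v1 := v1, v2 := v2, u1 := u, u2 := w, y1 := v2 * b1, y2 := v1 * b2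
    En := h.En, Es := h.Es, top := h.top, v1E := h.AE v1A, v2E := h.AE v2A, y1E := h.AE y1A
    y2E := h.AE y2A, tt := h.tt, zz := zz, v11 := v11, v22 := v22, u11 := uu, u22 := ww
    hz := hz, hz' := hz', z1 := fun e => absurd (az.symm.trans (e ▸ c.one)) (by decide +kernel)
    tv1 := (h.tA _ v1A).symm, tv2 := (h.tA _ v2A).symm, tu1 := ut.symm, tu2 := wt.symm
    u1v1 := u1, u1v2 := u2, u2v1 := w1, u2v2 := w2
    tD := ?_, hu := ?_, syl := ?_
    y13 := lift_ord c v2A b1A v22 b11 (by rw [a2, e1]; decide +kernel)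
    y23 := lift_ord c v1A b2A v11 b22 (by rw [a1, e2]; decide +kernel)
    y1t := h.tA _ y1A, y2t := h.tA _ y2A
    y1u := (Commute.mul_right u2 (cu b1 b1A b11 (by rw [e1]; decide +kernel))).symm
    y2u := (Commute.mul_right w1 (cw b2 b2A b22 (by rw [e2]; decide +kernel))).symm
    y1z := c.conj_eq (le_normalizer y1A) zA v1A pz' p1 (by rw [ay1, az, a1]; decide +kernel)
    y2z := c.conj_eq (le_normalizer y2A) zA v2A pz' p2 (by rw [ay2, az, a2]; decide +kernel)
    y1v := c.conj_eq (le_normalizer y1A) v1A (mul_mem zA v1A) p1 (P2.of_mem syl.isP (mul_mem mz m1))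
      (by rw [c.mul' zA v1A, ay1, az, a1]; decide +kernel)
    y2v := c.conj_eq (le_normalizer y2A) v2A (mul_mem zA v2A) p2 (P2.of_mem syl.isP (mul_mem mz m2))
      (by rw [c.mul' zA v2A, ay2, az, a2]; decide +kernel)
    v2y := by rw [← mul_assoc, v22, one_mul, mul_inv_rev, i2, inv_eq_of_mul_eq_one_right b11]
    v1y := by rw [← mul_assoc, v11, one_mul, mul_inv_rev, i1, inv_eq_of_mul_eq_one_right b22]
    nW1 := N1, nW2 := N2, W12 := fun g gt e => ?_
    typ := fun k _ => (hu.resolve_left fun l => k l.1).elim fun k1 k2 =>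
      typ h ut k1 wt (aw ⟨k1, k2⟩)
    zs := h.zs }, rfl, rfl,
    ⟨h, v1A, v2A, y1A, y2A, a1, a2, ay1, ay2, hu.imp And.left And.left⟩⟩
  · intro k
    have l : closure ({v1, v2, u, w} : Set G) ≤ A ⊔ zpowers u := (closure_le _).2 (by
      rintro _ (rfl | rfl | rfl | rfl)
      · exact mem_sup_left v1A
      · exact mem_sup_left v2A
      · exact mem_sup_right (mem_zpowers _)
      · rcases hu with ⟨-, rfl⟩ | ⟨-, rfl⟩
        exacts [one_mem _, mul_mem_sup zA (mem_zpowers _)])
    rcases (mem_adj uN (uu ▸ one_mem A)).1 (l k) with e | e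
    · exact t_not h e
    rcases hu with ⟨rfl, -⟩ | ⟨e', -⟩
    · exact t_not h (by simpa using e)
    · have := c.mem _ e
      rw [c.cen_mul (inv_mem uN) h.tA, c.inv uN, e'] at this
      exact j1 (by simpa using this)
  · refine hu.imp id fun k : α u = pu ∧ w = z * u => ⟨k.2, ?_, nJ _ (k.1 ▸ j1), nJ _ (aw k ▸ j2)⟩
    rw [k.2, ← mul_assoc, zz, one_mul]
  · have : closure ({t, v1, v2, u, w} : Set G) = closure ({t, v1, v2, u} : Set G) :=
      le_antisymm ((closure_le _).2 (by rintro _ (rfl | rfl | rfl | rfl | rfl) <;> assumption))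
        (closure_mono (by rintro _ (rfl | rfl | rfl | rfl) <;> simp))
    rwa [this]
  · have gN := nrm h gt
    have k : ∀ x ∈ closure ({t, z, v1, u} : Set G), x ∈ A →
        α g * α x * (α g)⁻¹ ∈ [1, pz, pv2, pz * pv2] := fun x hx xA => by
      rw [← c.conj gN (le_normalizer xA)]
      rcases A2 _ (e ▸ cj_mem g hx) (conj_mem_of_mem_normalizer gN xA) with q | q | q | q <;> rw [q]
      · simp [c.one]
      · simp [az]
      · simp [a2]
      · simp [c.mul' zA v2A, az, a2]
    have k1 := k z (subset_closure (by simp)) zA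
    have k2 := k v1 (subset_closure (by simp)) v1A
    have k3 : ∀ p ∈ [1, pz, pv2, pz * pv2], ∀ q ∈ [1, pz, pv2, pz * pv2],
        p.support = q.support → p = q := by
      have s0 : (1 : S7).support = ∅ := Equiv.Perm.support_one
      have s1 : pz.support = {0, 1, 2, 3} := by decide +kernel
      have s2 : pv2.support = {0, 1, 4, 5} := by decide +kernel
      have s3 : (pz * pv2).support = {2, 3, 4, 5} := by decide +kernel
      simp only [List.mem_cons, List.not_mem_nil, or_false]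
      rintro _ (rfl | rfl | rfl | rfl) _ (rfl | rfl | rfl | rfl) <;>
        first | exact fun _ => rfl | (simp only [s0, s1, s2, s3]; exact fun k => absurd k (by decide))
    have k4 := k3 _ k1 _ k2 (by
      rw [Equiv.Perm.support_conj, Equiv.Perm.support_conj, az, a1,
        show pz.support = pv1.support by decide +kernel])
    rw [mul_left_inj, mul_right_inj, az, a1] at k4
    exact absurd k4 (by decide +kernel)

end FB

theorem H1.frame (h : H1 E A α t) (s : ∃ v1 ∈ A, ∃ v2 ∈ A, ∃ u, v1 * v1 = 1 ∧ v2 * v2 = 1 ∧ α v1 = pv1 ∧ α v2 = pv2 ∧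
      (u = 1 ∨ (u * u = 1 ∧ u * t = t * u ∧ α u = pu)) ∧
      IsSylowIn 2 (closure ({t, v1, v2, u} : Set G)) (centralizer {t})) :
    ∃ F : Fr G, F.E = E ∧ F.t = t ∧ Cf F A α := by
  obtain ⟨v1, v1A, v2, v2A, u, v11, v22, a1, a2, hu, syl⟩ := s
  rcases hu with rfl | ⟨uu, ut, au⟩
  · exact FB.frame h v1A v2A v11 v22 a1 a2 (one_mul 1) (by simp) (.inl ⟨rfl, rfl⟩) syl
  · exact FB.frame h v1A v2A v11 v22 a1 a2 uu ut (.inr ⟨au, rfl⟩) syl

end H25.A7
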