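import Mathlib
import Cfsg.Agent.Lib.A7S.Defs

/-! Permutation facts for the elements of order 3. -/

set_option autoImplicit false

namespace H25.A7.FC

theorem vec (p : S7) : (p : Fin 7 → Fin 7) = ![p 0, p 1, p 2, p 3, p 4, p 5, p 6] := by
  funext i; fin_cases i <;> rfl

theorem fun1 : ∀ a b c d : Fin 7, ∀ f : Fin 7 → Fin 7,
    f = ![a, pz a, (pv1 * pu) a, pz ((pv1 * pu) a), b, c, d] → Function.Injective f →
    (∀ i, f (pz i) = pz (f i)) → (∀ i, f ((pv1 * pu) i) = (pv1 * pu) (f i)) → ∀ i, f (f i) = i := by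
  simp only [forall_eq]
  decide +kernel

theorem fun2 : ∀ a b c d : Fin 7, ∀ f : Fin 7 → Fin 7,
    f = ![a, pz a, pv1 a, pz (pv1 a), b, c, d] → Function.Injective f →
    (∀ i, f (pz i) = pz (f i)) → (∀ i, f (pv1 i) = pv1 (f i)) →
    (∀ i, f i = i) ∨ (∀ i, f i = px i) ∨ (∀ i, f i = px (px i)) ∨
      ((∀ i, f (f (f (f (f (f i))))) = i) ∧ ¬ ∀ i, f (f (f i)) = i) := by
  simp only [forall_eq]
  decide +kernel

theorem perm1 (p : S7) (h1 : p * pz = pz * p) (h2 : p * (pv1 * pu) = pv1 * pu * p) : p * p = 1 := by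
  have e1 : ∀ i, p (pz i) = pz (p i) := fun i => DFunLike.congr_fun h1 i
  have e2 : ∀ i, p ((pv1 * pu) i) = (pv1 * pu) (p i) := fun i => DFunLike.congr_fun h2 i
  refine Equiv.ext (fun1 (p 0) (p 4) (p 5) (p 6) p ?_ p.injective e1 e2)
  rw [← e2, ← e1, ← e1]
  exact vec p

theorem perm2 (p : S7) (h1 : p * pz = pz * p) (h2 : p * pv1 = pv1 * p) :
    p = 1 ∨ p = px ∨ p = px * px ∨ (p ^ 3 * p ^ 3 = 1 ∧ p ^ 3 ≠ 1) := by
  have e1 : ∀ i, p (pz i) = pz (p i) := fun i => DFunLike.congr_fun h1 i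
  have e2 : ∀ i, p (pv1 i) = pv1 (p i) := fun i => DFunLike.congr_fun h2 i
  have := fun2 (p 0) (p 4) (p 5) (p 6) p (by rw [← e2, ← e1, ← e1]; exact vec p) p.injective e1 e2
  refine this.imp Equiv.ext (Or.imp Equiv.ext (Or.imp Equiv.ext fun h => ⟨Equiv.ext h.1, fun e => h.2 ?_⟩))
  exact fun i => DFunLike.congr_fun e i

theorem pxJ : px ∈ J7 := by
  rw [Equiv.Perm.mem_alternatingGroup]; decide +kernel

theorem px3 : px ^ 3 ^ 1 = 1 := by decide +kernel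
theorem px_z : px * pz = pz * px := by decide +kernel
theorem px_v1 : px * pv1 = pv1 * px := by decide +kernel
theorem px_u : px * pu ≠ pu * px := by decide +kernel
theorem px_y : py1 * px * py1⁻¹ * px⁻¹ = 1 := by decide +kernel
theorem pu_x : pu * px * pu⁻¹ = px⁻¹ := by decide +kernel
theorem pz_eq : pv1 * pv2 * pv1 * pv2 = pz := by decide +kernel
theorem px_ne : px ≠ 1 := by decide +kernel
theorem fin3 : ∀ i j m : Fin 3, i ≠ 0 → j ≠ 0 → px ^ (m : ℕ) = px⁻¹ →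
    px ^ ((i : ℕ) * (j : ℕ)) ≠ px ^ ((j : ℕ) * ((i : ℕ) * (m : ℕ))) := by decide +kernel

end H25.A7.FC
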