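import Mathlib
import Cfsg.Agent.Lib.A7S.Cv
import Cfsg.Agent.Lib.A7S.TrB
import Cfsg.Agent.Lib.A7S.FC1

/-! The elements of order 3. -/

set_option autoImplicit false

namespace H25.A7

open Subgroup H69 H36.SW

variable {G : Type*} [Group G] [Finite G]
variable {F : Fr G} {A : Subgroup G} {α : G → S7}

namespace FC

theorem HN (c : Cf F A α) {g : G} (h : g * F.t = F.t * g) : g ∈ 𝐍(A) :=
  c.toSt.CN c.tt c.t1 c.tA h

omit [Finite G] in
theorem zA (c : Cf F A α) : F.z ∈ A :=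
  F.hz ▸ mul_mem (mul_mem (mul_mem c.v1A c.v2A) c.v1A) c.v2A

omit [Finite G] in
theorem az (c : Cf F A α) : α F.z = pz := by
  rw [← F.hz, c.cov.mul' (mul_mem (mul_mem c.v1A c.v2A) c.v1A) c.v2A,
    c.cov.mul' (mul_mem c.v1A c.v2A) c.v1A, c.cov.mul' c.v1A c.v2A, c.av1, c.av2, pz_eq]

theorem uN (c : Cf F A α) : F.u1 ∈ 𝐍(A) := HN c F.tu1.symm

omit [Finite G] in
theorem odd_im (c : Cf F A α) {p : G} (hp : p ∈ 𝐍(A)) (ho : Odd (orderOf p)) {n : ℕ}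
    (h : α p ^ n * α p ^ n = 1) : α p ^ n = 1 := by
  refine (P2.of_sq h).eq_one (Odd.of_dvd_nat ho (orderOf_dvd_of_pow_eq_one ?_))
  rw [← pow_mul, mul_comm, pow_mul, ← c.cov.pow hp, pow_orderOf_eq_one, c.cov.one, one_pow]

/-- a lift of `px` of odd order -/
theorem exx (c : Cf F A α) : ∃ x ∈ A, α x = px ∧ Odd (orderOf x) ∧ Commute x F.t ∧ Commute x F.z ∧
    Commute x F.v1 := by
  obtain ⟨x, hx, e, K, hK⟩ := c.cov.liftp Nat.prime_three pxJ px3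
  refine ⟨x, hx, e, Odd.of_dvd_nat (Odd.pow (by decide)) (orderOf_dvd_of_pow_eq_one hK), c.tA x hx,
    c.cov.comm_lift (le_normalizer hx) (zA c) (P2.of_sq F.zz) (by rw [e, az c, px_z]),
    c.cov.comm_lift (le_normalizer hx) c.v1A (P2.of_sq F.v11) (by rw [e, c.av1, px_v1])⟩

omit [Finite G] in
theorem cjc {a b : G} (h : Commute a b) (g : G) : Commute (g * a * g⁻¹) (g * b * g⁻¹) := by
  have : g * a * g⁻¹ * (g * b * g⁻¹) = g * (a * b) * g⁻¹ := by group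
  rw [Commute, SemiconjBy, this, h.eq]; group

omit [Finite G] in
theorem cancel_l {a b c : G} (h : Commute a (b * c)) (h' : Commute a b) : Commute a c := by
  have := h'.inv_right.mul_right h
  rwa [inv_mul_cancel_left] at this

omit [Finite G] in
theorem cancel_r {a b c : G} (h : Commute a (b * c)) (h' : Commute a c) : Commute a b := by
  have := h.mul_right h'.inv_right
  rwa [mul_inv_cancel_right] at this

omit [Finite G] in
theorem fix_of {g a : G} (h : g * a = a * g) : g * a * g⁻¹ = a := by rw [h, mul_inv_cancel_right]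

end FC

open FC

theorem Cf.same (c : Cf F A α) {F' : Fr G} (s : F.Same F') : Cf F' A α := by
  refine ⟨by rw [s.E, s.t]; exact c.toH1, s.v1 ▸ c.v1A, s.v2 ▸ c.v2A, s.y1 ▸ c.y1A, s.y2 ▸ c.y2A,
    s.v1 ▸ c.av1, s.v2 ▸ c.av2, s.y1 ▸ c.ay1, s.y2 ▸ c.ay2, ?_⟩
  rcases s.u with ⟨h, -⟩ | ⟨h1, h, -⟩
  · rw [h]; exact c.au
  · rw [h, c.cov.cen_mul (uN c) c.tA]
    exact Or.inr (c.au.resolve_left h1)

theorem Cf.xt (c : Cf F A α) (hu : F.u1 ≠ 1) : ∀ σ ∈ 𝐍(F.W1), σ * F.t * σ⁻¹ = F.t * F.z → σ * F.z = F.z * σ →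
    σ * F.u1 = F.u1 * σ → σ ∈ 𝐍(F.V1) := by
  intro σ hσ ht hz hs
  have au := c.au.resolve_left hu
  have v1W : F.v1 ∈ F.W1 := subset_closure (by simp)
  have zV : F.z ∈ F.V1 := subset_closure (by simp)
  have vV : F.v1 ∈ F.V1 := subset_closure (by simp)
  obtain ⟨x, hx, ex, ox, xt, xz, xv⟩ := exx c
  have x1 : Commute (σ * x * σ⁻¹) F.z := by
    have := cjc xz σ
    rwa [fix_of hz] at this
  have x2 : Commute (σ * x * σ⁻¹) F.t := by
    have := cjc xt σ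
    rw [ht] at this
    exact cancel_r this x1
  have x3 := cjc xv σ
  have oz : F.Om (F.t * F.z) := ⟨σ, ht⟩
  obtain ⟨a, b, d, e, hw⟩ := F.memW1.1 (conj_mem_of_mem_normalizer hσ v1W)
  have hb : b = 1 := by
    by_contra hb
    obtain rfl : b = 0 := by omega
    simp only [Fin.val_zero, pow_zero, mul_one] at hw
    -- `σ⁻¹` maps `Z(T)` to itself
    have m : σ * F.v1 * σ⁻¹ ∈ F.ZT := by
      rw [hw]
      exact mul_mem (mul_mem (pow_mem (subset_closure (by simp)) _) (pow_mem (subset_closure (by simp)) _))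
        (pow_mem (subset_closure (by simp)) _)
    have nZ : σ ∈ 𝐍(F.ZT) := by
      refine mem_normalizer_of_cj_le ?_
      rw [cj_le_iff]
      refine (closure_le _).2 ?_
      intro y hy
      rw [SetLike.mem_coe, mem_cj, inv_inv]
      simp only [Set.mem_insert_iff, Set.mem_singleton_iff] at hy
      rcases hy with rfl | rfl | rfl | rfl
      · rw [ht]; exact mul_mem (subset_closure (by simp)) (subset_closure (by simp))
      · rw [fix_of hz]; exact subset_closure (by simp)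
      · rw [fix_of hs]; exact subset_closure (by simp)
      · rw [F.u2_eq hu, fix_of ((Commute.mul_right hz hs :))]
        exact mul_mem (subset_closure (by simp)) (subset_closure (by simp))
    have m2 := conj_mem_of_mem_normalizer' nZ m
    have e2 : σ⁻¹ * (σ * F.v1 * σ⁻¹) * σ = F.v1 := by group
    rw [e2] at m2
    have m3 := (F.cenT (F.W1T v1W)).2 m2 F.v2 (subset_closure (by simp))
    apply F.z1
    rw [← F.hz, mul_assoc (F.v1 * F.v2), ← m3]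
    calc F.v2 * F.v1 * (F.v2 * F.v1) = F.v2 * (F.v1 * F.v2) * F.v1 := by group
      _ = F.v2 * F.v2 * (F.v1 * F.v1) := by rw [← m3]; group
      _ = 1 := by rw [F.v11, F.v22, mul_one]
  subst hb
  simp only [Fin.val_one, pow_one] at hw
  have he : e = 0 := by
    by_contra he
    obtain rfl : e = 1 := by omega
    simp only [Fin.val_one, pow_one] at hw
    have e3 : σ * F.v1 * σ⁻¹ = F.t ^ (a : ℕ) * (F.z ^ (d : ℕ) * (F.v1 * F.u1)) := by
      rw [hw, ← mul_assoc (F.z ^ (d : ℕ)), ((Commute.pow_left F.zv1 (d : ℕ)) :).eq]; group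
    rw [e3] at x3
    have x4 : Commute (σ * x * σ⁻¹) (F.v1 * F.u1) :=
      cancel_l (cancel_l x3 (x2.pow_right _)) (x1.pow_right _)
    have xN := HN c x2.eq
    have h1 := c.cov.comm xN (le_normalizer (zA c)) x1.eq
    have h2 := c.cov.comm xN (mul_mem (le_normalizer c.v1A) (uN c)) x4.eq
    rw [az c] at h1
    rw [c.cov.mul _ (le_normalizer c.v1A) _ (uN c), c.av1, au] at h2
    have h3 := odd_im c xN (by rw [H9.orderOf_conj]; exact ox) (n := 1)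
      (by rw [pow_one]; exact perm1 _ h1 h2)
    rw [pow_one] at h3
    have h4 : Commute (σ * x * σ⁻¹) F.v1 := Commute.symm ((c.cov.ker _ xN).1 h3 _ c.v1A)
    have h5 := cjc (cancel_l x4 h4) σ⁻¹
    have e4 : σ⁻¹ * (σ * x * σ⁻¹) * σ⁻¹⁻¹ = x := by group
    rw [e4, fix_of (Commute.inv_left hs :)] at h5
    have h6 := c.cov.comm (le_normalizer hx) (uN c) h5.eq
    rw [ex, au] at h6
    exact px_u h6
  subst he
  simp only [Fin.val_zero, pow_zero, mul_one] at hw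
  have ha : a = 0 := by
    by_contra ha
    obtain rfl : a = 1 := by omega
    simp only [Fin.val_one, pow_one] at hw
    apply F.nV1 vV
    apply Fr.Om.of_cj σ
    rw [hw]
    have o1 : F.Om (F.t * F.v1) := by
      have := oz.cj F.y1
      rwa [show F.y1 * (F.t * F.z) * F.y1⁻¹ = F.y1 * F.t * F.y1⁻¹ * (F.y1 * F.z * F.y1⁻¹) by group,
        fix_of F.y1t, F.y1z] at this
    fin_cases d
    · simpa using o1
    · have := o1.cj F.y1
      rw [show F.y1 * (F.t * F.v1) * F.y1⁻¹ = F.y1 * F.t * F.y1⁻¹ * (F.y1 * F.v1 * F.y1⁻¹) by group,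
        fix_of F.y1t, F.y1v, F.zv1, ← mul_assoc] at this
      simpa using this
  subst ha
  simp only [Fin.val_zero, pow_zero, one_mul] at hw
  refine mem_normalizer_of_cj_le ?_
  rw [cj_le_iff]
  refine (closure_le _).2 ?_
  intro y hy
  rw [SetLike.mem_coe, mem_cj, inv_inv]
  simp only [Set.mem_insert_iff, Set.mem_singleton_iff] at hy
  rcases hy with rfl | rfl
  · rw [fix_of hz]; exact zV
  · rw [hw]; exact mul_mem vV (pow_mem zV _)

theorem Cf.z3 (c : Cf F A α) (hu : F.u1 ≠ 1) {za zc g d v η : G} (h : F.Tr F.u1 F.u1 za zc g d v η) :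
    ∃ ζ ∈ A ⊓ 𝐂(A), F.u1 * ζ * F.u1 = ζ⁻¹ ∧ ∀ k, k * F.t * k⁻¹ = F.t * F.z → k⁻¹ * ζ * k ∉ 𝐂(A) := by
  have au := c.au.resolve_left hu
  have ui : F.u1⁻¹ = F.u1 := inv_eq_of_mul_eq_one_left F.u11
  obtain ⟨x, hx, ex, ox, xt, xz, xv⟩ := exx c
  obtain ⟨ζ, hζ⟩ : ∃ ζ, ζ = F.y1 * x * F.y1⁻¹ * x⁻¹ := ⟨_, rfl⟩
  have ζA : ζ ∈ A := hζ ▸ mul_mem (mul_mem (mul_mem c.y1A hx) (inv_mem c.y1A)) (inv_mem hx)
  have ζC : ζ ∈ 𝐂(A) := by
    refine (c.cov.ker _ (le_normalizer ζA)).1 ?_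
    rw [hζ, c.cov.mul' (mul_mem (mul_mem c.y1A hx) (inv_mem c.y1A)) (inv_mem hx),
      c.cov.conj (le_normalizer c.y1A) (le_normalizer hx), c.cov.inv (le_normalizer hx), ex, c.ay1, px_y]
  have yx : F.y1 * x * F.y1⁻¹ = ζ * x := by rw [hζ]; group
  have aux : α (F.u1 * x * F.u1⁻¹) = px⁻¹ := by
    rw [c.cov.conj (uN c) (le_normalizer hx), au, ex, pu_x]
  refine ⟨ζ, ⟨ζA, ζC⟩, ?_, fun k hk hC => ?_⟩
  · have uxA : F.u1 * x * F.u1⁻¹ ∈ A := conj_mem_of_mem_normalizer (uN c) hx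
    obtain ⟨c0, hc0, e0⟩ : ∃ c0 ∈ 𝐂(A), F.u1 * x * F.u1⁻¹ = x⁻¹ * c0 :=
      ⟨_, c.cov.inv_mul_mem (le_normalizer (inv_mem hx)) (le_normalizer uxA)
        (by rw [aux, c.cov.inv (le_normalizer hx), ex]), by group⟩
    have yu : F.u1 * F.y1 * F.u1⁻¹ = F.y1 := fix_of F.y1u.symm
    calc F.u1 * ζ * F.u1 = F.u1 * ζ * F.u1⁻¹ := by rw [ui]
      _ = (F.u1 * F.y1 * F.u1⁻¹) * (F.u1 * x * F.u1⁻¹) * (F.u1 * F.y1 * F.u1⁻¹)⁻¹ *
          (F.u1 * x * F.u1⁻¹)⁻¹ := by rw [hζ]; group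
      _ = F.y1 * x⁻¹ * (c0 * F.y1⁻¹) * c0⁻¹ * x := by rw [yu, e0]; group
      _ = (F.y1 * x * F.y1⁻¹)⁻¹ * x := by rw [← hc0 _ (inv_mem c.y1A)]; group
      _ = ζ⁻¹ := by rw [yx, ← ζC _ hx]; group
  obtain ⟨O, hO, -⟩ := c.toH1.exO
  have nO : ∀ p, p * F.t = F.t * p → O ^ᶜ p = O := by
    intro p hp
    refine cj_eq_of_cj_le fun o' ho' => ?_
    obtain ⟨o, ho, rfl⟩ := mem_cj'.1 ho'
    obtain ⟨h1, h2, h3⟩ := (hO o).1 ho
    refine (hO _).2 ⟨conj_mem_of_mem_normalizer (normalizer_le_normalizer_centralizer A (HN c hp)) h1,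
      ?_, by rw [H9.orderOf_conj]; exact h3⟩
    have := cjc (show Commute o F.t from h2) p
    rwa [fix_of hp] at this
  have cjO : ∀ p q, p * F.t * p⁻¹ = q * F.t * q⁻¹ → O ^ᶜ p = O ^ᶜ q := by
    intro p q e
    have : O ^ᶜ (q⁻¹ * p) = O := nO _ (by
      calc q⁻¹ * p * F.t = q⁻¹ * (p * F.t * p⁻¹) * p := by group
        _ = _ := by rw [e]; group)
    conv_rhs => rw [← this, cj_cj, mul_inv_cancel_left]
  -- the odd elements which centralise `t, z, v1`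
  have dec : ∀ p, Odd (orderOf p) → Commute p F.t → Commute p F.z → Commute p F.v1 →
      ∃ i : Fin 3, ∃ o ∈ O, p = x ^ (i : ℕ) * o := by
    intro p po pt pz' pv
    have pN := HN c pt.eq
    have h1 := c.cov.comm pN (le_normalizer (zA c)) pz'.eq
    have h2 := c.cov.comm pN (le_normalizer c.v1A) pv.eq
    rw [az c] at h1
    rw [c.av1] at h2
    obtain ⟨i, hi⟩ : ∃ i : Fin 3, α p = px ^ (i : ℕ) := by
      rcases perm2 _ h1 h2 with e | e | e | ⟨e, e'⟩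
      · exact ⟨0, e⟩
      · exact ⟨1, by rw [e]; simp⟩
      · exact ⟨2, by rw [e, ← pow_two]; rfl⟩
      · exact absurd (odd_im c pN po e) e'
    have m := c.cov.inv_mul_mem (le_normalizer (pow_mem hx i)) pN
      (by rw [c.cov.pow (le_normalizer hx), ex, hi])
    refine ⟨i, _, (hO _).2 ⟨m, ((xt.pow_left _).inv_left.mul_left pt :), ?_⟩, by group⟩
    have cm : Commute (x ^ (i : ℕ))⁻¹ p :=
      cancel_l (show Commute (x ^ (i : ℕ))⁻¹ ((x ^ (i : ℕ))⁻¹ * p) from m _ (inv_mem (pow_mem hx i)))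
        (Commute.refl _)
    refine Odd.of_dvd_nat (Odd.mul (a := orderOf (x ^ (i : ℕ))⁻¹) ?_ po) cm.orderOf_mul_dvd_mul_orderOf
    rw [orderOf_inv]
    exact Odd.of_dvd_nat ox (orderOf_pow_dvd _)
  have zX : F.z ∈ F.X1 := subset_closure (by simp)
  have vX : F.v1 ∈ F.X1 := subset_closure (by simp)
  have decr : ∀ r ∈ 𝐂(F.X1), ∀ w, r * F.t * r⁻¹ = F.t * w → (w = F.z ∨ w = F.v1) →
      ∀ p, Odd (orderOf p) → Commute p F.t → Commute p F.z → Commute p F.v1 →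
      ∃ i : Fin 3, ∃ o ∈ O, r * p * r⁻¹ = x ^ (i : ℕ) * o := by
    intro r hr w e hw p po pt pz' pv
    have h1 := cjc pz' r
    have h2 := cjc pv r
    have h3 := cjc pt r
    rw [conj_eq_of_mem_centralizer hr zX] at h1
    rw [conj_eq_of_mem_centralizer hr vX] at h2
    rw [e] at h3
    refine dec _ (by rw [H9.orderOf_conj]; exact po) (cancel_r h3 ?_) h1 h2
    rcases hw with rfl | rfl
    · exact h1
    · exact h2
  -- `ζ ∈ O ^ g`
  have ζg : ζ ∈ O ^ᶜ g := by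
    rw [← cjO k g (hk.trans h.gt.symm), mem_cj]
    refine (hO _).2 ⟨hC, ?_, by rw [H9.orderOf_conj']; exact c.cov.odd' ζA ζC⟩
    have h1 : Commute ζ (k * F.t * k⁻¹) := by
      rw [hk]
      exact Commute.mul_right (c.tA ζ ζA) (ζC _ (zA c)).symm
    have := cjc h1 k⁻¹
    rwa [inv_inv, show k⁻¹ * (k * F.t * k⁻¹) * k = F.t by group] at this
  have yg : (O ^ᶜ g) ^ᶜ F.y1 = O ^ᶜ g := by
    refine cj_eq_of_cj_le fun p' hp' => ?_
    obtain ⟨p, hp, rfl⟩ := mem_cj'.1 hp'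
    obtain ⟨o, ho, e⟩ := mem_cj'.1 hp
    obtain ⟨h1, h2, h3⟩ := (hO o).1 ho
    obtain ⟨i, o', ho', e'⟩ := decr g h.gX _ h.gt (Or.inl rfl) o h3 h2 (h1 _ (zA c)).symm
      (h1 _ c.v1A).symm
    have : F.y1 * p * F.y1⁻¹ = ζ ^ (i : ℕ) * p := by
      rw [e, e']
      calc _ = (F.y1 * x * F.y1⁻¹) ^ (i : ℕ) * (F.y1 * o' * F.y1⁻¹) := by rw [conj_pow]; group
        _ = _ := by
          rw [yx, fix_of (((hO o').1 ho').1 _ c.y1A), (show Commute ζ x from (ζC _ hx).symm).mul_pow,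
            mul_assoc]
    rw [this]
    exact mul_mem (pow_mem ζg _) hp
  have t1 : F.y1 * g * F.t * (F.y1 * g)⁻¹ = F.t * F.v1 := by
    calc _ = F.y1 * (g * F.t * g⁻¹) * F.y1⁻¹ := by group
      _ = F.y1 * F.t * F.y1⁻¹ * (F.y1 * F.z * F.y1⁻¹) := by rw [h.gt]; group
      _ = _ := by rw [fix_of F.y1t, F.y1z]
  have t2 : F.y1 * (F.y1 * g) * F.t * (F.y1 * (F.y1 * g))⁻¹ = g * d * F.t * (g * d)⁻¹ := by
    calc _ = F.y1 * (F.y1 * g * F.t * (F.y1 * g)⁻¹) * F.y1⁻¹ := by group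
      _ = F.y1 * F.t * F.y1⁻¹ * (F.y1 * F.v1 * F.y1⁻¹) := by rw [t1]; group
      _ = g * F.t * g⁻¹ * (g * F.v1 * g⁻¹) := by
        rw [fix_of F.y1t, F.y1v, h.gt, conj_eq_of_mem_centralizer h.gX vX, mul_assoc]
      _ = g * (d * F.t * d⁻¹) * g⁻¹ := by rw [h.dt]; group
      _ = _ := by group
  have dO : O ^ᶜ d = O := by
    rw [← cj_inj (g := g), cj_cj, ← cjO _ _ t2, ← cj_cj, ← cj_cj, yg, yg]
  have gO : O ^ᶜ g = O := by
    rw [← yg, cj_cj, cjO _ d (t1.trans h.dt.symm), dO]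
  have R : ∀ r, O ^ᶜ r = O → ∀ i : ℕ, (∃ o ∈ O, r * x * r⁻¹ = x ^ i * o) → ∀ (a : G) (n : ℕ),
      (∃ o ∈ O, a = x ^ n * o) → ∃ o ∈ O, r * a * r⁻¹ = x ^ (i * n) * o := by
    rintro r hr i ⟨o, ho, e⟩ a n ⟨o', ho', rfl⟩
    refine ⟨o ^ n * (r * o' * r⁻¹), mul_mem (pow_mem ho n) (hr ▸ cj_mem r ho'), ?_⟩
    calc _ = (r * x * r⁻¹) ^ n * (r * o' * r⁻¹) := by rw [conj_pow]; group
      _ = _ := by
        rw [e, (show Commute (x ^ i) o from ((hO o).1 ho).1 _ (pow_mem hx i)).mul_pow, ← pow_mul,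
          mul_assoc]
  have Ra : ∀ (a : G) (n : ℕ), (∃ o ∈ O, a = x ^ n * o) → α a = px ^ n := by
    rintro a n ⟨o, ho, rfl⟩
    rw [c.cov.mul_cen (le_normalizer (pow_mem hx n)) ((hO o).1 ho).1, c.cov.pow (le_normalizer hx), ex]
  have R0 : ∀ r, O ^ᶜ r = O → ∀ i : Fin 3, (∃ o ∈ O, r * x * r⁻¹ = x ^ (i : ℕ) * o) → i ≠ 0 := by
    rintro r hr i ⟨o, ho, e⟩ rfl
    simp only [Fin.val_zero, pow_zero, one_mul] at e
    have : x ∈ O := by
      rw [← cj_mem_iff (g := r), hr, e]; exact ho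
    exact px_ne (ex ▸ c.cov.cen ((hO x).1 this).1)
  obtain ⟨i, hi⟩ := decr g h.gX _ h.gt (Or.inl rfl) x ox xt xz xv
  obtain ⟨j, hj⟩ := decr d h.dX _ h.dt (Or.inr rfl) x ox xt xz xv
  obtain ⟨m, hm⟩ := dec (F.u1 * x * F.u1⁻¹) (by rw [H9.orderOf_conj]; exact ox)
    (by have := cjc xt F.u1; rwa [fix_of F.tu1.symm] at this)
    (by have := cjc xz F.u1; rwa [fix_of F.zu1.symm] at this)
    (by have := cjc xv F.u1; rwa [fix_of F.u1v1] at this)
  have f1 := Ra _ _ (R g gO i hi _ _ hj)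
  have f2 := Ra _ _ (R d dO j hj _ _ (R g gO i hi _ _ hm))
  have f3 : g * (d * x * d⁻¹) * g⁻¹ = d * (g * (F.u1 * x * F.u1⁻¹) * g⁻¹) * d⁻¹ := by
    calc _ = g * d * x * (g * d)⁻¹ := by group
      _ = _ := by rw [h.gd]; group
  exact fin3 i j m (R0 g gO i hi) (R0 d dO j hj) ((Ra _ _ hm).symm.trans aux)
    (by rw [← f1, f3, f2])

end H25.A7
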