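import Mathlib
import Cfsg.Agent.Lib.A7S.FC

/-! The Held case: `V1 ^ h = ⟨u1, v⟩`. -/

set_option autoImplicit false

namespace H25.A7

open Subgroup H69 H36.SW

namespace FD

theorem vec (p : S7) : ⇑p = ![p 0, p 1, p 2, p 3, p 4, p 5, p 6] := by
  funext i; fin_cases i <;> rfl

theorem k2 : ∀ x0 x1 : Fin 7, x1 = pz x0 → x1 ≠ x0 → ∀ x2 x3 : Fin 7, x2 = pv1 x0 → x3 = pv1 x1 →
    ∀ x4 x5 : Fin 7, x5 = pu x4 → x5 ≠ x4 → ∀ x6 : Fin 7, x6 = pz x6 → x6 = pu x6 →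
    ∀ i, ![x0, x1, x2, x3, x4, x5, x6] (![x0, x1, x2, x3, x4, x5, x6] i) = i := by
  decide +kernel

theorem app {p q r s : S7} (h : p * q = r * s) (i : Fin 7) : p (q i) = r (s i) :=
  congrArg (fun f : S7 => f i) h

theorem p2 {p : S7} (h1 : p * pz = pz * p) (h2 : p * pv1 = pv1 * p) (h3 : p * pu = pu * p) : p * p = 1 := by
  have := k2 (p 0) (p 1) (app h1 0) (p.injective.ne (by decide)) (p 2) (p 3) (app h2 0) (app h2 1)
    (p 4) (p 5) (app h3 4) (p.injective.ne (by decide)) (p 6) (app h1 6) (app h3 6)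
  rw [← vec] at this
  exact Equiv.ext this

theorem k1 : ∀ x0 x1 : Fin 7, x1 = (pv2 * pu) x0 → x1 ≠ x0 →
    ∀ x4 x5 : Fin 7, x5 = pu x4 → x5 ≠ x4 → ∀ x2 x3 x6 : Fin 7,
    (∀ i, ![x0, x1, x2, x3, x4, x5, x6] (![x0, x1, x2, x3, x4, x5, x6] (![x0, x1, x2, x3, x4, x5, x6] i)) = i) →
    (∀ i, ![x0, x1, x2, x3, x4, x5, x6] i = i) ∨
    (∀ i, ![x0, x1, x2, x3, x4, x5, x6] i = (Equiv.swap 0 1 * Equiv.swap 3 6 * pz : S7) i) ∨
    (∀ i, ![x0, x1, x2, x3, x4, x5, x6] i = (Equiv.swap 0 1 * Equiv.swap 3 6 * pz : S7)⁻¹ i) := by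
  decide +kernel

theorem p1 {p : S7} (h1 : p * pv2 = pv2 * p) (h3 : p * pu = pu * p) (h : p ^ 3 = 1) (hp : p ≠ 1) :
    p = Equiv.swap 0 1 * Equiv.swap 3 6 * pz ∨ p = (Equiv.swap 0 1 * Equiv.swap 3 6 * pz)⁻¹ := by
  have h2 : p * (pv2 * pu) = pv2 * pu * p := by rw [← mul_assoc, h1, mul_assoc, h3, mul_assoc]
  have h' : p * (p * p) = 1 * 1 := by rw [mul_one, ← h, pow_three]
  have := k1 (p 0) (p 1) (app h2 0) (p.injective.ne (by decide))
    (p 4) (p 5) (app h3 4) (p.injective.ne (by decide)) (p 2) (p 3) (p 6) (by rw [← vec]; exact app h')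
  rw [← vec] at this
  rcases this with e | e | e
  · exact (hp (Equiv.ext e)).elim
  · exact Or.inl (Equiv.ext e)
  · exact Or.inr (Equiv.ext e)

theorem k3 : ∀ x0 x2 : Fin 7, x2 = py1⁻¹ x0 → x2 ≠ x0 → ∀ x1 : Fin 7, x1 = py1⁻¹ x2 →
    ∀ x4 x5 : Fin 7, x5 = pu x4 → x5 ≠ x4 → ∀ x3 x6 : Fin 7,
    (∀ i, ![x0, x1, x2, x3, x4, x5, x6] (pz (![x0, x1, x2, x3, x4, x5, x6]
      (pz (![x0, x1, x2, x3, x4, x5, x6] (pz i))))) = i) →
    (∀ i, ![x0, x1, x2, x3, x4, x5, x6] i = (Equiv.swap 0 1 * Equiv.swap 3 6 : S7) i) := by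
  decide +kernel

theorem p3 {p : S7} (h1 : p * py1 = py1⁻¹ * p) (h3 : p * pu = pu * p) (h : (p * pz) ^ 3 = 1) :
    p = Equiv.swap 0 1 * Equiv.swap 3 6 := by
  have h' : p * pz * (p * pz * (p * pz)) = 1 * 1 := by rw [mul_one, ← h, pow_three]
  have := k3 (p 0) (p 2) (app h1 0) (p.injective.ne (by decide)) (p 1) (app h1 2)
    (p 4) (p 5) (app h3 4) (p.injective.ne (by decide)) (p 3) (p 6) (by rw [← vec]; exact app h')
  rw [← vec] at this
  exact Equiv.ext this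

theorem cjc {G : Type*} [Group G] {a b : G} (e : a * b = b * a) (g : G) :
    g * a * g⁻¹ * (g * b * g⁻¹) = g * b * g⁻¹ * (g * a * g⁻¹) := by
  calc _ = g * (a * b) * g⁻¹ := by group
    _ = _ := by rw [e]; group

theorem cr {G : Type*} [Group G] {x a b : G} (h1 : x * (a * b) = a * b * x) (h2 : x * b = b * x) :
    x * a = a * x := by
  have : x * a * b = a * x * b := by rw [mul_assoc, h1, mul_assoc, ← h2, mul_assoc]
  exact mul_right_cancel this

end FD

open FD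

variable {G : Type*} [Group G] [Finite G]
variable {F : Fr G} {A : Subgroup G} {α : G → S7}

theorem Cf.hv (c : Cf F A α) {g d v η h : G} (b : F.HB0 g d v η h) : h * F.v1 * h⁻¹ = v := by
  refine b.hv1.resolve_right fun hv => ?_
  have u1 := b.ca.u1
  have cov := c.cov
  have au : α F.u1 = pu := c.au.resolve_left u1
  have CN : ∀ x : G, x * F.t = F.t * x → x ∈ 𝐍(A) := fun x e => c.toSt.CN c.tt c.t1 c.tA e
  have At : ∀ a ∈ A, a * F.t = F.t * a := fun a ha => c.tA a ha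
  have zA : F.z ∈ A := F.hz ▸ mul_mem (mul_mem (mul_mem c.v1A c.v2A) c.v1A) c.v2A
  have az : α F.z = pz := by
    rw [← F.hz, cov.mul' (mul_mem (mul_mem c.v1A c.v2A) c.v1A) c.v2A, cov.mul' (mul_mem c.v1A c.v2A) c.v1A,
      cov.mul' c.v1A c.v2A, c.av1, c.av2]
    decide +kernel
  have uN : F.u1 ∈ 𝐍(A) := CN _ F.tu1.symm
  have zX : F.z ∈ F.X1 := subset_closure (by simp)
  have vX : F.v1 ∈ F.X1 := subset_closure (by simp)
  have uX : F.u1 ∈ F.X1 := subset_closure (by simp)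
  have vz : v * F.z * v⁻¹ = F.z := by rw [← b.tr.vX _ zX, mul_inv_cancel_right]
  have vv1 : v * F.v1 * v⁻¹ = F.v1 := by rw [← b.tr.vX _ vX, mul_inv_cancel_right]
  have vu : v * F.u1 * v⁻¹ = F.u1 := by rw [← b.tr.vX _ uX, mul_inv_cancel_right]
  -- conjugation by `v` preserves `C(t, u)`
  have cv : ∀ x : G, x * F.t = F.t * x → x * F.u1 = F.u1 * x →
      v * x * v⁻¹ * F.t = F.t * (v * x * v⁻¹) ∧ v * x * v⁻¹ * F.u1 = F.u1 * (v * x * v⁻¹) := by
    intro x e1 e2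
    have f1 := cjc e1 v
    have f2 := cjc e2 v
    rw [b.tr.vt] at f1
    rw [vu] at f2
    exact ⟨cr f1 f2, f2⟩
  -- odd elements of `C(t, z, v1, u)` lie in `C(A)`
  have oddK : ∀ x : G, x * F.t = F.t * x → x * F.z = F.z * x → x * F.v1 = F.v1 * x → x * F.u1 = F.u1 * x →
      Odd (orderOf x) → α x = 1 := by
    intro x e1 e2 e3 e4 ho
    have xN := CN x e1
    have f2 := cov.comm xN (le_normalizer zA) e2
    have f3 := cov.comm xN (le_normalizer c.v1A) e3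
    have f4 := cov.comm xN uN e4
    rw [az] at f2; rw [c.av1] at f3; rw [au] at f4
    have := pow_odd_of_sq (p2 f2 f3 f4) ho
    rw [← cov.pow xN, pow_orderOf_eq_one, cov.one] at this
    exact this.symm
  -- the element of order 3
  obtain ⟨ζ, ⟨ζA, ζC⟩, uζ, hk⟩ := c.z3 u1 b.tr
  have ζ3 : ζ ^ 3 = 1 := by
    rcases cenA cov with e | e
    · have : ζ ∈ (A ⊓ 𝐂(A) : Subgroup G) := ⟨ζA, ζC⟩
      rw [e, mem_bot] at this
      rw [this, one_pow]
    · have := pow_card_eq_one' (G := (A ⊓ 𝐂(A) : Subgroup G)) (x := ⟨ζ, ζA, ζC⟩)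
      rw [e] at this
      exact congrArg Subtype.val this
  obtain ⟨w, hw⟩ : ∃ w, w = h * ζ * h⁻¹ := ⟨_, rfl⟩
  have hv2 : h * F.v2 * h⁻¹ = F.v2 := by rw [b.hv2, mul_inv_cancel_right]
  have wv2 : w * F.v2 = F.v2 * w := by
    have := cjc (ζC _ c.v2A).symm h
    rwa [hv2, ← hw] at this
  have wu : w * F.u1 = F.u1 * w := by
    have := cjc (ζC _ zA).symm h
    rwa [b.hz, ← hw] at this
  have wt : w * F.t = F.t * w := by
    have := cjc (At _ ζA) h
    rw [b.ht, ← hw] at this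
    exact cr this wv2
  have wN := CN w wt
  have w3 : w ^ 3 = 1 := by rw [hw, conj_pow, ζ3, mul_one, mul_inv_cancel]
  have ui : F.u1⁻¹ = F.u1 := inv_eq_of_mul_eq_one_left F.u11
  have vw : v * w * v⁻¹ = w⁻¹ := by
    have e1 : v = h * (F.v1 * F.u1) * h⁻¹ := by
      calc v = v * F.z * F.z := by rw [mul_assoc, F.zz, mul_one]
        _ = h * F.v1 * h⁻¹ * (h * F.u1 * h⁻¹) := by rw [hv, b.hu]
        _ = _ := by group
    have e2 : F.v1 * F.u1 * ζ * (F.v1 * F.u1)⁻¹ = ζ⁻¹ := by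
      calc _ = F.v1 * (F.u1 * ζ * F.u1⁻¹) * F.v1⁻¹ := by group
        _ = F.v1 * ζ⁻¹ * F.v1⁻¹ := by rw [ui, uζ]
        _ = _ := by rw [(inv_mem ζC : ζ⁻¹ ∈ 𝐂(A)) _ c.v1A, mul_inv_cancel_right]
    calc _ = h * (F.v1 * F.u1 * ζ * (F.v1 * F.u1)⁻¹) * h⁻¹ := by rw [e1, hw]; group
      _ = _ := by rw [e2, hw]; group
  have w1 : α w ≠ 1 := fun e => by
    refine hk (F.y2⁻¹ * h⁻¹) ?_ ?_
    · have e1 : h⁻¹ * F.t * h = F.t * F.v2 := by
        have : h * (F.t * F.v2) * h⁻¹ = F.t := by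
          calc _ = h * F.t * h⁻¹ * (h * F.v2 * h⁻¹) := by group
            _ = _ := by rw [b.ht, hv2, mul_assoc, F.v22, mul_one]
        calc _ = h⁻¹ * (h * (F.t * F.v2) * h⁻¹) * h := by rw [this]
          _ = _ := by group
      calc _ = F.y2⁻¹ * (h⁻¹ * F.t * h) * F.y2 := by group
        _ = F.y2⁻¹ * (F.t * F.y2) * F.z := by rw [e1, ← F.y2z]; group
        _ = _ := by rw [← F.y2t]; group
    · have : (F.y2⁻¹ * h⁻¹)⁻¹ * ζ * (F.y2⁻¹ * h⁻¹) = w := by
        calc _ = h * (F.y2 * ζ) * F.y2⁻¹ * h⁻¹ := by group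
          _ = _ := by rw [ζC _ c.y2A, hw]; group
      rw [this]
      exact (cov.ker w wN).1 e
  have pw := p1 (p := α w) (by rw [← c.av2]; exact cov.comm wN (le_normalizer c.v2A) wv2)
    (by rw [← au]; exact cov.comm wN uN wu) (by rw [← cov.pow wN, w3, cov.one]) w1
  -- the lift of `(01)(36)`
  obtain ⟨a, aA, aa, a2⟩ := cov.lifti (j := Equiv.swap 0 1 * Equiv.swap 3 6)
    (by rw [Equiv.Perm.mem_alternatingGroup]; decide +kernel) (by decide +kernel)
  have az3 : (a * F.z) ^ 3 = 1 := lift_ord cov aA zA a2 F.zz (by rw [aa, az]; decide +kernel)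
  have au' : a * F.u1 = F.u1 * a :=
    (cov.comm_lift uN aA (P2.of_sq a2) (by rw [aa, au]; decide +kernel)).symm
  have av2 : F.v2 * a = a * F.v2 :=
    cov.comm_lift (le_normalizer c.v2A) aA (P2.of_sq a2) (by rw [aa, c.av2]; decide +kernel)
  have y1a : F.y1 * (a * F.v2) = a * F.v2 * F.y1 :=
    cov.comm_lift (le_normalizer c.y1A) (mul_mem aA c.v2A) ((P2.of_sq a2).mul (P2.of_sq F.v22) av2.symm)
      (by rw [cov.mul' aA c.v2A, aa, c.av2, c.ay1]; decide +kernel)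
  have ay : a * F.y1⁻¹ = F.y1 * a := by
    calc _ = a * F.v2 * F.y1 * F.v2 := by rw [← F.v2y]; group
      _ = F.y1 * a * (F.v2 * F.v2) := by rw [← y1a]; group
      _ = _ := by rw [F.v22, mul_one]
  -- `y1 ^ v ≡ y1`
  obtain ⟨o, oC, oo, hη⟩ := b.tr.hη
  have oW : ∀ x ∈ F.X1, o * x = x * o := fun x hx => (oC x (F.X1W1 hx)).symm
  have ot : o * F.t = F.t * o := (oC _ (subset_closure (by simp))).symm
  have ao : α o = 1 := oddK o ot (oW _ zX) (oW _ vX) (oW _ uX) oo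
  have ov := cv o ot (oW _ uX)
  have aov : α (v * o * v⁻¹) = 1 := by
    refine oddK _ ov.1 ?_ ?_ ov.2 ?_
    · have := cjc (oW _ zX) v
      rwa [vz] at this
    · have := cjc (oW _ vX) v
      rwa [vv1] at this
    · rwa [← MulAut.conj_apply, MulEquiv.orderOf_eq]
  have yv := cv _ F.y1t F.y1u
  have ayv : α (v * F.y1 * v⁻¹) = py1 := by
    have e : v * F.y1 * v⁻¹ * (v * o * v⁻¹) = F.y1 * o := by
      calc _ = v * η * v⁻¹ := by rw [hη]; group
        _ = _ := by rw [← b.tr.ηv, mul_inv_cancel_right, hη]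
    have := congrArg α e
    rwa [cov.mul _ (CN _ yv.1) _ (CN _ ov.1), cov.mul _ (le_normalizer c.y1A) _ (CN _ ot), ao, aov, mul_one,
      mul_one, c.ay1] at this
  -- `v` centralises `a`
  have av := cv a (At a aA) au'
  have avN := CN _ av.1
  have avz : (v * a * v⁻¹ * F.z) ^ 3 = 1 := by
    calc _ = (v * (a * F.z) * v⁻¹) ^ 3 := by
          congr 1
          calc _ = v * a * v⁻¹ * (v * F.z * v⁻¹) := by rw [vz]
            _ = _ := by group
      _ = 1 := by rw [conj_pow, az3, mul_one, mul_inv_cancel]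
  have aav : α (v * a * v⁻¹) = Equiv.swap 0 1 * Equiv.swap 3 6 := by
    refine p3 ?_ (by rw [← au]; exact cov.comm avN uN av.2) ?_
    · have e : v * a * v⁻¹ * (v * F.y1 * v⁻¹) = (v * F.y1 * v⁻¹)⁻¹ * (v * a * v⁻¹) := by
        calc _ = v * F.y1⁻¹ * (F.y1 * a) * F.y1 * v⁻¹ := by group
          _ = _ := by rw [← ay]; group
      have := congrArg α e
      rwa [cov.mul _ avN _ (CN _ yv.1), cov.mul _ (inv_mem (CN _ yv.1)) _ avN, cov.inv (CN _ yv.1), ayv] at this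
    · rw [← az, ← cov.mul _ avN _ (le_normalizer zA), ← cov.pow (mul_mem avN (le_normalizer zA)), avz, cov.one]
  have va : v * a * v⁻¹ = a := by
    refine (c.toH1.over2' av.1 ((P2.of_sq a2).conj v) aA (P2.of_sq a2) (by rw [aa, aav])).resolve_right fun e => ?_
    have cm : Commute (a * F.z) F.t := At _ (mul_mem aA zA)
    have e' : a * F.t * F.z = a * F.z * F.t := by rw [mul_assoc, ← F.zt, mul_assoc]
    rw [e, e', cm.mul_pow, az3, one_mul, pow_three, F.tt, mul_one] at avz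
    exact c.t1 avz
  -- the contradiction
  have xA : a * F.z ∈ A := mul_mem aA zA
  have ax : α (a * F.z) = Equiv.swap 0 1 * Equiv.swap 3 6 * pz := by rw [cov.mul' aA zA, aa, az]
  have vx : v * (a * F.z) * v⁻¹ = a * F.z := by
    calc _ = v * a * v⁻¹ * (v * F.z * v⁻¹) := by group
      _ = _ := by rw [va, vz]
  have fin : ∀ x ∈ A, v * x * v⁻¹ = x → α x = α w → α w * α w * pv1 = pv1 * (α w * α w) := by
    intro x hx e1 e2
    have hk := cov.inv_mul_mem (le_normalizer hx) wN e2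
    have f := cjc (hk _ c.v1A) v
    have e3 : v * (x⁻¹ * w) * v⁻¹ = (w * x)⁻¹ := by
      calc _ = (v * x * v⁻¹)⁻¹ * (v * w * v⁻¹) := by group
        _ = _ := by rw [e1, vw]; group
    rw [vv1, e3] at f
    have f' : w * x * F.v1 = F.v1 * (w * x) := by
      calc _ = w * x * (F.v1 * (w * x)⁻¹) * (w * x) := by group
        _ = _ := by rw [f]; group
    have := cov.comm (mul_mem wN (le_normalizer hx)) (le_normalizer c.v1A) f'
    rwa [cov.mul _ wN _ (le_normalizer hx), e2, c.av1] at this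
  rcases pw with e | e
  · have := fin _ xA vx (by rw [ax, e])
    rw [e] at this
    revert this
    decide +kernel
  · have := fin _ (inv_mem xA) (by rw [← conj_inv, vx]) (by rw [cov.inv (le_normalizer xA), ax, e])
    rw [e] at this
    revert this
    decide +kernel

end H25.A7
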