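import Mathlib
import Cfsg.Agent.Lib.A7S.Cv
import Cfsg.Agent.S0245
import Cfsg.Agent.S0246

/-! The end `A₉`. -/

set_option autoImplicit false

namespace H25.A7

open Subgroup H69 H36.SW

section lin
open Polynomial Matrix

theorem ns_closed {L : Type*} [Field L] [IsAlgClosed L] (h7 : (7 : L) ≠ 0)
    {X N : symplecticGroup (Fin 2) L} (hX : X ^ 7 = 1) (hN : N * X * N⁻¹ = X ^ 2) : X = 1 := by
  by_contra h1
  obtain ⟨Y, hY⟩ : ∃ Y : Matrix (Fin 2 ⊕ Fin 2) (Fin 2 ⊕ Fin 2) L, Y = X := ⟨_, rfl⟩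
  have Y7 : Y ^ 7 = 1 := by
    have := congrArg Subtype.val hX
    simpa [hY] using this
  have Y1 : Y ≠ 1 := fun e => h1 (Subtype.ext (hY ▸ e))
  have c2 : (Y ^ 2).charpoly = Y.charpoly := by
    have e1 : Y ^ 2 = N.1 * Y * (N⁻¹ : symplecticGroup (Fin 2) L).1 := by
      have := congrArg Subtype.val hN
      simpa [hY] using this.symm
    have e2 : (N⁻¹ : symplecticGroup (Fin 2) L).1 * N.1 = 1 :=
      congrArg Subtype.val (inv_mul_cancel N)
    rw [e1, charpoly_mul_comm, ← Matrix.mul_assoc, e2, Matrix.one_mul]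
  have c6 : (Y ^ 6).charpoly = Y.charpoly := by
    have e0 : X ^ 6 = X⁻¹ := by
      rw [eq_inv_iff_mul_eq_one, ← pow_succ, hX]
    have e1 : Y ^ 6 = (-J (Fin 2) L) * Yᵀ * J (Fin 2) L := by
      rw [hY, ← SymplecticGroup.coe_inv, ← e0]; simp
    rw [e1, charpoly_mul_comm, ← Matrix.mul_assoc, Matrix.mul_neg, J_squared, neg_neg, Matrix.one_mul,
      charpoly_transpose]
  have s2 : ∀ μ ∈ spectrum L Y, μ ^ 2 ∈ spectrum L Y := fun μ hμ => by
    have := spectrum.pow_mem_pow Y 2 hμ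
    rwa [Matrix.mem_spectrum_iff_isRoot_charpoly, c2, ← Matrix.mem_spectrum_iff_isRoot_charpoly] at this
  have s6 : ∀ μ ∈ spectrum L Y, μ ^ 6 ∈ spectrum L Y := fun μ hμ => by
    have := spectrum.pow_mem_pow Y 6 hμ
    rwa [Matrix.mem_spectrum_iff_isRoot_charpoly, c6, ← Matrix.mem_spectrum_iff_isRoot_charpoly] at this
  obtain ⟨μ, hμ, m0⟩ : ∃ μ ∈ spectrum L Y, ∑ i ∈ Finset.range 7, μ ^ i = 0 := by
    have nu : ¬ IsUnit (∑ i ∈ Finset.range 7, Y ^ i) := fun u => by
      have := geom_sum_mul Y 7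
      rw [Y7, sub_self, u.mul_right_eq_zero, sub_eq_zero] at this
      exact Y1 this
    have dg : 0 < degree (∑ i ∈ Finset.range 7, (Polynomial.X : L[X]) ^ i) := by
      have : (∑ i ∈ Finset.range 7, (Polynomial.X : L[X]) ^ i).natDegree = 6 := by
        simp only [Finset.sum_range_succ, Finset.sum_range_zero, zero_add]
        compute_degree!
      exact natDegree_pos_iff_degree_pos.1 (by omega)
    have := spectrum.map_polynomial_aeval_of_degree_pos Y _ dg
    have h0 := (spectrum.zero_mem_iff L).2 nu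
    simp only [map_sum, map_pow, aeval_X] at this
    rw [this] at h0
    obtain ⟨μ, hμ, e⟩ := h0
    exact ⟨μ, hμ, by simpa [eval_finsetSum] using e⟩
  have m7 : μ ^ 7 = 1 := by
    have := geom_sum_mul μ 7
    rw [m0, zero_mul] at this
    exact (sub_eq_zero.1 this.symm)
  have m1 : μ ≠ 1 := fun e => by
    rw [e] at m0
    simp at m0
    exact h7 m0
  haveI : Fact (Nat.Prime 7) := ⟨by norm_num⟩
  have o7 : orderOf μ = 7 := orderOf_eq_prime m7 m1
  have red : ∀ a b : ℕ, μ ^ (7 * a + b) = μ ^ b := fun a b => by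
    rw [pow_add, pow_mul, m7, one_pow, one_mul]
  have a2 := s2 _ hμ
  have a4 := s2 _ a2
  have a6 := s6 _ hμ
  have a5 := s6 _ a2
  have a3 := s6 _ a4
  rw [← pow_mul] at a4 a5
  rw [← pow_mul, ← pow_mul] at a3
  rw [show 2 * 6 = 7 * 1 + 5 from rfl, red] at a5
  rw [show 2 * (2 * 6) = 7 * 3 + 3 from rfl, red] at a3
  classical
  have inj : Set.InjOn (fun i : ℕ => μ ^ i) (({1, 2, 3, 4, 5, 6} : Finset ℕ) : Set ℕ) :=
    (pow_injOn_Iio_orderOf (x := μ)).mono (by
      intro i hi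
      rw [o7]
      simp only [Finset.coe_insert, Finset.coe_singleton, Set.mem_insert_iff, Set.mem_singleton_iff] at hi
      simp only [Set.mem_Iio]
      omega)
  have cd := Finset.card_image_of_injOn inj
  have := card_le_degree_of_subset_roots (p := Y.charpoly)
    (Z := ({1, 2, 3, 4, 5, 6} : Finset ℕ).image fun i : ℕ => μ ^ i) (by
      intro x hx
      rw [mem_roots (charpoly_monic Y).ne_zero, ← Matrix.mem_spectrum_iff_isRoot_charpoly]
      simp only [Finset.mem_val, Finset.mem_image, Finset.mem_insert, Finset.mem_singleton] at hx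
      obtain ⟨i, hi, rfl⟩ := hx
      rcases hi with rfl | rfl | rfl | rfl | rfl | rfl
      · simpa using hμ
      · exact a2
      · exact a3
      · exact a4
      · exact a5
      · exact a6)
  rw [cd, charpoly_natDegree_eq_dim] at this
  revert this
  decide

theorem ns_field {K : Type*} [Field K] (h7 : (7 : K) ≠ 0)
    {X N : symplecticGroup (Fin 2) K} (hX : X ^ 7 = 1) (hN : N * X * N⁻¹ = X ^ 2) : X = 1 := by
  let f := algebraMap K (AlgebraicClosure K)
  let φ : symplecticGroup (Fin 2) K →* symplecticGroup (Fin 2) (AlgebraicClosure K) :=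
    { toFun := fun A => ⟨A.1.map f, SymplecticGroup.map_mem A.2 f⟩
      map_one' := Subtype.ext (Matrix.map_one f (map_zero f) (map_one f))
      map_mul' := fun A B => Subtype.ext (Matrix.map_mul (L := A.1) (M := B.1) (f := f)) }
  have h : φ X = 1 := ns_closed (N := φ N) (by
    intro e
    apply h7
    apply f.injective
    rw [map_ofNat, e, map_zero]) (by rw [← map_pow, hX, map_one])
    (by rw [← map_pow, ← hN, map_mul, map_mul, map_inv])
  have inj : Function.Injective φ := fun A B e =>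
    Subtype.ext (Matrix.map_injective f.injective (congrArg Subtype.val e))
  exact inj (h.trans (map_one φ).symm)

end lin

theorem ns_no14 (π : Equiv.Perm (Fin 8)) : orderOf π ≠ 14 := fun h => by
  have d : π.cycleType.lcm ∣ π.cycleType.prod := Multiset.lcm_dvd.2 fun _ => Multiset.dvd_prod
  rw [Equiv.Perm.lcm_cycleType, h] at d
  have s : π.cycleType.sum ≤ 8 := by
    rw [Equiv.Perm.sum_cycleType]
    simpa using Finset.card_le_univ π.support
  obtain ⟨a, ha, h2⟩ := Nat.prime_two.prime.exists_mem_multiset_dvd ((by norm_num : 2 ∣ 14).trans d)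
  obtain ⟨b, hb, h7⟩ := (by norm_num : Nat.Prime 7).prime.exists_mem_multiset_dvd
    ((by norm_num : 7 ∣ 14).trans d)
  have a2 := Equiv.Perm.two_le_of_mem_cycleType ha
  have b2 := Equiv.Perm.two_le_of_mem_cycleType hb
  have e1 := Multiset.sum_erase ha
  by_cases e : b = a
  · omega
  · have := Multiset.le_sum_of_mem ((Multiset.mem_erase_of_ne e).2 hb)
    omega

variable {G : Type*} [Group G] [Finite G]
variable {A E : Subgroup G} {α : G → S7} {t : G}

theorem H0.not_psp (h : H0 E A α t) {U : Subgroup G} (hU : IsSylowIn 2 U E) (hc : Nat.card U = 64)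
    {K : Type} [Field K] [Fintype K] (hK : Odd (Fintype.card K)) : ¬ Nonempty (E ≃* Cfsg.PSp 2 K) := by
  rintro ⟨φ⟩
  have cZ : Nat.card (center (Matrix.symplecticGroup (Fin 2) K)) = 2 := by
    rw [Cfsg.Agent.S0246.result (F := K) rfl 2 (by norm_num)]
    exact Nat.gcd_eq_left (Nat.Odd.sub_odd hK odd_one).two_dvd
  have h7 : (7 : K) ≠ 0 := fun e => by
    haveI : Fact (Nat.Prime 7) := ⟨by norm_num⟩
    haveI : CharP K 7 := (CharP.charP_iff_prime_eq_zero (by norm_num)).2 (by exact_mod_cast e)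
    obtain ⟨n, -, hn⟩ := FiniteField.card K 7
    have c := (center (Matrix.symplecticGroup (Fin 2) K)).card_eq_card_quotient_mul_card_subgroup
    rw [Cfsg.Agent.S0245.result (F := K) rfl 2, cZ, ← Nat.card_congr φ.toEquiv] at c
    have d1 : 16 ∣ Fintype.card K ^ 2 - 1 := by
      rw [hn, ← pow_mul, mul_comm, pow_mul]
      have := Nat.sub_dvd_pow_sub_pow (7 ^ 2) 1 n
      rw [one_pow] at this
      exact (by norm_num : 16 ∣ 7 ^ 2 - 1).trans this
    have d2 : 16 ∣ Fintype.card K ^ 4 - 1 := by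
      have := Nat.sub_dvd_pow_sub_pow (Fintype.card K ^ 2) 1 2
      rw [one_pow, ← pow_mul] at this
      exact d1.trans this
    have d3 : 16 * 16 ∣ Nat.card E * 2 := by
      rw [← c]
      refine Dvd.dvd.mul_left ?_ _
      simp only [Finset.prod_range_succ, Finset.prod_range_zero, one_mul]
      exact Nat.mul_dvd_mul d1 d2
    have d4 : 2 ^ 7 ∣ Nat.card E := by omega
    rw [Nat.Prime.pow_dvd_iff_le_factorization Nat.prime_two Nat.card_pos.ne'] at d4
    have := hU.card_eq_pow_factorization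
    rw [hc, show 64 = 2 ^ 6 from rfl] at this
    have := Nat.pow_right_injective le_rfl this
    omega
  obtain ⟨x, hx, n, hn, o7, e⟩ := ex7 h.cov
  obtain ⟨X0, hX0⟩ := QuotientGroup.mk_surjective (φ ⟨x, h.AE hx⟩)
  obtain ⟨N, hN⟩ := QuotientGroup.mk_surjective (φ ⟨n, h.AE hn⟩)
  have x7 : (⟨x, h.AE hx⟩ : E) ^ 7 = 1 := Subtype.ext (by rw [← o7]; exact pow_orderOf_eq_one x)
  have sqZ : ∀ c ∈ center (Matrix.symplecticGroup (Fin 2) K), c ^ 2 = 1 := fun c hc => by
    have := pow_card_eq_one' (x := (⟨c, hc⟩ : center (Matrix.symplecticGroup (Fin 2) K)))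
    rw [cZ] at this
    exact congrArg Subtype.val this
  have X14 : X0 ^ 14 = 1 := by
    rw [show 14 = 7 * 2 from rfl, pow_mul]
    apply sqZ
    rw [← QuotientGroup.eq_one_iff, QuotientGroup.mk_pow, hX0, ← map_pow, x7, map_one]
  have X7 : (X0 ^ 8) ^ 7 = 1 := by
    rw [← pow_mul, show 8 * 7 = 14 * 4 from rfl, pow_mul, X14, one_pow]
  have hX : ((X0 ^ 8 : Matrix.symplecticGroup (Fin 2) K) : Cfsg.PSp 2 K) = φ ⟨x, h.AE hx⟩ := by
    rw [QuotientGroup.mk_pow, hX0, ← map_pow, pow_succ, x7, one_mul]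
  generalize X0 ^ 8 = X at X7 hX
  have c : (X ^ 2)⁻¹ * (N * X * N⁻¹) ∈ center (Matrix.symplecticGroup (Fin 2) K) := by
    rw [← QuotientGroup.eq, QuotientGroup.mk_pow, QuotientGroup.mk_mul, QuotientGroup.mk_mul,
      QuotientGroup.mk_inv, hX, hN, ← map_pow, ← map_inv, ← map_mul, ← map_mul]
    congr 1
    exact Subtype.ext e.symm
  have hcj : N * X * N⁻¹ = X ^ 2 := by
    obtain ⟨c0, hc0⟩ : ∃ c, c = (X ^ 2)⁻¹ * (N * X * N⁻¹) := ⟨_, rfl⟩
    rw [← hc0] at c
    have e1 : N * X * N⁻¹ = X ^ 2 * c0 := by rw [hc0, mul_inv_cancel_left]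
    have X8 : X ^ 8 = X := by rw [pow_succ, X7, one_mul]
    have e2 : (N * X * N⁻¹) ^ 8 = N * X * N⁻¹ := by rw [conj_pow, X8]
    rw [← e2, e1, (show Commute (X ^ 2) _ from mem_center_iff.1 c _).mul_pow, ← pow_mul,
      show 2 * 8 = 8 * 2 from rfl, pow_mul, X8, show 8 = 2 * 4 from rfl, pow_mul, sqZ _ c, one_pow, mul_one]
  have := ns_field h7 X7 hcj
  rw [this, QuotientGroup.mk_one, eq_comm, map_eq_one_iff φ φ.injective] at hX
  have : x = 1 := congrArg Subtype.val hX
  rw [this, orderOf_one] at o7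
  omega

theorem H0.not_a8 (h : H0 E A α t) (ht : t ∉ E) : ¬ Nonempty (E ≃* alternatingGroup (Fin 8)) := by
  rintro ⟨φ⟩
  haveI := h.En
  have bij := Cfsg.Agent.S2119.result 8 (by norm_num) (by norm_num)
  obtain ⟨τ, hτ⟩ := bij.2 (MulAut.congr φ (MulAut.conjNormal t))
  have τ2 : τ * τ = 1 := bij.1 (by rw [map_mul, hτ, ← map_mul, ← map_mul, h.tt, map_one, map_one, map_one])
  have τ1 : τ ≠ 1 := fun e => by
    rw [e, map_one, eq_comm, map_eq_one_iff _ (MulAut.congr φ).injective] at hτ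
    refine h.t1 (h.cE t (mem_centralizer_iff_commute.2 fun a ha => ?_))
    have := congrArg (fun ψ : MulAut E => ((ψ ⟨a, ha⟩ : E) : G)) hτ
    simp only [MulAut.conjNormal_apply, MulAut.one_apply] at this
    rw [← mul_inv_eq_iff_eq_mul.1 this]
  obtain ⟨x, hx, -, -, o7, -⟩ := ex7 h.cov
  have fx : MulAut.conjNormal t (⟨x, h.AE hx⟩ : E) = ⟨x, h.AE hx⟩ :=
    Subtype.ext (conj_eq_of_mem_centralizer h.tA hx)
  have c : Commute τ (φ ⟨x, h.AE hx⟩ : Equiv.Perm (Fin 8)) := by
    have := congrArg (fun ψ : MulAut (alternatingGroup (Fin 8)) =>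
      ((ψ (φ ⟨x, h.AE hx⟩) : alternatingGroup (Fin 8)) : Equiv.Perm (Fin 8))) hτ
    simp only [MulAut.conjNormal_apply, MulAut.congr_apply, MulEquiv.trans_apply,
      MulEquiv.symm_apply_apply, fx] at this
    exact mul_inv_eq_iff_eq_mul.1 this
  have o1 : orderOf τ = 2 := orderOf_eq_prime (by rw [pow_two, τ2]) τ1
  have o2 : orderOf (φ ⟨x, h.AE hx⟩ : Equiv.Perm (Fin 8)) = 7 := by
    rw [Subgroup.orderOf_coe, MulEquiv.orderOf_eq, ← Subgroup.orderOf_coe]
    exact o7
  have := c.orderOf_mul_eq_mul_orderOf_of_coprime (by rw [o1, o2]; norm_num)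
  rw [o1, o2] at this
  exact ns_no14 _ this

end H25.A7
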