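import Mathlib
import Cfsg.Agent.Lib.A7S.RE
import Cfsg.Agent.Lib.A7S.FA

/-! Rank one: `⟨t⟩` is a Sylow 2-subgroup of `C(A)`. -/

set_option autoImplicit false
set_option linter.unusedSectionVars false

namespace H25.A7

open Subgroup H69 H36.SW

variable {G : Type*} [Group G] [Finite G]
variable {A E : Subgroup G} {α : G → S7} {t : G}

namespace RF

theorem q1 {p : S7} (h : p ∈ faQ) : p * pz = pz * p ∧ (p * p = 1 ∨ p * p = pz) := by
  obtain ⟨i, rfl⟩ := h
  revert i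
  decide +kernel

theorem q2 {x p : S7} (hx : x ∈ faQ) (hp : p ∈ faQ) (h : x * x = pz) (c : p * x = x * p) (p2 : p * p = 1) :
    p = 1 ∨ p = pz ∨ p = pu ∨ p = pz * pu := by
  obtain ⟨i, rfl⟩ := hx
  obtain ⟨j, rfl⟩ := hp
  revert i j
  decide +kernel

theorem cz (C : S7) : C * pz * C⁻¹ = Equiv.swap (C 0) (C 1) * Equiv.swap (C 2) (C 3) := by
  rw [Equiv.swap_apply_apply, Equiv.swap_apply_apply, pz]; group

theorem app {C V : S7} (h : C * V = V * C) (i : Fin 7) : V (C i) = C (V i) := (DFunLike.congr_fun h i).symm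

set_option synthInstance.maxSize 4096 in
theorem q3 {C : S7} (h : C * pu = pu * C) (c : C * pz * C⁻¹ * pz = pz * (C * pz * C⁻¹)) :
    C * pz * C⁻¹ = pz ∨ C * pz * C⁻¹ = pv1 ∨ C * pz * C⁻¹ = pz * pv1 := by
  rw [cz] at c ⊢
  exact (by decide +kernel : ∀ a, pu a = a → ∀ b, pu b = b → a ≠ b → ∀ c, pu c = c → a ≠ c → b ≠ c → ∀ d, pu d = d →
    a ≠ d → b ≠ d → c ≠ d → Equiv.swap a b * Equiv.swap c d * pz = pz * (Equiv.swap a b * Equiv.swap c d) →
    Equiv.swap a b * Equiv.swap c d = pz ∨ Equiv.swap a b * Equiv.swap c d = pv1 ∨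
      Equiv.swap a b * Equiv.swap c d = pz * pv1) _ (app h 0) _ (app h 1) (C.injective.ne (by decide)) _ (app h 2)
    (C.injective.ne (by decide)) (C.injective.ne (by decide)) _ (app h 3) (C.injective.ne (by decide))
    (C.injective.ne (by decide)) (C.injective.ne (by decide)) c

set_option synthInstance.maxSize 4096 in
theorem q4 {C : S7} (h : C * (pz * pu) = pz * pu * C) :
    C * pz * C⁻¹ = pz ∨ C * pz * C⁻¹ = pv2 ∨ C * pz * C⁻¹ = pz * pv2 := by
  rw [cz]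
  exact (by decide +kernel : ∀ a b, (pz * pu) a = b → a ≠ b → ∀ c d, (pz * pu) c = d → c ≠ d → a ≠ c → b ≠ c →
    Equiv.swap a b * Equiv.swap c d = pz ∨ Equiv.swap a b * Equiv.swap c d = pv2 ∨
      Equiv.swap a b * Equiv.swap c d = pz * pv2) _ _ (app h 0) (C.injective.ne (by decide)) _ _ (app h 2)
    (C.injective.ne (by decide)) (C.injective.ne (by decide)) (C.injective.ne (by decide))

theorem q5 {p : S7} (h1 : p * pz = pz * p) (h2 : p * pv1 = pv1 * p) (h3 : p * (py1 * py1) = py1 * py1 * p)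
    (h4 : p * (px * px) = px * px * p) (h : p * p = 1) : p = 1 := by
  have e3 : p 3 = 3 := (by decide +kernel : ∀ a, (py1 * py1) a = a → (px * px) a = a → a = 3) _ (app h3 3) (app h4 3)
  have e2 : p 2 = 2 := (app h1 3).symm.trans (by rw [e3]; rfl)
  have e1 : p 1 = 1 := (app h2 3).symm.trans (by rw [e3]; rfl)
  have e0 : p 0 = 0 := (app h1 1).symm.trans (by rw [e1]; rfl)
  have e6 : p 6 = (px * px) (p 4) := (app h4 4).symm
  have e5 : p 5 = (px * px) (p 6) := (app h4 6).symm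
  have v : (p : Fin 7 → Fin 7) = ![0, 1, 2, 3, p 4, (px * px) ((px * px) (p 4)), (px * px) (p 4)] := by
    funext i; fin_cases i
    exacts [e0, e1, e2, e3, rfl, e6 ▸ e5, e6]
  refine Equiv.ext fun i => (congrFun v i).trans ((by decide +kernel : ∀ b : Fin 7,
    ![0, 1, 2, 3, b, (px * px) ((px * px) b), (px * px) b] b = 4 →
      ∀ i, ![0, 1, 2, 3, b, (px * px) ((px * px) b), (px * px) b] i = i) _ ?_ i)
  rw [← v]
  exact DFunLike.congr_fun h 4

theorem memJ {p : S7} (h : Equiv.Perm.sign p = 1) : p ∈ J7 := Equiv.Perm.mem_alternatingGroup.2 h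

theorem four {k : G} (h : P2 k) (n : k * k ≠ 1) : ∃ j : ℕ, k ^ j * k ^ j ≠ 1 ∧ k ^ j * k ^ j * (k ^ j * k ^ j) = 1 := by
  obtain ⟨m, hm⟩ := h
  induction m generalizing k with
  | zero => exact (n (by rw [pow_zero, pow_one] at hm; rw [hm, mul_one])).elim
  | succ m ih =>
    by_cases e : k * k * (k * k) = 1
    · exact ⟨1, by simpa using n, by simpa using e⟩
    · obtain ⟨j, hj⟩ := ih e (by rw [← pow_two, ← pow_mul, ← pow_succ', hm])
      exact ⟨2 * j, by rwa [pow_mul, pow_two]⟩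

variable (h : H0 E A α t)
include h

theorem HN {g : G} (c : g * t = t * g) : g ∈ 𝐍(A) := h.toSt.CN h.tt h.t1 h.tA c

theorem eqt {k : G} (c : k * t = t * k) (k2 : k * k = 1) (e : α k = 1) : k = 1 ∨ k = t :=
  (h.rk k ((h.cov.ker k (HN h c)).1 e) t h.tA k2 h.tt c).imp_right fun e => e.resolve_left h.t1

theorem exT : ∃ T, IsSylowIn 2 T (centralizer {t}) ∧ (∀ x ∈ T, α x ∈ faQ) ∧
    ∀ a ∈ A, P2 a → α a ∈ faQ → a ∈ T := by
  have : Fact (Nat.Prime 2) := ⟨Nat.prime_two⟩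
  have c := h.cov
  have HN : centralizer {t} ≤ 𝐍(A) := fun g hg => HN h (mem_centralizer_singleton_iff.1 hg)
  have AH : A ≤ centralizer {t} := fun a ha => mem_centralizer_singleton_iff.2 (h.tA a ha)
  obtain ⟨T, hT, hQ⟩ : ∃ T, IsSylowIn 2 T (centralizer {t}) ∧ ∀ x ∈ T, α x ∈ faQ := by
    obtain ⟨T, hT⟩ := exists_isSylowIn 2 (centralizer ({t} : Set G))
    obtain ⟨j, -, hj⟩ := faQ_syl.exists_cj_le (c.isP_im hT.isP) le_top
    obtain ⟨j, jJ, hj⟩ : ∃ j ∈ J7, c.im T ^ᶜ j ≤ faQ := by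
      by_cases e : j ∈ J7
      · exact ⟨j, e, hj⟩
      · refine ⟨pu * j, ?_, ?_⟩
        · rw [Equiv.Perm.mem_alternatingGroup] at e ⊢
          rw [map_mul, (Int.units_eq_one_or _).resolve_left e]
          decide
        · rw [← cj_cj]
          exact cj_le_of_mem hj ⟨(false, false, false, true), by decide +kernel⟩
    obtain ⟨a, ha, rfl⟩ := c.onto j jJ
    refine ⟨T ^ᶜ a, hT.cj_of_mem (AH ha), fun x hx => ?_⟩
    obtain ⟨y, hy, rfl⟩ := mem_cj'.1 hx
    rw [c.conj (le_normalizer ha) (HN (hT.le hy))]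
    exact hj (cj_mem _ (c.mem_im.2 ⟨y, hy, HN (hT.le hy), rfl⟩))
  have TN : T ≤ 𝐍(A) := hT.le.trans HN
  obtain ⟨P, hP, -⟩ := c.exists_lift (Y := faQ ⊓ J7) inf_le_right (faQ_syl.isP.to_le inf_le_left)
  refine ⟨T, hT, hQ, fun a ha a2 e => hT.le_of_le_normalizer (isP_of_P2 fun x hx => ((hP x).1 hx).2.1)
    (fun x hx => AH ((hP x).1 hx).1) (fun x hx => mem_normalizer_fintype fun y hy => ?_)
    ((hP a).2 ⟨ha, a2, e, c.mem a ha⟩)⟩
  obtain ⟨h1, h2, h3⟩ := (hP y).1 hy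
  have h4 := (mem_normalizer_iff.1 (TN hx) y).1 h1
  refine (hP _).2 ⟨h4, h2.conj x, ?_, c.mem _ h4⟩
  rw [c.conj (TN hx) (le_normalizer h1)]
  exact faQ.mul_mem (faQ.mul_mem (hQ x hx) h3.1) (faQ.inv_mem (hQ x hx))

end RF

open RF

theorem H0.zt (h : H0 E A α t) {r : G} (hr : r ∈ 𝐂(A)) (r2 : r * r = t) : ∃ g, ∃ z ∈ A, z * z = 1 ∧ α z = pz ∧
    g * t * g⁻¹ = z ∧ g * z * g⁻¹ = t := by
  have : Fact (Nat.Prime 2) := ⟨Nat.prime_two⟩
  have c := h.cov
  obtain ⟨T, hT, hQ, mT⟩ := exT h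
  have Tt : ∀ x ∈ T, x * t = t * x := fun x hx => mem_centralizer_singleton_iff.1 (hT.le hx)
  have TN : ∀ x ∈ T, x ∈ 𝐍(A) := fun x hx => HN h (Tt x hx)
  obtain ⟨r, rT, hr, r2⟩ : ∃ r ∈ T, r ∈ 𝐂(A) ∧ r * r = t := by
    obtain ⟨k, hk, e⟩ := hT.exists_cj_le (P2.of_mul_self (r2 ▸ P2.of_sq h.tt)).zpowers
      (zpowers_le.2 (mem_centralizer_singleton_iff.2 (by rw [← r2, mul_assoc])))
    have kt := mem_centralizer_singleton_iff.1 hk
    exact ⟨_, e (cj_mem k (mem_zpowers r)),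
      conj_mem_of_mem_normalizer (normalizer_le_normalizer_centralizer A (HN h kt)) hr,
      by rw [conj_mul, r2, kt, mul_inv_cancel_right]⟩
  obtain ⟨z, zA, az, zz⟩ := c.lifti (j := pz) (memJ (by decide)) (by decide)
  obtain ⟨v1, a1, e1, s1⟩ := c.lifti (j := pv1) (memJ (by decide)) (by decide)
  obtain ⟨v2, a2, e2, s2⟩ := c.lifti (j := pv2) (memJ (by decide)) (by decide)
  have v1T := mT v1 a1 (.of_sq s1) (e1 ▸ ⟨(true, false, false, false), by decide +kernel⟩)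
  have v2T := mT v2 a2 (.of_sq s2) (e2 ▸ ⟨(false, true, false, false), by decide +kernel⟩)
  have hz : v1 * v2 * (v1 * v2) = z := c.uniq (mul_mem (mul_mem a1 a2) (mul_mem a1 a2)) zA
    (.of_mem hT.isP (mul_mem (mul_mem v1T v2T) (mul_mem v1T v2T))) (.of_sq zz)
    (by rw [c.mul' (mul_mem a1 a2) (mul_mem a1 a2), c.mul' a1 a2, e1, e2, az]; decide +kernel)
  have Tz : ∀ x ∈ T, x * z = z * x := fun x hx => c.comm_lift (TN x hx) zA (.of_sq zz) (az ▸ (q1 (hQ x hx)).1)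
  have key : ∀ n ∈ 𝐍(T), α (n * t * n⁻¹) = pz → n * z * n⁻¹ = t := fun n hn e => by
    have m : ∀ {x}, x ∈ T → n * x * n⁻¹ ∈ T := conj_mem_of_mem_normalizer hn
    have f : ∀ {v}, v ∈ A → v ∈ T → v * v = 1 → _ := fun {v} ha hv v2 => q2 (hQ _ (m rT)) (hQ _ (m hv))
      (by rw [← c.mul _ (TN _ (m rT)) _ (TN _ (m rT)), conj_mul, r2, e])
      (c.comm (TN _ (m hv)) (TN _ (m rT)) (by rw [conj_mul, conj_mul, hr v ha])) (c.sq (TN _ (m hv)) (cjsq v2 n))
    have m12 := mul_mem (m v1T) (m v2T)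
    refine (eqt h (Tt _ (m (hz ▸ mul_mem (mul_mem v1T v2T) (mul_mem v1T v2T)))) (cjsq zz n) ?_).resolve_left
      (cjne (fun e => absurd (az.symm.trans (e ▸ c.one)) (by decide)) n)
    rw [← hz, ← conj_mul, ← conj_mul, c.mul _ (TN _ m12) _ (TN _ m12), c.mul _ (TN _ (m v1T)) _ (TN _ (m v2T))]
    rcases f a1 v1T s1 with e | e | e | e <;> rcases f a2 v2T s2 with e' | e' | e' | e' <;> rw [e, e'] <;> decide
  obtain ⟨g, ne, cm, hJ⟩ := h.inner hr r2
  obtain ⟨a, aA, k, hk, aa, kk, ea, es⟩ := dec_inner c (HN h cm) (cjsq h.tt g) hJ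
  have kt : k * t = t * k := mul_right_cancel (b := a) (by rw [mul_assoc, ← h.tA a aA, ← mul_assoc, ← es, cm, es, mul_assoc])
  have hk' := eqt h kt kk (c.cen hk)
  obtain ⟨j, jJ, ej⟩ := cls_inv (c.mem a aA) (c.sq (le_normalizer aA) aa) fun e => by
    rw [c.eq_one aA (.of_sq aa) e, mul_one] at es
    exact hk'.elim (fun e => cjne h.t1 g (es.trans e)) fun e => ne (es.trans e)
  obtain ⟨b, bA, rfl⟩ := c.onto j jJ
  have e : b * g * t * (b * g)⁻¹ = k * z := by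
    rw [← c.conj_eq (le_normalizer bA) aA zA (.of_sq aa) (.of_sq zz) (ej.trans az.symm), ← mul_assoc, ← mul_assoc,
      ← hk b bA, mul_assoc b k, ← es]
    group
  obtain ⟨n, hn, en⟩ := burnside hT e fun x hx => mem_centralizer_singleton_iff.2
    (Commute.mul_right (hk'.elim (fun e => e ▸ Commute.one_right x) fun e => e ▸ Tt x hx) (Tz x hx))
  obtain ⟨n', hn', en'⟩ := burnside (g := n⁻¹) (s := z) hT
    (by rw [← key n hn (by rw [en, c.cen_mul (le_normalizer zA) hk, az])]; group)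
    fun x hx => mem_centralizer_singleton_iff.2 (Tz x hx)
  exact ⟨n', z, zA, zz, az, en', key n' hn' (en' ▸ az)⟩

theorem H0.h1 (h : H0 E A α t) : H1 E A α t := by
  refine ⟨h, fun k hk kt k2 => by_contra fun ne => ?_⟩
  have : Fact (Nat.Prime 2) := ⟨Nat.prime_two⟩
  have c := h.cov
  obtain ⟨j, r2, r4⟩ := four k2 fun e => ne (eqt h kt e (c.cen hk))
  have hr := pow_mem hk j
  replace r2 := (eqt h (Commute.mul_left (Commute.pow_left kt j) (Commute.pow_left kt j)) r4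
    (c.cen (mul_mem hr hr))).resolve_left r2
  generalize k ^ j = r at hr r2
  clear r4 ne k2 kt hk
  obtain ⟨T, hT, hQ, -⟩ := exT h
  have Tt : ∀ x ∈ T, x * t = t * x := fun x hx => mem_centralizer_singleton_iff.1 (hT.le hx)
  have TN : ∀ x ∈ T, x ∈ 𝐍(A) := fun x hx => HN h (Tt x hx)
  obtain ⟨v, vA, av, vv⟩ := c.lifti (j := pv1) (memJ (by decide)) (by decide)
  obtain ⟨g, z, zA, zz, az, gt, gz⟩ := h.zt hr r2
  have vz : v * z = z * v := c.comm_lift (le_normalizer vA) zA (.of_sq zz) (by rw [av, az]; decide)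
  obtain ⟨g, gt, gz, rT, vT⟩ : ∃ g, g * z * g⁻¹ = t ∧ g * t * g⁻¹ = z ∧ g * r * g⁻¹ ∈ T ∧ g * v * g⁻¹ ∈ T := by
    obtain ⟨k, hk, e⟩ := hT.exists_cj_le (isP_sup ((P2.of_mul_self (r2 ▸ P2.of_sq h.tt)).conj g).zpowers
      ((P2.of_sq vv).conj g) (centralizer_le_normalizer _ (by
        rw [centralizer_zpowers, mem_centralizer_singleton_iff, conj_mul, conj_mul, hr v vA])))
      (sup_le (zpowers_le.2 (by rw [mem_centralizer_singleton_iff, ← gz, conj_mul, conj_mul, hr z zA]))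
        (zpowers_le.2 (by rw [mem_centralizer_singleton_iff, ← gz, conj_mul, conj_mul, vz])))
    have kt := mem_centralizer_singleton_iff.1 hk
    have k0 : ∀ x, k * g * x * (k * g)⁻¹ = k * (g * x * g⁻¹) * k⁻¹ := fun x => by group
    have rT := e (cj_mem k (mem_sup_left (mem_zpowers _)))
    refine ⟨k * g, by rw [k0, gz, kt, mul_inv_cancel_right], ?_, k0 r ▸ rT,
      k0 v ▸ e (cj_mem k (mem_sup_right (mem_zpowers _)))⟩
    have m := conj_mem_of_mem_normalizer (HN h kt) zA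
    have := (q1 (hQ _ rT)).2
    rw [← c.mul _ (TN _ rT) _ (TN _ rT), conj_mul, conj_mul, r2, gt] at this
    rw [k0, gt]
    exact c.uniq m zA (.of_sq (cjsq zz k)) (.of_sq zz) ((this.resolve_left fun e => cjne
      (fun e => absurd (az.symm.trans (e ▸ c.one)) (by decide)) k (c.eq_one m (.of_sq (cjsq zz k)) e)).trans az.symm)
  have inj : ∀ {x y}, g * x * g⁻¹ = g * y * g⁻¹ → x = y := fun e => (MulAut.conj g).injective e
  have tA : t ∉ A := fun m => h.t1 ((P2.of_sq h.tt).eq_one (c.odd' m h.tA))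
  obtain ⟨i, iA, ii, iv, w, wz, iw, all⟩ : ∃ i ∈ A, i * i = 1 ∧ α (g * v * g⁻¹) * α i = α i * α (g * v * g⁻¹) ∧
      ∃ w, (w ≠ pz ∧ w * pz = pz * w) ∧ α i * pz * (α i)⁻¹ = w ∧ ∀ C : S7, C * α (g * v * g⁻¹) = α (g * v * g⁻¹) * C →
        C * pz * C⁻¹ * pz = pz * (C * pz * C⁻¹) → C * pz * C⁻¹ = pz ∨ C * pz * C⁻¹ = w ∨ C * pz * C⁻¹ = pz * w := by
    rcases q2 (hQ _ rT) (hQ _ vT) (by rw [← c.mul _ (TN _ rT) _ (TN _ rT), conj_mul, r2, gz, az])
      (c.comm (TN _ vT) (TN _ rT) (by rw [conj_mul, conj_mul, hr v vA])) (c.sq (TN _ vT) (cjsq vv g)) with e | e | e | e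
    · rcases eqt h (Tt _ vT) (cjsq vv g) e with e | e
      · exact (cjne (fun e => absurd (av.symm.trans (e ▸ c.one)) (by decide)) g e).elim
      · exact absurd (av.symm.trans (inj (e.trans gt.symm) ▸ az)) (by decide)
    · have cm : z * (g * v * g⁻¹) = g * v * g⁻¹ * z := by rw [← gz, conj_mul, conj_mul, h.tA v vA]
      have := eqt h (Commute.mul_left (h.tA z zA) (Tt _ vT))
        (by rw [mul_assoc, ← mul_assoc _ z, ← cm, mul_assoc z, cjsq vv, mul_one, zz])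
        (by rw [c.mul _ (le_normalizer zA) _ (TN _ vT), e, az]; decide)
      rw [← gt] at this
      nth_rw 1 2 [← gz] at this
      rw [conj_mul] at this
      rcases this with e | e
      · exact (tA (eq_inv_of_mul_eq_one_left (inj (y := 1) (by simpa using e)) ▸ inv_mem vA)).elim
      · exact (tA (eq_mul_inv_of_mul_eq (inj e) ▸ mul_mem zA (inv_mem vA))).elim
    · obtain ⟨i, iA, ai, ii⟩ := c.lifti (j := Equiv.swap 1 2 * Equiv.swap 4 5) (memJ (by simp)) (by decide)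
      exact ⟨i, iA, ii, by rw [e, ai]; decide, pv1, by decide, by rw [ai]; decide, fun C h1 => q3 (e ▸ h1)⟩
    · obtain ⟨i, iA, ai, ii⟩ := c.lifti (j := Equiv.swap 2 4 * Equiv.swap 3 5) (memJ (by simp)) (by decide)
      exact ⟨i, iA, ii, by rw [e, ai]; decide, pv2, by decide, by rw [ai]; decide, fun C h1 _ => q4 (e ▸ h1)⟩
  have mA := conj_mem_of_mem_normalizer (le_normalizer iA) zA
  have aw : α (i * z * i⁻¹) = w := by rw [c.conj (le_normalizer iA) (le_normalizer zA), az, iw]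
  have zc : i * z * i⁻¹ * z = z * (i * z * i⁻¹) :=
    c.comm_lift (le_normalizer mA) zA (.of_sq zz) (by rw [aw, az, wz.2])
  obtain ⟨y, rfl⟩ : ∃ y, i = g * y * g⁻¹ := ⟨g⁻¹ * i * g, by group⟩
  have yz : y * z = z * y := inj (by rw [← conj_mul, ← conj_mul, gt, h.tA _ iA])
  have yv : y * v = v * y := inj (by rw [← conj_mul, ← conj_mul, c.comm_lift (TN _ vT) iA (.of_sq ii) iv])
  have cj : ∀ x, g * (x * t * x⁻¹) * g⁻¹ = g * x * g⁻¹ * z * (g * x * g⁻¹)⁻¹ := fun x => by rw [← gz]; group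
  have st : y * t * y⁻¹ * t = t * (y * t * y⁻¹) := inj (by
    rw [← conj_mul (a := y * t * y⁻¹), ← conj_mul (a := t), cj, gz, zc])
  have sne : y * t * y⁻¹ ≠ t := fun e => wz.1 (by rw [← aw, ← cj, e, gz, az])
  have key : ∀ a ∈ A, Commute y (a * z * a⁻¹) → Commute y (a * v * a⁻¹) →
      α (y * t * y⁻¹) * (α a * α a) = α a * α a * α (y * t * y⁻¹) := fun a ha cz cv => by
    have at' := h.tA a ha
    have e : a⁻¹ * y * a * t * (a⁻¹ * y * a)⁻¹ = a⁻¹ * (y * t * y⁻¹) * a := by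
      rw [mul_assoc _ a, at']; group
    have f : ∀ {x}, Commute y (a * x * a⁻¹) → g * (a⁻¹ * y * a) * g⁻¹ * (g * x * g⁻¹) =
        g * x * g⁻¹ * (g * (a⁻¹ * y * a) * g⁻¹) := fun {x} k => by
      calc _ = g * a⁻¹ * (y * (a * x * a⁻¹)) * a * g⁻¹ := by group
        _ = _ := by rw [k.eq]; group
    have xN := HN h (gt ▸ f cz)
    have m := conj_mem_of_mem_normalizer xN zA
    have s' : Commute (a⁻¹ * (y * t * y⁻¹) * a) t := by
      calc _ = a⁻¹ * (y * t * y⁻¹ * t) * a := by rw [mul_assoc _ a, at']; group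
        _ = _ := by rw [st, ← mul_assoc a⁻¹, (Commute.inv_left at').eq]; group
    have := all _ (c.comm xN (TN _ vT) (f cv)) (by
      rw [← az, ← c.conj xN (le_normalizer zA)]
      exact c.comm (le_normalizer m) (le_normalizer zA) (by rw [← cj, e, ← gz, conj_mul, conj_mul, s'.eq]))
    rw [← az, ← c.conj xN (le_normalizer zA), ← aw, ← c.mul' zA mA] at this
    have k : a⁻¹ * (y * t * y⁻¹) * a = y * t * y⁻¹ ∨ a⁻¹ * (y * t * y⁻¹) * a = t * (y * t * y⁻¹) := by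
      rcases this with k | k | k
      · have := inj ((cj _).trans ((c.uniq m zA (.of_sq (cjsq zz _)) (.of_sq zz) k).trans gz.symm))
        rw [e, mul_assoc, inv_mul_eq_iff_eq_mul, at', mul_left_inj] at this
        exact (sne this).elim
      · exact .inl (e ▸ inj ((cj _).trans ((c.uniq m mA (.of_sq (cjsq zz _)) (.of_sq (cjsq zz _)) k).trans
          (cj _).symm)))
      · exact .inr (e ▸ inj ((cj _).trans ((c.uniq m (mul_mem zA mA) (.of_sq (cjsq zz _))
          ((P2.of_sq zz).mul (.of_sq (cjsq zz _)) zc.symm) k).trans (by rw [← cj, ← conj_mul (a := t), gz]))))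
    rw [← c.mul' ha ha]
    refine c.comm (HN h st) (le_normalizer (mul_mem ha ha)) ?_
    generalize y * t * y⁻¹ = s at k
    rw [mul_assoc, inv_mul_eq_iff_eq_mul, inv_mul_eq_iff_eq_mul] at k
    rcases k with k | k
    · rw [← mul_assoc, k, mul_assoc, k, mul_assoc]
    · rw [← mul_assoc, k, mul_assoc, mul_assoc, k, ← mul_assoc t, ← at', mul_assoc, ← mul_assoc t, h.tt, one_mul,
        mul_assoc]
  obtain ⟨a, aA, aa⟩ := c.onto py1 (memJ (by simp [py1]))
  obtain ⟨x, xA, ax⟩ := c.onto px (memJ (by simp [px]))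
  have cs : ∀ {x}, x ∈ A → Commute y x → α (y * t * y⁻¹) * α x = α x * α (y * t * y⁻¹) := fun {x} hx k =>
    c.comm (HN h st) (le_normalizer hx) ((k.mul_left (h.tA x hx).symm).mul_left k.inv_left)
  refine (eqt h st (cjsq h.tt y) (q5 (az ▸ cs zA yz) (av ▸ cs vA yv) (aa ▸ key a aA ?_ ?_) (ax ▸ key x xA ?_ ?_)
    (c.sq (HN h st) (cjsq h.tt y)))).elim (cjne h.t1 y) sne
  · rwa [c.conj_eq (le_normalizer aA) zA vA (.of_sq zz) (.of_sq vv) (by rw [aa, az, av]; decide)]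
  · rw [c.conj_eq (le_normalizer aA) vA (mul_mem zA vA) (.of_sq vv) ((P2.of_sq zz).mul (.of_sq vv) vz.symm)
      (by rw [c.mul' zA vA, aa, az, av]; decide)]
    exact Commute.mul_right yz yv
  · rwa [c.conj_eq (le_normalizer xA) zA zA (.of_sq zz) (.of_sq zz) (by rw [ax, az]; decide)]
  · rwa [c.conj_eq (le_normalizer xA) vA vA (.of_sq vv) (.of_sq vv) (by rw [ax, av]; decide)]

end H25.A7
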