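import Mathlib
import Cfsg.Agent.Lib.GL.SylowSL2

/-! A model of `D₈ ≀ 2`. -/

set_option autoImplicit false

namespace H25.A7.SB1

open DihedralGroup

/-- the wreath product -/
@[ext] structure Wr where
  a : DihedralGroup 4
  b : DihedralGroup 4
  e : Bool
  deriving DecidableEq

instance : Fintype Wr := Fintype.ofEquiv (DihedralGroup 4 × DihedralGroup 4 × Bool)
  ⟨fun x => ⟨x.1, x.2.1, x.2.2⟩, fun x => (x.a, x.b, x.e), fun _ => rfl, fun _ => rfl⟩

instance : Mul Wr := ⟨fun x y => match x.e with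
  | true => ⟨x.a * y.b, x.b * y.a, !y.e⟩
  | false => ⟨x.a * y.a, x.b * y.b, y.e⟩⟩

instance : One Wr := ⟨⟨1, 1, false⟩⟩

instance : Inv Wr := ⟨fun x => match x.e with
  | true => ⟨x.b⁻¹, x.a⁻¹, true⟩
  | false => ⟨x.a⁻¹, x.b⁻¹, false⟩⟩

theorem mul_t (a b : DihedralGroup 4) (y : Wr) : (⟨a, b, true⟩ * y : Wr) = ⟨a * y.b, b * y.a, !y.e⟩ := rfl
theorem mul_f (a b : DihedralGroup 4) (y : Wr) : (⟨a, b, false⟩ * y : Wr) = ⟨a * y.a, b * y.b, y.e⟩ := rfl

instance : Group Wr := Group.ofLeftAxioms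
  (by
    rintro ⟨a, b, _ | _⟩ ⟨c, d, _ | _⟩ ⟨e, f, g⟩ <;>
      simp only [mul_t, mul_f, mul_assoc, Bool.not_true, Bool.not_false, Bool.not_not])
  (fun x => Wr.ext (one_mul _) (one_mul _) rfl)
  (by rintro ⟨a, b, _ | _⟩ <;> exact Wr.ext (inv_mul_cancel _) (inv_mul_cancel _) rfl)

/-- generators -/
def tt : Wr := ⟨sr 0, 1, false⟩
/-- generators -/
def ss : Wr := ⟨sr 1, 1, false⟩
/-- generators -/
def ff : Wr := ⟨1, 1, true⟩
/-- the conjugates of `tt` -/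
def B : Fin 4 → Wr := ![tt, ss * tt * ss, ff * tt * ff, ff * (ss * tt * ss) * ff]
/-- parity -/
def par : DihedralGroup 4 → Bool
  | r i => decide (i = 1 ∨ i = 3)
  | sr i => decide (i = 0 ∨ i = 2)
/-- a four-group -/
def Q (a : DihedralGroup 4) : Prop := a = 1 ∨ a = r 2 ∨ a = sr 1 ∨ a = sr 3

instance : DecidablePred Q := fun _ => inferInstanceAs (Decidable (_ ∨ _ ∨ _ ∨ _))

/-- an elementary abelian subgroup -/
def X3 : Subgroup Wr where
  carrier := {x | x.e = false ∧ Q x.a ∧ Q x.b}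
  mul_mem' := by
    have : ∀ a b, Q a → Q b → Q (a * b) := by decide +kernel
    rintro ⟨a, b, e⟩ ⟨c, d, f⟩ ⟨rfl, h1, h2⟩ ⟨h3, h4, h5⟩
    exact ⟨h3, this _ _ h1 h4, this _ _ h2 h5⟩
  one_mem' := ⟨rfl, .inl rfl, .inl rfl⟩
  inv_mem' := by
    have : ∀ a, Q a → Q a⁻¹ := by decide +kernel
    rintro ⟨a, b, e⟩ ⟨rfl, h1, h2⟩
    exact ⟨rfl, this _ h1, this _ h2⟩

/-- the kernel used for the transfer -/
def M : Subgroup Wr where
  carrier := {x | xor (par x.a) (par x.b) = x.e}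
  mul_mem' := by
    have : ∀ x y : Wr, xor (par x.a) (par x.b) = x.e → xor (par y.a) (par y.b) = y.e →
      xor (par (x * y).a) (par (x * y).b) = (x * y).e := by decide +kernel
    exact fun {x y} => this x y
  one_mem' := by show _ = _; decide
  inv_mem' := by
    have : ∀ x : Wr, xor (par x.a) (par x.b) = x.e → xor (par x⁻¹.a) (par x⁻¹.b) = x⁻¹.e := by
      decide +kernel
    exact fun {x} => this x

/-- the even part -/
def S0 : Subgroup Wr where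
  carrier := {x | par x.a = par x.b}
  mul_mem' := by
    have : ∀ x y : Wr, par x.a = par x.b → par y.a = par y.b → par (x * y).a = par (x * y).b := by
      decide +kernel
    exact fun {x y} => this x y
  one_mem' := rfl
  inv_mem' := by
    have : ∀ x : Wr, par x.a = par x.b → par x⁻¹.a = par x⁻¹.b := by decide +kernel
    exact fun {x} => this x

theorem auto : True := by
  have := @tt.eq_1; have := @ss.eq_1; have := @ff.eq_1; have := @B.eq_1; have := @par.eq_1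
  have := @par.eq_2; have := @par.eq_def; have := @Q.eq_1; have := @X3.eq_1; have := @M.eq_1
  have := @S0.eq_1
  trivial

theorem card_X3 : Nat.card X3 = 16 := by
  have : Fintype.card {x : Wr // x.e = false ∧ Q x.a ∧ Q x.b} = 16 := by decide +kernel
  rw [← this, ← Nat.card_eq_fintype_card]; rfl

theorem card_S0 : Nat.card S0 = 64 := by
  have : Fintype.card {x : Wr // par x.a = par x.b} = 64 := by decide +kernel
  rw [← this, ← Nat.card_eq_fintype_card]; rfl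

theorem isP : IsPGroup 2 Wr := fun x =>
  ⟨3, (by decide +kernel : ∀ x : Wr, x ^ 2 ^ 3 = 1) x⟩

theorem X3_sq : ∀ x ∈ X3, x * x = 1 ∧ x * (ss * (ff * ss * ff)) = ss * (ff * ss * ff) * x :=
  (by decide +kernel : ∀ x : Wr, x.e = false ∧ Q x.a ∧ Q x.b →
    x * x = 1 ∧ x * (ss * (ff * ss * ff)) = ss * (ff * ss * ff) * x)

theorem X3_ex : ∃ p q r : Wr, (p ∈ X3 ∧ q ∈ X3 ∧ r ∈ X3) ∧ (p ≠ q ∧ p ≠ r ∧ q ≠ r) ∧
    ∀ x, x = p ∨ x = q ∨ x = r ∨ x = p * q * r → ∃ y, x = y * (ss * (ff * ss * ff)) * y⁻¹ :=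
  ⟨⟨sr 1, sr 1, false⟩, ⟨sr 1, sr 3, false⟩, ⟨sr 3, sr 1, false⟩,
    ⟨⟨rfl, by decide, by decide⟩, ⟨rfl, by decide, by decide⟩, ⟨rfl, by decide, by decide⟩⟩,
    by decide, by decide +kernel⟩

theorem B_ind : ∀ i j k l, B i * B j * B k = B l → i = j ∨ i = k ∨ j = k := by decide +kernel

theorem B_cj : ∀ i, ∃ y, B i = y * tt * y⁻¹ := by decide +kernel

theorem B_M : ∀ i, B i ∉ M :=
  (by decide +kernel : ∀ i, ¬ xor (par (B i).a) (par (B i).b) = (B i).e)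

theorem cen : ∀ x : Wr, x * tt = tt * x → x * ss = ss * x → x * ff = ff * x →
    x = 1 ∨ x = B 0 * B 1 * (B 2 * B 3) := by decide +kernel

theorem invol : ∀ x : Wr, x.e = false → x * x = 1 →
    (∃ i j k l : Fin 2, x = B 0 ^ (i : ℕ) * B 1 ^ (j : ℕ) * B 2 ^ (k : ℕ) * B 3 ^ (l : ℕ)) ∨
    (∃ i j k l : Fin 2, x = B 0 ^ (i : ℕ) * B 1 ^ (j : ℕ) * (B 2 * B 3) ^ (k : ℕ) *
      (ff * ss * ff) ^ (l : ℕ)) ∨
    (∃ i j k l : Fin 2, ff * x * ff⁻¹ = B 0 ^ (i : ℕ) * B 1 ^ (j : ℕ) * (B 2 * B 3) ^ (k : ℕ) *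
      (ff * ss * ff) ^ (l : ℕ)) ∨ ∃ y, y * x * y⁻¹ = ss * (ff * ss * ff) := by decide +kernel

theorem fB : ∀ x : Wr, ff * x * ff⁻¹ = B 0 ∨ ff * x * ff⁻¹ = B 1 → ∃ i, x = B i := by decide +kernel

theorem out : ∀ x : Wr, x.e = true → x * x = 1 →
    x ∉ M ∧ ∃ y, x * (y * x * y⁻¹) ≠ y * x * y⁻¹ * x :=
  (by decide +kernel : ∀ x : Wr, x.e = true → x * x = 1 →
    ¬ xor (par x.a) (par x.b) = x.e ∧ ∃ y, x * (y * x * y⁻¹) ≠ y * x * y⁻¹ * x)

theorem tcomm : ∀ y : Wr, tt * (y * tt * y⁻¹) = y * tt * y⁻¹ * tt := by decide +kernel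

theorem M_two : ∀ x : Wr, x ∈ M ∨ x * tt ∈ M :=
  (by decide +kernel : ∀ x : Wr, xor (par x.a) (par x.b) = x.e ∨
    xor (par (x * tt).a) (par (x * tt).b) = (x * tt).e)

theorem S0_two : ∀ x : Wr, x ∈ S0 ∨ x * tt ∈ S0 :=
  (by decide +kernel : ∀ x : Wr, par x.a = par x.b ∨ par (x * tt).a = par (x * tt).b)

theorem S0_gen : B 0 * B 1 ∈ S0 ∧ B 0 * B 2 ∈ S0 ∧ ss ∈ S0 ∧ ff ∈ S0 :=
  ⟨by show _ = _; decide, by show _ = _; decide, by show _ = _; decide, by show _ = _; decide⟩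

theorem S0_nf : ∀ x ∈ S0, ∃ i j k l m n : Fin 2, x = ss ^ (i : ℕ) * (B 0 * B 1) ^ (j : ℕ) *
    (ff * (ss ^ (k : ℕ) * (B 0 * B 1) ^ (l : ℕ)) * ff) * (B 0 * B 2) ^ (m : ℕ) * ff ^ (n : ℕ) :=
  (by decide +kernel : ∀ x : Wr, par x.a = par x.b → ∃ i j k l m n : Fin 2,
    x = ss ^ (i : ℕ) * (B 0 * B 1) ^ (j : ℕ) *
    (ff * (ss ^ (k : ℕ) * (B 0 * B 1) ^ (l : ℕ)) * ff) * (B 0 * B 2) ^ (m : ℕ) * ff ^ (n : ℕ))

variable {G : Type*} [Group G]

theorem exists_hom {t σ f : G} (h1 : t * t = 1) (h2 : σ * σ = 1) (h3 : f * f = 1)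
    (h4 : (t * σ) ^ 4 = 1) (c1 : Commute t (f * t * f)) (c2 : Commute t (f * σ * f))
    (c3 : Commute σ (f * t * f)) (c4 : Commute σ (f * σ * f)) :
    ∃ φ : Wr →* G, φ tt = t ∧ φ ss = σ ∧ φ ff = f := by
  have fi : f⁻¹ = f := inv_eq_of_mul_eq_one_right h3
  have f2 : ∀ x, f * (f * x) = x := fun x => by rw [← mul_assoc, h3, one_mul]
  obtain ⟨ι, i1, i2, i3⟩ : ∃ ι : DihedralGroup 4 →* G, ι (sr 0) = t ∧ ι (sr 1) = σ ∧
      ∀ y, Commute t y → Commute σ y → ∀ a, Commute (ι a) y := by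
    refine ⟨H10.dihHom (t * σ) t h4 h1 (by
      rw [mul_inv_rev, ← mul_assoc, h1, one_mul, inv_eq_of_mul_eq_one_right h2]), ?_, ?_, ?_⟩
    · show t * (t * σ) ^ 0 = t
      rw [pow_zero, mul_one]
    · show t * (t * σ) ^ 1 = σ
      rw [pow_one, ← mul_assoc, h1, one_mul]
    · rintro y k1 k2 (i | i)
      · exact (k1.mul_left k2).pow_left _
      · exact k1.mul_left ((k1.mul_left k2).pow_left _)
  have sw : ∀ x y : G, Commute x (f * y * f) → Commute y (f * x * f) := fun x y k => by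
    have := k.conj f
    rwa [fi, show f * (f * y * f) * f = y by rw [mul_assoc, mul_assoc, h3, mul_one, f2],
      Commute.symm_iff] at this
  have cm : ∀ a b, Commute (ι a) (f * ι b * f) := fun a b =>
    i3 _ (sw _ _ (i3 _ c1 c3 b)) (sw _ _ (i3 _ c2 c4 b)) a
  let g : Wr → G := fun x => ι x.a * (f * ι x.b * f) * (match x.e with | true => f | false => 1)
  refine ⟨MonoidHom.mk' g ?_, ?_, ?_, ?_⟩
  · rintro ⟨a, b, _ | _⟩ ⟨c, d, e⟩
    · simp only [g, mul_f, map_mul, mul_one]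
      calc _ = ι a * (ι c * (f * ι b * f)) * (f * ι d * f) * _ := by simp only [mul_assoc, f2]; rfl
        _ = _ := by rw [(cm c b).eq]; simp only [mul_assoc]
    · simp only [g, mul_t, map_mul]
      calc _ = ι a * (ι d * (f * ι b * f)) * (f * ι c * f) * (f * match e with | true => f | false => 1) := by
            cases e <;> simp only [mul_assoc, f2, h3, mul_one, Bool.not_true, Bool.not_false]
        _ = ι a * (f * ι b * f) * f * (f * (ι d * (f * ι c * f)) * f) * _ := by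
            rw [(cm d b).eq]; simp only [mul_assoc, f2]; rfl
        _ = _ := by rw [(cm d c).eq]; simp only [mul_assoc, f2]
  · simp [g, tt, i1, h3]
  · simp [g, ss, i2, h3]
  · simp [g, ff, h3]

end H25.A7.SB1
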