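import Mathlib
import Cfsg.Agent.Lib.A7S.Cv
import Cfsg.Agent.Lib.StdA.Main
import Cfsg.Agent.Lib.A41.TB
import Cfsg.Agent.Lib.A41.TC
import Cfsg.Agent.S0892

/-! Rank two: the normaliser of the centre. -/

set_option autoImplicit false

namespace H25.A7

open Subgroup H69 H36.SW

variable {G : Type*} [Group G] [Finite G]
variable {A E : Subgroup G} {α : G → S7} {t : G}

theorem St.nz (s : St A α) (hA : Cfsg.IsStandardSubgroup A) (hZ : A ⊓ 𝐂(A) ≠ ⊥)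
    (h4 : ∃ p ∈ 𝐂(A), ∃ q ∈ 𝐂(A), p * p = 1 ∧ q * q = 1 ∧ p * q = q * p ∧ p ≠ 1 ∧ q ≠ 1 ∧ p ≠ q) :
    ∀ g ∈ 𝐍((A ⊓ 𝐂(A) : Subgroup G)), g ∈ 𝐍(A) := by
  have c := s.cov
  have h3 := (cenA c).resolve_left hZ
  set Z : Subgroup G := A ⊓ 𝐂(A) with hZ'
  have AN : A ≤ 𝐍(Z) := le_normalizer_of_le_centralizer (le_centralizer_iff.1 inf_le_right)
  have CN : 𝐂(A) ≤ 𝐍(Z) := le_normalizer_of_le_centralizer (centralizer_anti inf_le_left)
  obtain ⟨p, hp, q, hq, p2, q2, pq, p1, q1, ne⟩ := h4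
  have hs := H79.A4.std_sub hA AN hp (CN hp) p2 p1
  have f4 : H79.A4.Four 𝐂(A.subgroupOf 𝐍(Z)) :=
    H79.A4.four_sub AN ⟨p, ⟨hp, CN hp⟩, q, ⟨hq, CN hq⟩, p2, q2, pq, p1, q1, ne⟩
  have hW := H79.A4.core_le hs f4
  have ho : Odd (Nat.card (Cfsg.oddCore 𝐍(Z))) := H1.odd_card_oddCore
  have z3 : Nat.card (Z.subgroupOf 𝐍(Z)) = 3 := (card_subgroupOf le_normalizer).trans h3
  have ZW : Z.subgroupOf 𝐍(Z) ≤ Cfsg.oddCore 𝐍(Z) := le_sSup ⟨inferInstance, by rw [z3]; decide⟩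
  let f : A.subgroupOf 𝐍(Z) →* J7 :=
    MonoidHom.mk' (fun a => ⟨α a.1.1, c.mem _ a.2⟩) fun a b => Subtype.ext (c.mul' a.2 b.2)
  have fs : Function.Surjective f := fun j => by
    obtain ⟨a, ha, e⟩ := c.onto _ j.2
    exact ⟨⟨⟨a, AN ha⟩, ha⟩, Subtype.ext e⟩
  have fk : ((QuotientGroup.mk' (Cfsg.oddCore 𝐍(Z))).subgroupMap (A.subgroupOf 𝐍(Z))).ker = f.ker := by
    rw [Subgroup.ker_subgroupMap, QuotientGroup.ker_mk']
    ext a
    exact ⟨fun h => Subtype.ext (c.cen ((H79.A4.tb_memC AN).1 (hW h))),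
      fun h => ZW ⟨a.2, (c.ker _ (le_normalizer a.2)).1 (congrArg Subtype.val h)⟩⟩
  rcases H44.SA.main H79.A4.core_quot (H79.A4.std_quot hs ho hW) (n := 7) (by norm_num)
    ⟨(QuotientGroup.quotientKerEquivOfSurjective _
      ((QuotientGroup.mk' _).subgroupMap_surjective _)).symm.trans
      ((QuotientGroup.quotientMulEquivOfEq fk).trans (QuotientGroup.quotientKerEquivOfSurjective f fs))⟩
    (H79.A4.not_rank (H79.A4.four_quot ho f4)) with h | ⟨⟨e⟩⟩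
  · intro g hg
    exact (H79.A4.tb_memN AN (x := ⟨g, hg⟩)).1
      (normal_iff_top_le_normalizer.1 (H79.A4.normal_quot hs hW h) (mem_top _))
  · obtain ⟨σ, hσ, -, h1⟩ := H79.A4.stem_quot hs hW
    have h2 := Cfsg.Agent.S0892.result 11 (by norm_num) (by norm_num) (by norm_num) σ.ker hσ.2.1 hσ.2.2
      ((QuotientGroup.quotientKerEquivOfSurjective σ hσ.1).trans e)
    have h5 := Nat.le_of_dvd Nat.card_pos h1
    have h6 := card_le_of_le (le_inf (comap_mono inf_le_left) ZW :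
      Z.subgroupOf 𝐍(Z) ≤ A.subgroupOf 𝐍(Z) ⊓ Cfsg.oddCore 𝐍(Z))
    omega

end H25.A7
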