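import Mathlib
import Cfsg.Agent.Lib.A7S.Cv

/-! Rank two: the centre lies in a conjugate. -/

set_option autoImplicit false

namespace H25.A7

open Subgroup H69 H36.SW

variable {G : Type*} [Group G] [Finite G]
variable {A E : Subgroup G} {α : G → S7} {t : G}

namespace RC

set_option maxRecDepth 100000 in
theorem f1 : ∀ x : S7, x * pz = pz * x → x * pv2 = pv2 * x → x * x * x = 1 → x = 1 := by
  decide +kernel

theorem pzJ : pz ∈ J7 := by
  rw [Equiv.Perm.mem_alternatingGroup]; decide +kernel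

theorem pv2J : pv2 ∈ J7 := by
  rw [Equiv.Perm.mem_alternatingGroup]; decide +kernel

theorem rep {v : S7} (h : v * v = 1) :
    ∃ j ∈ J7, j * v * j⁻¹ * pz = pz * (j * v * j⁻¹) ∧ j * v * j⁻¹ * pv2 = pv2 * (j * v * j⁻¹) := by
  by_cases h1 : v = 1
  · exact ⟨1, one_mem _, by simp [h1], by simp [h1]⟩
  by_cases hJ : v ∈ J7
  · obtain ⟨j, hj, e⟩ := cls_inv hJ h h1
    exact ⟨j, hj, by rw [e], by rw [e]; decide +kernel⟩
  · obtain ⟨j, hj, e | e⟩ := cls_odd hJ h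
    · exact ⟨j, hj, by rw [e]; decide +kernel, by rw [e]; decide +kernel⟩
    · exact ⟨j, hj, by rw [e]; decide +kernel, by rw [e]; decide +kernel⟩

/-- an element of order dividing three which commutes with the even involutions of `C(v)` -/
theorem f2 {v x : S7} (h : v * v = 1) (h3 : x * x * x = 1)
    (c : ∀ w ∈ J7, w * w = 1 → v * w = w * v → x * w = w * x) : x = 1 := by
  obtain ⟨j, hj, e1, e2⟩ := rep h
  have key : ∀ w ∈ J7, w * w = 1 → j * v * j⁻¹ * w = w * (j * v * j⁻¹) →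
      j * x * j⁻¹ * w = w * (j * x * j⁻¹) := fun w hw w2 e => by
    have := c (j⁻¹ * w * j) (mul_mem (mul_mem (inv_mem hj) hw) hj)
      (by calc _ = j⁻¹ * (w * w) * j := by group
        _ = 1 := by rw [w2]; group)
      (by calc _ = j⁻¹ * (j * v * j⁻¹ * w) * j := by group
        _ = _ := by rw [e]; group)
    calc _ = j * (x * (j⁻¹ * w * j)) * j⁻¹ := by group
      _ = _ := by rw [this]; group
  have := f1 (j * x * j⁻¹) (key _ pzJ (by decide +kernel) e1) (key _ pv2J (by decide +kernel) e2)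
    (by calc _ = j * (x * x * x) * j⁻¹ := by group
      _ = 1 := by rw [h3]; group)
  calc x = j⁻¹ * (j * x * j⁻¹) * j := by group
    _ = 1 := by rw [this]; group

omit [Finite G] in
theorem zp3 {Z : Subgroup G} (h : Nat.card Z = 3) {x : G} (hx : x ∈ Z) (h1 : x ≠ 1) : zpowers x = Z := by
  haveI : Finite Z := Nat.finite_of_card_ne_zero (by omega)
  have hle : zpowers x ≤ Z := by simpa using hx
  have hd := card_dvd_of_le hle
  rw [h] at hd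
  rcases (Nat.dvd_prime Nat.prime_three).1 hd with e | e
  · rw [Nat.card_zpowers, orderOf_eq_one_iff] at e
    exact absurd e h1
  · exact eq_of_le_of_card_ge hle (by omega)

omit [Finite G] in
theorem cube {Z : Subgroup G} (h : Nat.card Z = 3) {x : G} (hx : x ∈ Z) : x * x * x = 1 := by
  have := pow_card_eq_one' (x := (⟨x, hx⟩ : Z))
  rw [h] at this
  have := congrArg Subtype.val this
  simpa [pow_succ] using this

/-- a four-group that centralises a given involution -/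
theorem four {K : Subgroup G} {k : G} (hk : k ∈ K) (k2 : k * k = 1)
    (h4 : ∃ p ∈ K, ∃ q ∈ K, p * p = 1 ∧ q * q = 1 ∧ p * q = q * p ∧ p ≠ 1 ∧ q ≠ 1 ∧ p ≠ q) :
    ∃ p ∈ K, ∃ q ∈ K, p * k = k * p ∧ q * k = k * q ∧
      p * p = 1 ∧ q * q = 1 ∧ p * q = q * p ∧ p ≠ 1 ∧ q ≠ 1 ∧ p ≠ q := by
  obtain ⟨p, hp, q, hq, p2, q2, c, p1, q1, pq⟩ := h4
  obtain ⟨S, hS, kS⟩ := exists_isSylowIn_le (P2.of_sq k2).zpowers (L := K) (by simpa using hk)
  replace kS : k ∈ S := kS (mem_zpowers k)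
  have hV : IsPGroup 2 (zpowers p ⊔ zpowers q : Subgroup G) :=
    isPGroup_sup_of_le_normalizer_right (P2.of_sq p2).zpowers (P2.of_sq q2).zpowers
      (le_normalizer_of_le_centralizer (by
        rw [centralizer_zpowers, zpowers_le, mem_centralizer_singleton_iff]; exact c))
  obtain ⟨g, hg, hV'⟩ := hS.exists_cj_le hV (sup_le (by simpa using hp) (by simpa using hq))
  have pS : g * p * g⁻¹ ∈ S := hV' (cj_mem g (mem_sup_left (mem_zpowers p)))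
  have qS : g * q * g⁻¹ ∈ S := hV' (cj_mem g (mem_sup_right (mem_zpowers q)))
  have Sb : S ≠ ⊥ := fun e => cjne p1 g (by rwa [e, mem_bot] at pS)
  obtain ⟨c0, hc, oc⟩ := exists_orderOf_eq_prime (hS.isP.to_inf_left) (center_ne_bot hS.isP Sb)
  have c2 : c0 * c0 = 1 := by rw [← pow_two, ← oc, pow_orderOf_eq_one]
  have c1 : c0 ≠ 1 := fun e => by rw [e, orderOf_one] at oc; omega
  by_cases e : k = 1 ∨ k = c0
  · have ck : ∀ x ∈ S, x * k = k * x := fun x hx => by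
      rcases e with e | e
      · simp [e]
      · rw [e]; exact hc.2 x hx
    refine ⟨_, hS.le pS, _, hS.le qS, ck _ pS, ck _ qS, cjsq p2 g, cjsq q2 g, ?_, cjne p1 g, cjne q1 g,
      fun e => pq (by simpa using e)⟩
    calc _ = g * (p * q) * g⁻¹ := by group
      _ = _ := by rw [c]; group
  · rw [not_or] at e
    exact ⟨k, hk, c0, hS.le hc.1, rfl, (hc.2 k kS).symm, k2, c2, hc.2 k kS, e.1, c1, e.2⟩

end RC

theorem St.cfg (s : St A α) (hZ : A ⊓ 𝐂(A) ≠ ⊥) (nz : ∀ g ∈ 𝐍((A ⊓ 𝐂(A) : Subgroup G)), g ∈ 𝐍(A))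
    (h4 : ∃ p ∈ 𝐂(A), ∃ q ∈ 𝐂(A), p * p = 1 ∧ q * q = 1 ∧ p * q = q * p ∧ p ≠ 1 ∧ q ≠ 1 ∧ p ≠ q)
    {g k : G} (hg : g ∉ 𝐍(A)) (k2 : k * k = 1) (k1 : k ≠ 1) (hk : k ∈ 𝐂(A ^ᶜ g)) (kN : k ∈ 𝐍(A))
    (kJ : α k ∈ J7) : A ⊓ 𝐂(A) ≤ A ^ᶜ g ∧ ∃ p ∈ 𝐂(A) ⊓ 𝐍(A ^ᶜ g), ∃ q ∈ 𝐂(A) ⊓ 𝐍(A ^ᶜ g),
      p * p = 1 ∧ q * q = 1 ∧ p * q = q * p ∧ p ≠ 1 ∧ q ≠ 1 ∧ p ≠ q := by
  obtain ⟨a, ha, k0, hk0, a2, k02, -, ek⟩ := dec_inner s.cov kN k2 kJ
  obtain ⟨p, hp, q, hq, pk, qk, p2, q2, c, p1, q1, pq⟩ := RC.four hk0 k02 h4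
  have sB := s.cj g
  have toB : ∀ x ∈ 𝐂(A), x * k0 = k0 * x → x ∈ 𝐍(A ^ᶜ g) := fun x hx e =>
    sB.CN k2 k1 hk (by rw [ek, ← mul_assoc, e, mul_assoc, ← hx a ha, mul_assoc])
  have pB := toB p hp pk
  refine ⟨?_, p, ⟨hp, pB⟩, q, ⟨hq, toB q hq qk⟩, p2, q2, c, p1, q1, pq⟩
  have h3 := (cenA s.cov).resolve_left hZ
  by_contra hn
  obtain ⟨ζ, hζ, ζB⟩ := SetLike.not_le_iff_exists.1 hn
  have ζ1 : ζ ≠ 1 := fun e => ζB (e ▸ one_mem _)
  have ζN : ζ ∈ 𝐍(A ^ᶜ g) := toB ζ hζ.2 (hk0 ζ hζ.1)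
  have triv : ∀ x ∈ A ⊓ 𝐂(A), x ∈ A ^ᶜ g → x = 1 := fun x hx xB => by
    by_contra x1
    exact hn (RC.zp3 h3 hx x1 ▸ by simpa using xB)
  have hβ : α (g⁻¹ * ζ * g) = 1 := by
    refine RC.f2 (sB.cov.sq pB p2) ?_ fun w hw w2 e => ?_
    · have e1 := sB.cov.mul _ (mul_mem ζN ζN) _ ζN
      have e2 := sB.cov.mul _ ζN _ ζN
      have e3 := sB.cov.one
      rw [← e2, ← e1, RC.cube h3 hζ, e3]
    · obtain ⟨b, hb, rfl, b2⟩ := sB.cov.lifti hw w2
      have pb := sB.cov.comm_lift pB hb (P2.of_sq b2) e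
      have bN := s.CN p2 p1 hp pb.symm
      have h1 : b * ζ * b⁻¹ * ζ⁻¹ = 1 := triv _
        (mul_mem ⟨conj_mem_of_mem_normalizer bN hζ.1,
          conj_mem_of_mem_normalizer (normalizer_le_normalizer_centralizer A bN) hζ.2⟩ (inv_mem hζ))
        (by rw [mul_assoc b, mul_assoc b]
            exact mul_mem hb (conj_mem_of_mem_normalizer ζN (inv_mem hb)))
      refine sB.cov.comm ζN (le_normalizer hb) ?_
      calc ζ * b = (b * ζ * b⁻¹ * ζ⁻¹)⁻¹ * (b * ζ) := by group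
        _ = _ := by rw [h1]; group
  have ζC : ζ ∈ 𝐂(A ^ᶜ g) := (sB.cov.ker ζ ζN).1 hβ
  refine s.not_le hg k2 k1 hk kN fun b hb => nz b ?_
  rw [← RC.zp3 h3 hζ ζ1]
  refine centralizer_le_normalizer _ ?_
  rw [centralizer_zpowers, mem_centralizer_singleton_iff]
  exact ζC b hb

end H25.A7
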