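import Mathlib
import Cfsg.Agent.Lib.A7S.Cv

/-! Rank two: the contradiction. -/

set_option autoImplicit false

namespace H25.A7

open Subgroup H69 H36.SW

open Equiv in
theorem rd_px {a : S7} (h2 : a * a = 1) (hc : a * px = px * a) :
    a ∈ [1, pz, pv1, pz * pv1, swap 0 1, swap 0 2, swap 0 3, swap 1 2, swap 1 3, swap 2 3] := by
  have e : ∀ i, a (px i) = px (a i) := DFunLike.congr_fun hc
  have e2 : ∀ i, a (a i) = i := DFunLike.congr_fun h2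
  have key : ∀ x4 : Fin 7, px x4 = x4 ∨ ∀ x0 x1 x2 x3 : Fin 7, (fun f : Fin 7 → Fin 7 => (∀ i, f (f i) = i) →
      ∃ b ∈ [1, pz, pv1, pz * pv1, swap 0 1, swap 0 2, swap 0 3, swap 1 2, swap 1 3, swap 2 3], ∀ i, f i = b i)
      ![x0, x1, x2, x3, x4, px x4, px (px x4)] := by
    decide +kernel
  have f : ⇑a = ![a 0, a 1, a 2, a 3, a 4, px (a 4), px (px (a 4))] := by
    funext i
    fin_cases i
    exacts [rfl, rfl, rfl, rfl, rfl, e 4, (e 5).trans (congrArg px (e 4))]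
  have k := (key (a 4)).resolve_left (fun k => absurd (a.injective ((e 4).trans k)) (by decide))
    (a 0) (a 1) (a 2) (a 3)
  rw [← f] at k
  obtain ⟨b, hb, k⟩ := k e2
  rwa [Equiv.ext k]

open Equiv in
theorem rd_py {a : S7} (h2 : a * a = 1) (hc : a * py2 = py2 * a) :
    a ∈ [1, swap 0 1 * swap 4 5 * swap 2 3, swap 0 5 * swap 4 3 * swap 2 1, swap 0 3 * swap 4 1 * swap 2 5] := by
  have e : ∀ i, a (py2 i) = py2 (a i) := DFunLike.congr_fun hc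
  have e2 : ∀ i, a (a i) = i := DFunLike.congr_fun h2
  have key : ∀ x0 x1 x6 : Fin 7, (fun f : Fin 7 → Fin 7 => (∀ i, f (f i) = i) →
      ∃ b ∈ [(1 : S7), swap 0 1 * swap 4 5 * swap 2 3, swap 0 5 * swap 4 3 * swap 2 1,
        swap 0 3 * swap 4 1 * swap 2 5], ∀ i, f i = b i)
      ![x0, x1, py2 (py2 x0), py2 (py2 x1), py2 x0, py2 x1, x6] := by
    decide +kernel
  have f : ⇑a = ![a 0, a 1, py2 (py2 (a 0)), py2 (py2 (a 1)), py2 (a 0), py2 (a 1), a 6] := by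
    funext i
    fin_cases i
    exacts [rfl, rfl, (e 4).trans (congrArg py2 (e 0)), (e 5).trans (congrArg py2 (e 1)), e 0, e 1, rfl]
  have k := key (a 0) (a 1) (a 6)
  rw [← f] at k
  obtain ⟨b, hb, k⟩ := k e2
  rwa [Equiv.ext k]
theorem rd_four {a b : S7} (a2 : a * a = 1) (b2 : b * b = 1) (c : a * b = b * a) (h1 : a * py2 = py2 * a)
    (h2 : b * py2 = py2 * b) : a = 1 ∨ b = 1 ∨ a = b := by
  have ha := rd_py a2 h1
  have hb := rd_py b2 h2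
  revert a2 b2 h1 h2 c
  revert ha hb
  generalize a = a, b = b
  revert b
  revert a
  simp only [List.mem_cons, List.not_mem_nil, or_false]
  rintro a b (rfl | rfl | rfl | rfl) (rfl | rfl | rfl | rfl) <;> decide

theorem rd_odd {a : S7} (h2 : a * a = 1) (hc : a * px = px * a) : a = 1 ∨ (a = pz ∨ a = pv1 ∨ a = pz * pv1) ∨
    ∃ w ∈ J7, w * w = 1 ∧ a * w = w * a ∧ w * px * w⁻¹ ≠ 1 ∧ w * px * w⁻¹ ≠ px ∧ w * px * w⁻¹ ≠ px * px := by
  have := rd_px h2 hc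
  simp only [List.mem_cons, List.not_mem_nil, or_false] at this
  rcases this with h | h | h | h | rfl | rfl | rfl | rfl | rfl | rfl
  · exact .inl h
  · exact .inr (.inl (.inl h))
  · exact .inr (.inl (.inr (.inl h)))
  · exact .inr (.inl (.inr (.inr h)))
  all_goals right; right
  · exact ⟨Equiv.swap 2 4 * Equiv.swap 3 5, by simp [Equiv.Perm.mem_alternatingGroup], by decide⟩
  · exact ⟨Equiv.swap 1 4 * Equiv.swap 3 5, by simp [Equiv.Perm.mem_alternatingGroup], by decide⟩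
  · exact ⟨Equiv.swap 1 4 * Equiv.swap 2 5, by simp [Equiv.Perm.mem_alternatingGroup], by decide⟩
  · exact ⟨Equiv.swap 0 4 * Equiv.swap 3 5, by simp [Equiv.Perm.mem_alternatingGroup], by decide⟩
  · exact ⟨Equiv.swap 0 4 * Equiv.swap 2 5, by simp [Equiv.Perm.mem_alternatingGroup], by decide⟩
  · exact ⟨Equiv.swap 0 4 * Equiv.swap 1 5, by simp [Equiv.Perm.mem_alternatingGroup], by decide⟩

variable {G : Type*} [Group G] [Finite G]
variable {A E : Subgroup G} {α : G → S7} {t : G}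

theorem rd_three {Z : Subgroup G} (h : Nat.card Z = 3) {x y : G} (hx : x ∈ Z) (x1 : x ≠ 1) (hy : y ∈ Z) :
    x ^ 3 = 1 ∧ (y = 1 ∨ y = x ∨ y = x * x) := by
  have : Fact (Nat.Prime 3) := ⟨Nat.prime_three⟩
  have x3 : x ^ 3 = 1 := orderOf_dvd_iff_pow_eq_one.1 (h ▸ orderOf_dvd_natCard Z hx)
  have o := orderOf_eq_prime x3 x1
  rw [← eq_of_le_of_card_ge (zpowers_le.2 hx) (by rw [h, Nat.card_zpowers, o])] at hy
  obtain ⟨n, rfl⟩ := (mem_powers_iff_mem_zpowers.2 hy)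
  refine ⟨x3, ?_⟩
  simp only
  rw [← pow_mod_orderOf, o]
  have := Nat.mod_lt n three_pos
  generalize n % 3 = m at *
  interval_cases m <;> simp [pow_two]

theorem rd_core (s : St A α) (hZ : A ⊓ 𝐂(A) ≠ ⊥) {B : Subgroup G} {β : G → S7} (sB : St B β) {x : G}
    (xA : x ∈ A) (xB : x ∈ B ⊓ 𝐂(B)) (ex : α x = px) (hk : ∀ k ∈ 𝐂(B), k * k = 1 → k ∈ 𝐂(A) → k = 1)
    {p q : G} (hp : p ∈ 𝐂(B) ⊓ 𝐍(A)) (hq : q ∈ 𝐂(B) ⊓ 𝐍(A)) (p2 : p * p = 1) (q2 : q * q = 1)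
    (c : p * q = q * p) (p1 : p ≠ 1) (q1 : q ≠ 1) (pq : p ≠ q) : False := by
  have cv := s.cov
  have x1 : x ≠ 1 := fun e => by rw [e, cv.one] at ex; revert ex; decide
  have h3 := (cenA sB.cov).resolve_left fun e => x1 (mem_bot.1 (e ▸ xB))
  have F1 : ∀ {w}, w ∈ 𝐍(B) → w * x * w⁻¹ = 1 ∨ w * x * w⁻¹ = x ∨ w * x * w⁻¹ = x * x := fun hw =>
    (rd_three h3 xB x1 (conj_mem_of_mem_normalizer
      (le_normalizer_inf le_rfl (normalizer_le_normalizer_centralizer B) hw) xB)).2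
  have F2 : ∀ {v}, v ∈ 𝐂(B) ⊓ 𝐍(A) → v * v = 1 → v ≠ 1 → α v = pz ∨ α v = pv1 ∨ α v = pz * pv1 := by
    intro v hv v2 v1
    rcases rd_odd (cv.sq hv.2 v2) (ex ▸ cv.comm hv.2 (le_normalizer xA) (hv.1 x xB.1).symm) with
      e | e | ⟨w, hw, w2, cw, h1, h2, h4⟩
    · exact absurd (hk v hv.1 v2 ((cv.ker v hv.2).1 e)) v1
    · exact e
    obtain ⟨w, wA, rfl, w3⟩ := cv.lifti hw w2
    rw [← ex, ← cv.conj (le_normalizer wA) (le_normalizer xA)] at h1 h2 h4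
    rcases F1 (sB.CN v2 v1 hv.1 (cv.comm_lift hv.2 wA (.of_sq w3) cw).symm) with e | e | e <;> rw [e] at h1 h2 h4
    exacts [absurd cv.one h1, absurd rfl h2, absurd (cv.mul' xA xA) h4]
  have L : ∀ {v v'}, v ∈ 𝐂(B) ⊓ 𝐍(A) → v * v = 1 → v ≠ 1 → v' ∈ 𝐂(B) ⊓ 𝐍(A) → v' * v' = 1 → ∀ w ∈ J7, w * w = 1 →
      α v * w = w * α v → ∀ u : S7, u * u = 1 → w * α v' * w⁻¹ * α v' = u →
      ∃ a ∈ A, a ∈ 𝐂(B) ∧ a * a = 1 ∧ α a = u := by
    intro v v' hv v2 v1 hv' v2' w hw w2 cw u u2 e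
    obtain ⟨w, wA, rfl, w3⟩ := cv.lifti hw w2
    have wN := sB.CN v2 v1 hv.1 (cv.comm_lift hv.2 wA (.of_sq w3) cw).symm
    have m1 : w * v' * w⁻¹ * v' ∈ 𝐂(B) :=
      mul_mem (conj_mem_of_mem_normalizer (normalizer_le_normalizer_centralizer B wN) hv'.1) hv'.1
    have m2 : w * v' * w⁻¹ * v' ∈ A := by
      have := mul_mem wA (conj_mem_of_mem_normalizer hv'.2 (inv_mem wA))
      rwa [inv_eq_of_mul_eq_one_left v2', ← mul_assoc, ← mul_assoc] at this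
    rw [← cv.conj (le_normalizer wA) hv'.2, ← cv.mul _ (mul_mem (mul_mem (le_normalizer wA) hv'.2)
      (inv_mem (le_normalizer wA))) _ hv'.2] at e
    obtain ⟨m, hm, m3⟩ := exists_odd_P2 (w * v' * w⁻¹ * v')
    have e' : α ((w * v' * w⁻¹ * v') ^ m) = u := by rw [cv.pow (le_normalizer m2), e, pow_odd_of_sq u2 hm]
    refine ⟨_, pow_mem m2 m, pow_mem m1 m, ?_, e'⟩
    rw [← pow_two]
    exact cv.pow_eq_one (pow_mem m2 m) m3 (by rw [e', pow_two, u2])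
  have pq2 : p * q * (p * q) = 1 := by rw [mul_assoc, ← mul_assoc q, ← c, mul_assoc, q2, mul_one, p2]
  have pq1 : p * q ≠ 1 := fun e => pq (by rw [eq_inv_of_mul_eq_one_left e, inv_eq_of_mul_eq_one_left q2])
  have hpq := mul_mem hp hq
  have e := cv.mul p hp.2 q hq.2
  have k : ∀ u : S7, u = pz ∨ u = pv1 → ∃ v ∈ 𝐂(B) ⊓ 𝐍(A), v * v = 1 ∧ v ≠ 1 ∧ α v = u := fun u hu => by
    have : α p = u ∨ α q = u ∨ α (p * q) = u := by
      have h3 := F2 hpq pq2 pq1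
      rw [e] at h3 ⊢
      rcases F2 hp p2 p1 with h1 | h1 | h1 <;> rcases F2 hq q2 q1 with h2 | h2 | h2 <;> rw [h1, h2] at h3 ⊢ <;>
        revert h3 <;> rcases hu with rfl | rfl <;> decide
    rcases this with h | h | h
    exacts [⟨p, hp, p2, p1, h⟩, ⟨q, hq, q2, q1, h⟩, ⟨_, hpq, pq2, pq1, h⟩]
  obtain ⟨v, hv, v2, v1, ev⟩ := k pz (.inl rfl)
  obtain ⟨v', hv', v2', v1', ev'⟩ := k pv1 (.inr rfl)
  obtain ⟨a, aA, aB, a2, ea⟩ := L hv v2 v1 hv' v2' pv2 (by simp [pv2, Equiv.Perm.mem_alternatingGroup])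
    (by decide) (by rw [ev]; decide) pz (by decide) (by rw [ev']; decide)
  obtain ⟨b, bA, bB, b2, eb⟩ := L hv' v2' v1' hv v2 (Equiv.swap 0 2 * Equiv.swap 4 5)
    (by simp [Equiv.Perm.mem_alternatingGroup]) (by decide) (by rw [ev']; decide) pv1 (by decide)
    (by rw [ev]; decide)
  obtain ⟨y, yA, ey⟩ := cv.onto py1 (by simp [py1, Equiv.Perm.mem_alternatingGroup])
  have yN := sB.ti y a a2 (fun e => by rw [e, cv.one] at ea; revert ea; decide) aB (by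
    rwa [cv.conj_eq (le_normalizer yA) aA bA (.of_sq a2) (.of_sq b2) (by rw [ey, ea, eb]; decide)])
  have f := cv.conj (le_normalizer yA) (le_normalizer xA)
  rcases F1 yN with e | e | e
  · rw [e, cv.one, ey, ex] at f; revert f; decide
  · exact ncomm3 cv hZ xA yA ex ey (mul_inv_eq_iff_eq_mul.1 e).symm
  · rw [e, cv.mul' xA xA, ey, ex] at f; revert f; decide

theorem St.kill (s : St A α) (hZ : A ⊓ 𝐂(A) ≠ ⊥) (nz : ∀ g ∈ 𝐍((A ⊓ 𝐂(A) : Subgroup G)), g ∈ 𝐍(A))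
    {g p q : G} (hg : g ∉ 𝐍(A)) (h : (A ⊓ 𝐂(A)) ^ᶜ g ≤ A) (hp : p ∈ 𝐂(A ^ᶜ g) ⊓ 𝐍(A))
    (hq : q ∈ 𝐂(A ^ᶜ g) ⊓ 𝐍(A)) (p2 : p * p = 1) (q2 : q * q = 1) (c : p * q = q * p) (p1 : p ≠ 1)
    (q1 : q ≠ 1) (pq : p ≠ q) : False := by
  have cv := s.cov
  have h3 := (cenA cv).resolve_left hZ
  obtain ⟨⟨z, hz⟩, z1⟩ := (ne_bot_iff_exists_ne_one.1 hZ)
  replace z1 : z ≠ 1 := fun e => z1 (Subtype.ext e)
  have xZ := cj_mem g hz
  have xA := h xZ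
  have x1 := cjne z1 g
  have x3 := (rd_three ((card_cj _ g).trans h3) xZ x1 xZ).1
  have a1 : α (g * z * g⁻¹) ≠ 1 := fun e => hg (nz g (mem_normalizer_of_cj_le fun y hy => ?_))
  swap
  · have m : g * z * g⁻¹ ∈ A ⊓ 𝐂(A) := ⟨xA, (cv.ker _ (le_normalizer xA)).1 e⟩
    rcases (rd_three ((card_cj _ g).trans h3) xZ x1 hy).2 with rfl | rfl | rfl
    exacts [one_mem _, m, mul_mem m m]
  obtain ⟨j, hj, e⟩ := cls_three (by rw [← cv.pow (le_normalizer xA), x3, cv.one]) a1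
  obtain ⟨j, jA, rfl⟩ := cv.onto j hj
  have jN := le_normalizer jA
  rw [← cv.conj jN (le_normalizer xA)] at e
  have k : ∀ {v}, v ∈ 𝐂(A ^ᶜ g) ⊓ 𝐍(A) → j * v * j⁻¹ ∈ 𝐂(A ^ᶜ (j * g)) ⊓ 𝐍(A) := fun hv =>
    ⟨by rw [← cj_cj, ← cj_centralizer]; exact cj_mem j hv.1, (𝐍(A)).mul_mem (mul_mem jN hv.2) (inv_mem jN)⟩
  have xB : j * (g * z * g⁻¹) * j⁻¹ ∈ A ^ᶜ (j * g) ⊓ 𝐂(A ^ᶜ (j * g)) := by
    rw [← cj_centralizer, ← cj_inf, ← cj_cj]; exact cj_mem j xZ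
  have xA' := mul_mem (mul_mem jA xA) (inv_mem jA)
  have hk : ∀ k ∈ 𝐂(A ^ᶜ (j * g)), k * k = 1 → k ∈ 𝐂(A) → k = 1 := fun k h1 h2 h3 => by_contra fun k1 =>
    hg ((mul_mem_cancel_left jN).1 (s.eq_of h2 k1 h3 h1))
  have c' : j * p * j⁻¹ * (j * q * j⁻¹) = j * q * j⁻¹ * (j * p * j⁻¹) := by rw [conj_mul, c, conj_mul]
  have pq' : j * p * j⁻¹ ≠ j * q * j⁻¹ := fun e => pq (by simpa using e)
  rcases e with e | e
  · exact rd_core s hZ (s.cj (j * g)) xA' xB e hk (k hp) (k hq) (cjsq p2 j) (cjsq q2 j) c' (cjne p1 j) (cjne q1 j)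
      pq'
  have f : ∀ {v}, v ∈ 𝐂(A ^ᶜ (j * g)) ⊓ 𝐍(A) → α v * py2 = py2 * α v := fun hv =>
    e ▸ cv.comm hv.2 (le_normalizer xA') (hv.1 _ xB.1).symm
  rcases rd_four (cv.sq (k hp).2 (cjsq p2 j)) (cv.sq (k hq).2 (cjsq q2 j)) (cv.comm (k hp).2 (k hq).2 c')
    (f (k hp)) (f (k hq)) with e | e | e
  · exact cjne p1 j (hk _ (k hp).1 (cjsq p2 j) ((cv.ker _ (k hp).2).1 e))
  · exact cjne q1 j (hk _ (k hq).1 (cjsq q2 j) ((cv.ker _ (k hq).2).1 e))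
  · refine pq' (inv_mul_eq_one.1 (hk _ (mul_mem (inv_mem (k hp).1) (k hq).1) ?_
      (cv.inv_mul_mem (k hp).2 (k hq).2 e)))
    rw [inv_eq_of_mul_eq_one_left (cjsq p2 j), (show Commute _ _ from c').symm.mul_mul_mul_comm, cjsq q2 j,
      cjsq p2 j, mul_one]

end H25.A7
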