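import Mathlib
import Cfsg.Agent.Lib.A7S.RA
import Cfsg.Agent.Lib.A7S.RB
import Cfsg.Agent.Lib.A7S.RC
import Cfsg.Agent.Lib.A7S.RD
import Cfsg.Agent.Lib.ZD.BW
import Cfsg.Agent.Lib.Core.PCore
import Cfsg.Agent.Lib.Comp.Component

/-! Standard subgroups of type `A₇`: reductions. -/

set_option autoImplicit false

namespace H25.A7

open Subgroup H69 H36.SW
open scoped commutatorElement

variable {G : Type*} [Group G] [Finite G] {A E : Subgroup G} {α : G → S7} {t : G}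

omit [Finite G] in
theorem prod_equiv {X Y : Subgroup G} (hc : ∀ a ∈ X, ∀ b ∈ Y, a * b = b * a)
    (hd : X ⊓ Y = ⊥) : Nonempty (↥(X ⊔ Y) ≃* X × Y) := by
  let f := X.subtype.noncommCoprod Y.subtype fun a b => hc a a.2 b b.2
  have hf : Function.Injective f := mul_injective_of_disjoint (disjoint_iff.2 hd)
  have hr : f.range = X ⊔ Y :=
    (MonoidHom.noncommCoprod_range ..).trans (by rw [range_subtype, range_subtype])
  exact ⟨(MulEquiv.subgroupCongr hr.symm).trans (MonoidHom.ofInjective hf).symm⟩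

omit [Finite G] in
theorem cen_bot (hO : Cfsg.oddCore G = ⊥) (hA : Cfsg.IsStandardSubgroup A) (hnA : ¬ A.Normal)
    [E.Normal] (h1 : A ≤ E) {c : G} (hc : c ∈ 𝐂(E)) : c = 1 := by
  obtain ⟨g, hg⟩ : ∃ g, g ∉ normalizer (A : Set G) := by
    by_contra k
    exact hnA (normalizer_eq_top_iff.1 (eq_top_iff.2 fun g _ => not_not.1 fun e => k ⟨g, e⟩))
  have hC : centralizer (E : Set G) ≤ centralizer (A : Set G) := centralizer_le h1
  have ho := (hA.2.1.2 g (hA.2.2.2 ▸ hg)).of_dvd_nat (card_dvd_of_le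
    (H := centralizer (E : Set G)) (le_inf hC fun x hx =>
      ⟨g⁻¹ * x * g, hC (Normal.conj_mem' inferInstance x hx g), by simp [mul_assoc]⟩))
  have : c ∈ Cfsg.oddCore G := H1.le_oddCore ho hc
  rwa [hO, mem_bot] at this

omit [Finite G] in
theorem exists_dl {Y : Subgroup G} (t2 : t * t = 1)
    (comm : ∀ a ∈ Y, ∀ b ∈ Y, a * (t * b * t) = t * b * t * a) :
    ∃ δ : Y →* G, ∀ y : Y, δ y = y * (t * y * t) := by
  refine ⟨MonoidHom.mk' (fun y => y * (t * y * t)) fun a b => ?_, fun _ => rfl⟩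
  have := comm b b.2 a a.2
  simp only [coe_mul]
  calc (a : G) * b * (t * (a * b) * t) = a * (b * (t * a * t)) * (t * b * t) := by
        simp only [mul_assoc]; rw [← mul_assoc t t, t2, one_mul]
    _ = a * (t * a * t) * (b * (t * b * t)) := by rw [this]; simp only [mul_assoc]

/-- the wreathed case -/
theorem wreath_ncl {X : Subgroup G} (t2 : t * t = 1) (tC : t ∈ 𝐂(A))
    (CN : ∀ g, g * t = t * g → g ∈ 𝐍(A)) (hs : IsSimpleGroup X) (hna : ¬ IsMulCommutative X)
    (e : X ≃* A) (hc : ∀ a ∈ X, ∀ b ∈ X ^ᶜ t, a * b = b * a) (hi : X ⊓ X ^ᶜ t = ⊥)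
    (hE : X ⊔ X ^ᶜ t = E) (En : E.Normal) (hC : 𝐂(A) = zpowers t) : normalClosure (A : Set G) = E := by
  have ti : t⁻¹ = t := inv_eq_of_mul_eq_one_right t2
  have mem : ∀ b ∈ X, t * b * t ∈ X ^ᶜ t := fun b hb => by
    have := cj_mem t hb
    rwa [ti] at this
  have comm : ∀ a ∈ X, ∀ b ∈ X, a * (t * b * t) = t * b * t * a :=
    fun a ha b hb => hc a ha _ (mem b hb)
  have triv : ∀ a ∈ X, a ∈ X ^ᶜ t → a = 1 := fun a ha hb => by
    have : a ∈ X ⊓ X ^ᶜ t := ⟨ha, hb⟩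
    rwa [hi, mem_bot] at this
  obtain ⟨δ, hδ⟩ := exists_dl t2 comm
  have nab : (∀ x y : X, x * y = y * x) → False := fun c => hna ⟨⟨c⟩⟩
  have inj : Function.Injective δ := by
    refine (injective_iff_map_eq_one δ).2 fun y hy => Subtype.ext (triv _ y.2 ?_)
    rw [hδ, mul_eq_one_iff_eq_inv] at hy
    rw [hy]
    exact inv_mem (mem _ y.2)
  have ct : ∀ y, δ y * t = t * δ y := fun y => by
    rw [hδ]
    calc (y : G) * (t * y * t) * t = t * t * (y * t * y) := by
          rw [mul_assoc, mul_assoc _ t t, t2, mul_one, one_mul, mul_assoc]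
      _ = t * (t * y * t * y) := by simp only [mul_assoc]
      _ = t * (y * (t * y * t)) := by rw [comm _ y.2 _ y.2]
  have dE : ∀ y, δ y ∈ E := fun y => by
    rw [← hE, hδ]
    exact mul_mem (mem_sup_left y.2) (mem_sup_right (mem _ y.2))
  have fix : ∀ x ∈ E, x * t = t * x → x ∈ δ.range := by
    intro x hx c
    rw [← hE, mem_sup_of_le_normalizer_left (le_normalizer_of_le_centralizer fun b hb =>
      mem_centralizer_iff_commute.2 fun a ha => hc a ha b hb)] at hx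
    obtain ⟨a, ha, b0, hb0, rfl⟩ := hx
    obtain ⟨b, hb, rfl⟩ := mem_cj'.1 hb0
    rw [ti] at c ⊢
    have e1 : a * (t * b * t) = b * (t * a * t) := by
      rw [comm b hb a ha]
      calc a * (t * b * t) = t * t * (a * (t * b * t)) := by rw [t2, one_mul]
        _ = t * (a * (t * b * t) * t) := by rw [c, mul_assoc]
        _ = t * a * t * b * (t * t) := by simp only [mul_assoc]
        _ = t * a * t * b := by rw [t2, mul_one]
    have e2 : b⁻¹ * a = t * (a * b⁻¹) * t := by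
      calc b⁻¹ * a = b⁻¹ * (a * (t * b * t)) * (t * b * t)⁻¹ := by group
        _ = t * a * t * (t⁻¹ * b⁻¹ * t⁻¹) := by rw [e1]; group
        _ = t * (a * b⁻¹) * t⁻¹ := by group
        _ = t * (a * b⁻¹) * t := by rw [ti]
    have e3 := triv _ (mul_mem (inv_mem hb) ha) (e2 ▸ mem _ (mul_mem ha (inv_mem hb)))
    rw [inv_mul_eq_one] at e3
    subst e3
    exact ⟨⟨b, hb⟩, hδ _⟩
  have nA : (A.comap δ).Normal := ⟨fun y hy x => by
    rw [mem_comap, map_mul, map_mul, map_inv]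
    exact conj_mem_of_mem_normalizer (CN _ (ct x)) hy⟩
  have DA : δ.range ≤ A := by
    rcases nA.eq_bot_or_eq_top with e0 | e0
    · exfalso
      have hz : ∀ y, δ y ∈ zpowers t := fun y => by
        rw [← hC]
        refine mem_centralizer_iff_commute.2 fun a ha => ?_
        have c : a * t = t * a := mem_centralizer_iff_commute.1 tC a ha
        obtain ⟨w, hw⟩ := fix (a * δ y * a⁻¹) (En.conj_mem _ (dE y) a) (by
          calc a * δ y * a⁻¹ * t = a * δ y * (t * a⁻¹) := by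
                rw [mul_assoc _ a⁻¹, show a⁻¹ * t = t * a⁻¹ from (Commute.inv_left c).eq]
            _ = a * (δ y * t) * a⁻¹ := by group
            _ = t * (a * δ y * a⁻¹) := by rw [ct, ← mul_assoc, c]; group)
        have : w * y⁻¹ ∈ A.comap δ := by
          rw [mem_comap, map_mul, map_inv, hw]
          have := mul_mem ha (conj_mem_of_mem_normalizer (CN _ (ct y)) (inv_mem ha))
          simpa only [mul_assoc] using this
        rw [e0, mem_bot, mul_inv_eq_one] at this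
        rw [this] at hw
        rw [← mul_inv_eq_iff_eq_mul, ← hw]
      refine nab fun x y => inj ?_
      obtain ⟨i, hi⟩ := hz x
      obtain ⟨j, hj⟩ := hz y
      rw [map_mul, map_mul, ← hi, ← hj]
      exact (zpow_mul_comm t i j)
    · rintro _ ⟨y, rfl⟩
      exact (show y ∈ A.comap δ from e0 ▸ mem_top y)
  have DA' : δ.range = A := by
    refine eq_of_le_of_card_ge DA ?_
    rw [← Nat.card_congr e.toEquiv, Nat.card_congr (MonoidHom.ofInjective inj).toEquiv]
  have XN : X ≤ normalClosure (A : Set G) := by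
    rcases (normalClosure_normal.comap X.subtype (H := normalClosure (A : Set G))).eq_bot_or_eq_top
      with e0 | e0
    · exfalso
      refine nab fun x y => ?_
      have : ⁅x, y⁆ ∈ (normalClosure (A : Set G)).comap X.subtype := by
        have h1 : δ x ∈ normalClosure (A : Set G) := le_normalClosure (DA ⟨x, rfl⟩)
        have h2 := mul_mem h1 (normalClosure_normal.conj_mem _ (inv_mem h1) y)
        have h3 : δ x * (y * (δ x)⁻¹ * (y : G)⁻¹) = (⁅x, y⁆ : X) := by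
          have := comm _ y.2 _ x.2
          rw [hδ, commutatorElement_def]
          simp only [coe_mul, coe_inv]
          calc (x : G) * (t * x * t) * (y * (x * (t * x * t))⁻¹ * (y : G)⁻¹)
              = x * (t * x * t * y) * (t * x * t)⁻¹ * (x : G)⁻¹ * (y : G)⁻¹ := by group
            _ = x * y * (x : G)⁻¹ * (y : G)⁻¹ := by rw [← this]; group
        rwa [h3] at h2
      rw [e0, mem_bot] at this
      exact commutatorElement_eq_one_iff_mul_comm.1 this
    · intro x hx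
      exact (show (⟨x, hx⟩ : X) ∈ (normalClosure (A : Set G)).comap X.subtype from e0 ▸ mem_top _)
  refine le_antisymm ?_ (hE ▸ sup_le XN ?_)
  · refine normalClosure_le_normal fun a ha => ?_
    obtain ⟨y, rfl⟩ := (show a ∈ δ.range from DA' ▸ ha)
    exact dE y
  · rw [← cj_eq_of_normal (normalClosure (A : Set G)) t]
    exact cj_mono t XN

/-- rank two and non-trivial centre is impossible -/
theorem St.rank_two (s : St A α) (hA : Cfsg.IsStandardSubgroup A) (hN : ¬ A.Normal) (En : E.Normal)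
    (Es : IsSimpleGroup E) (AE : A ≤ E) (cE : ∀ g ∈ 𝐂(E), g = 1)
    (h4 : ∃ p ∈ 𝐂(A), ∃ q ∈ 𝐂(A), p * p = 1 ∧ q * q = 1 ∧ p * q = q * p ∧ p ≠ 1 ∧ q ≠ 1 ∧ p ≠ q) :
    A ⊓ 𝐂(A) = ⊥ := by
  by_contra hZ
  have nz := s.nz hA hZ h4
  obtain ⟨g, k, hg, k2, k1, hk, kN, kJ⟩ := s.inner hA hN En Es AE cE h4
  obtain ⟨h1, p, hp, q, hq, p2, q2, c, p1, q1, pq⟩ := s.cfg hZ nz h4 hg k2 k1 hk kN kJ
  have m : ∀ x ∈ 𝐂(A) ⊓ 𝐍(A ^ᶜ g), g⁻¹ * x * g⁻¹⁻¹ ∈ 𝐂(A ^ᶜ g⁻¹) ⊓ 𝐍(A) := fun x hx => by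
    refine ⟨?_, ?_⟩
    · rw [← cj_centralizer]; exact cj_mem _ hx.1
    · have := cj_mem g⁻¹ hx.2
      rwa [cj_normalizer, cj_cj_inv] at this
  refine s.kill hZ nz (g := g⁻¹) (fun e => hg (by simpa using inv_mem e)) ?_ (m p hp) (m q hq)
    (cjsq p2 _) (cjsq q2 _) (by rw [conj_mul, conj_mul, c]) (cjne p1 _) (cjne q1 _)
    fun e => pq (by simpa using e)
  have := cj_mono g⁻¹ h1
  rwa [cj_cj_inv] at this

/-- restriction to a subgroup containing `A` -/
theorem St.sub (s : St A α) {M : Subgroup G} (hM : A ≤ M) :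
    St (A.subgroupOf M) fun x : M => α x := by
  have hN : ∀ g : M, g ∈ 𝐍(A.subgroupOf M) ↔ (g : G) ∈ 𝐍(A) := fun g => by
    refine ⟨fun h => mem_normalizer_of_cj_le fun x hx => ?_, fun h => mem_normalizer_of_cj_le fun x hx => ?_⟩
    · obtain ⟨a, ha, rfl⟩ := mem_cj'.1 hx
      exact conj_mem_of_mem_normalizer (a := (⟨a, hM ha⟩ : M)) h ha
    · obtain ⟨a, ha, rfl⟩ := mem_cj'.1 hx
      exact conj_mem_of_mem_normalizer (A := A) h ha
  have hC : ∀ g : M, g ∈ 𝐂(A.subgroupOf M) ↔ (g : G) ∈ 𝐂(A) := fun g =>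
    ⟨fun h a ha => congrArg Subtype.val (h ⟨a, hM ha⟩ ha), fun h a ha => Subtype.ext (h a ha)⟩
  refine ⟨⟨fun g hg k hk => s.cov.mul _ ((hN _).1 hg) _ ((hN _).1 hk), fun a ha => s.cov.mem _ ha,
    fun j hj => ?_, fun g hg => (s.cov.ker _ ((hN _).1 hg)).trans (hC _).symm, fun a ha e => ?_, ?_⟩,
    fun g k k2 k1 h1 h2 => (hN _).2 (s.ti g k (congrArg Subtype.val k2) (fun e => k1 (Subtype.ext e))
      ((hC _).1 h1) ((hC _).1 h2)), fun g e => s.nc g fun x hx => ?_⟩
  · obtain ⟨a, ha, e⟩ := s.cov.onto j hj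
    exact ⟨⟨a, hM ha⟩, ha, e⟩
  · rw [← Subgroup.orderOf_coe]; exact s.cov.odd _ ha e
  · rw [← map_le_map_iff_of_injective M.subtype_injective, map_commutator,
      map_subgroupOf_eq_of_le hM]
    exact s.cov.perf
  · obtain ⟨a, ha, rfl⟩ := mem_cj'.1 hx
    exact (hC _).1 (e (cj_mem g (show (⟨a, hM ha⟩ : M) ∈ A.subgroupOf M from ha)))

/-- the hypotheses in `E⟨t⟩` -/
theorem St.h0 (s : St A α) (En : E.Normal) (Es : IsSimpleGroup E) (AE : A ≤ E) (cE : ∀ g ∈ 𝐂(E), g = 1)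
    (tt : t * t = 1) (t1 : t ≠ 1) (tA : t ∈ 𝐂(A))
    (rk : ∀ a ∈ 𝐂(A), ∀ b ∈ 𝐂(A), a * a = 1 → b * b = 1 → a * b = b * a → a = 1 ∨ b = 1 ∨ a = b) :
    H0 (E.subgroupOf (E ⊔ zpowers t)) (A.subgroupOf (E ⊔ zpowers t)) (fun x => α x)
      ⟨t, mem_sup_right (mem_zpowers t)⟩ := by
  have hM : A ≤ E ⊔ zpowers t := AE.trans le_sup_left
  have hC : ∀ g : ↥(E ⊔ zpowers t), g ∈ 𝐂(A.subgroupOf (E ⊔ zpowers t)) ↔ (g : G) ∈ 𝐂(A) := fun g =>
    ⟨fun h a ha => congrArg Subtype.val (h ⟨a, hM ha⟩ ha), fun h a ha => Subtype.ext (h a ha)⟩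
  refine ⟨s.sub hM, En.subgroupOf _, (subgroupOfEquivOfLe le_sup_left).isSimpleGroup,
    fun a ha => AE ha, fun g => ?_, fun g hg => Subtype.ext (cE _ fun a ha =>
      congrArg Subtype.val (hg ⟨a, mem_sup_left ha⟩ ha)), Subtype.ext tt,
    fun e => t1 (congrArg Subtype.val e), (hC _).2 tA, fun a ha b hb a2 b2 c => ?_, ?_⟩
  · obtain ⟨y, hy, w, hw, e⟩ := mem_sup_of_normal_left.1 g.2
    simp only [mem_subgroupOf, coe_mul, ← e]
    rcases (mem_zp tt).1 hw with rfl | rfl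
    · exact Or.inl (by rwa [mul_one])
    · exact Or.inr (by rwa [mul_assoc, tt, mul_one])
  · simpa only [Subtype.ext_iff, coe_one] using rk a ((hC _).1 ha) b ((hC _).1 hb) (congrArg Subtype.val a2)
      (congrArg Subtype.val b2) (congrArg Subtype.val c)
  · by_contra k
    have h : ∀ g ∈ E ⊔ zpowers t, t * (g * t * g⁻¹) = (g * t * g⁻¹) * t → g * t * g⁻¹ = t :=
      fun g hg c => by_contra fun n => k ⟨⟨g, hg⟩, fun e => n (congrArg Subtype.val e), Subtype.ext c.symm⟩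
    have ho := H42.BSE.odd_card_Od (E ⊔ zpowers t)
    have hn : (((H42.BSE.Od (E ⊔ zpowers t))).subgroupOf E).Normal := ⟨fun x hx g =>
      conj_mem_of_mem_normalizer (A := H42.BSE.Od (E ⊔ zpowers t))
        (H45.pcore_norm _ _ (mem_sup_left g.2)) hx⟩
    obtain ⟨a, ha, -, -, a2, a1, -⟩ := ex6 s.cov
    rcases hn.eq_bot_or_eq_top with e | e
    · refine t1 (cE t fun x hx => ?_)
      have h1 := H24.ZD.zstar_comm (mem_sup_right (mem_zpowers t)) tt h (mem_sup_left hx)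
      have : (⟨t * x * t⁻¹ * x⁻¹, mul_mem (En.conj_mem x hx t) (inv_mem hx)⟩ : E) ∈
        (H42.BSE.Od (E ⊔ zpowers t)).subgroupOf E := h1
      rw [e, mem_bot, Subtype.ext_iff] at this
      calc x * t = t * x * t⁻¹ * x⁻¹ * (x * t) := by rw [show t * x * t⁻¹ * x⁻¹ = 1 from this, one_mul]
        _ = t * x := by group
    · have : a ∈ H42.BSE.Od (E ⊔ zpowers t) := subgroupOf_eq_top.1 e (AE ha)
      exact a1 ((P2.of_sq a2).eq_one (ho.of_dvd_nat (orderOf_dvd_natCard _ this)))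

end H25.A7
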